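import Cfsg.Agent.Lib.LocalEven.PMinFF.Structure
import Cfsg.Prelude.Def_BaumannBlocks

/-!
# Translating blocks to an ambient group

`φ : P → G`, an abelian subgroup `V` of `G` and a preimage `E'` of each block.
-/

set_option autoImplicit false
set_option linter.all false

namespace CfsgLib.LocalEven.PMinFF

open Subgroup CfsgLib.LocalEven.OffSL2
open scoped IsMulCommutative

variable {G : Type*} [Group G] {P : Type*} [Group P] [Finite P] {V : Subgroup G} [IsMulCommutative V]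
variable {p : ℕ} [Fact p.Prime]

/-- The action of `P` is conjugation by chosen representatives in `G`. -/
structure Compat (act : P →* AddMonoid.End (Additive ↥V)) (E : Subgroup P) (E' : Subgroup G) (τ : E' →* E) : Prop where
  surj : Function.Surjective τ
  conj : ∀ (x : E') (v : Additive ↥V),
    ((Additive.toMul (act (τ x : P) v) : ↥V) : G) = (x : G) * ((Additive.toMul v : ↥V) : G) * (x : G)⁻¹

variable {act : P →* AddMonoid.End (Additive ↥V)} {E : Subgroup P} {E' : Subgroup G} {τ : E' →* E}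

omit [Finite P] in
theorem Compat.normV (h : Compat act E E' τ) : E' ≤ Subgroup.normalizer (V : Set G) :=
  le_normalizer_iff.2 fun x hx v hv => by
    have this : _ = x * v * x⁻¹ := h.conj ⟨x, hx⟩ (Additive.ofMul ⟨v, hv⟩)
    rw [← this]
    exact SetLike.coe_mem _

omit [Finite P] in
theorem Compat.mem_fix (h : Compat act E E' τ) (v : Additive ↥V) :
    v ∈ fix act E ↔ ((Additive.toMul v : ↥V) : G) ∈ Subgroup.centralizer (E' : Set G) := by
  rw [Subgroup.mem_centralizer_iff]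
  constructor
  · intro hv x hx
    have h2 := h.conj ⟨x, hx⟩ v
    rw [hv _ (τ ⟨x, hx⟩).2] at h2
    exact (eq_mul_inv_iff_mul_eq.1 h2).symm
  · intro hv e he
    obtain ⟨x, hx⟩ := h.surj ⟨e, he⟩
    refine Additive.toMul.injective (Subtype.ext ?_)
    have h2 := h.conj x v
    rw [hx] at h2
    rw [h2, mul_inv_eq_iff_eq_mul]
    exact hv x x.2

omit [Finite P] in
theorem Compat.commutator_eq (h : Compat act E E' τ) :
    ⁅V, E'⁆ = (AddSubgroup.toSubgroup' (img act E)).map V.subtype := by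
  apply le_antisymm
  · rw [Subgroup.commutator_le]
    intro v hv x hx
    obtain ⟨a, ha⟩ : ∃ a : Additive ↥V, a = Additive.ofMul ⟨v, hv⟩ := ⟨_, rfl⟩
    refine ⟨Additive.toMul (-(act (τ ⟨x, hx⟩ : P) a - a)), ?_, ?_⟩
    · exact neg_mem (mem_img (τ ⟨x, hx⟩).2 a)
    · rw [toMul_neg, toMul_sub, inv_div, map_div, Subgroup.coe_subtype, h.conj, ha, toMul_ofMul, commutatorElement_def]
      show v / (x * v * x⁻¹) = v * x * v⁻¹ * x⁻¹
      rw [div_eq_mul_inv]; group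
  · rw [Subgroup.map_le_iff_le_comap]
    intro u hu
    have key : img act E ≤ (Subgroup.comap V.subtype ⁅V, E'⁆).toAddSubgroup := by
      refine (AddSubgroup.closure_le _).2 ?_
      rintro _ ⟨e, he, a, rfl⟩
      obtain ⟨x, hx⟩ := h.surj ⟨e, he⟩
      show ((Additive.toMul (act e a - a) : ↥V) : G) ∈ ⁅V, E'⁆
      have h2 := h.conj x a
      rw [hx] at h2
      rw [toMul_sub, ← Subgroup.coe_subtype, map_div, Subgroup.coe_subtype, h2,
        show (x : G) * ((Additive.toMul a : ↥V) : G) * (x : G)⁻¹ / ((Additive.toMul a : ↥V) : G) =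
          (((Additive.toMul a : ↥V) : G) * (x : G) * ((Additive.toMul a : ↥V) : G)⁻¹ * (x : G)⁻¹)⁻¹ by
            rw [div_eq_mul_inv]; group]
      exact inv_mem (Subgroup.commutator_mem_commutator (Additive.toMul a).2 x.2)
    exact key hu

omit [Finite P] in
theorem Compat.mem_commutator (h : Compat act E E' τ) {v : G} :
    v ∈ ⁅V, E'⁆ ↔ ∃ a ∈ img act E, ((Additive.toMul a : ↥V) : G) = v := by
  rw [h.commutator_eq]; exact Iff.rfl

omit [Finite P] in
theorem Compat.commutator_le (h : Compat act E E' τ) : ⁅V, E'⁆ ≤ V := by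
  rw [h.commutator_eq]; exact map_subtype_le _

omit [Finite P] in
theorem img_stable {e : P} (he : e ∈ E) {w : Additive ↥V} (hw : w ∈ img act E) : act e w ∈ img act E := by
  rw [← sub_add_cancel (act e w) w]
  exact add_mem (mem_img he w) hw

omit [Finite P] in
/-- The `SL₂` section. -/
theorem Compat.actsSL2 (h : Compat act E E' τ) {F : Type} [Field F]
    (ψ : Additive ↥V →+ (Fin 2 → F)) (ρ : E →* Matrix.SpecialLinearGroup (Fin 2) F) (hρ : Function.Surjective ρ)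
    (hψ : Function.Surjective ψ) (hker : ∀ v, ψ v = 0 ↔ v ∈ fix act E)
    (heq : ∀ (e : E) v, ψ (act (e : P) v) = mv (ρ e) (ψ v)) (hcov : ∀ v, ∃ w ∈ img act E, v - w ∈ fix act E) :
    Cfsg.ActsAsSL2OnSection F ⊤ E' ⁅V, E'⁆ (⁅V, E'⁆ ⊓ Subgroup.centralizer (E' : Set G)) := by
  have hle := h.commutator_le
  have hconj : ∀ (x : E') (u : ↥⁅V, E'⁆), ∃ w : ↥⁅V, E'⁆, (w : G) = (x : G) * (u : G) * (x : G)⁻¹ ∧
      Additive.ofMul (⟨w, hle w.2⟩ : ↥V) = act (τ x : P) (Additive.ofMul ⟨u, hle u.2⟩) := by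
    intro x u
    obtain ⟨a, ha, hau⟩ := h.mem_commutator.1 u.2
    have hau' : a = Additive.ofMul ⟨u, hle u.2⟩ := Additive.toMul.injective (Subtype.ext hau)
    refine ⟨⟨_, h.mem_commutator.2 ⟨_, img_stable (τ x).2 ha, rfl⟩⟩, ?_, ?_⟩
    · show ((Additive.toMul (act (τ x : P) a) : ↥V) : G) = _
      rw [h.conj, hau]
    · rw [← hau']; exact Additive.toMul.injective (Subtype.ext rfl)
  refine ⟨le_normalizer_iff.2 fun x hx u hu => ?_, inf_le_left,
    ρ.comp τ, AddMonoidHom.toMultiplicativeRight (ψ.comp (MonoidHom.toAdditive (Subgroup.inclusion hle))), ?_, ?_, ?_, ?_⟩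
  · obtain ⟨w, hw, -⟩ := hconj ⟨x, hx⟩ ⟨u, hu⟩
    exact (show (w : G) = x * u * x⁻¹ from hw) ▸ w.2
  · exact MonoidHom.range_eq_top.2 (hρ.comp h.surj)
  · intro f
    obtain ⟨v, hv⟩ := hψ (Multiplicative.toAdd f)
    obtain ⟨w, hw, hvw⟩ := hcov v
    refine ⟨⟨_, h.mem_commutator.2 ⟨w, hw, rfl⟩⟩, ?_⟩
    show Multiplicative.ofAdd (ψ w) = f
    have : ψ w = ψ v := by
      rw [← sub_eq_zero, ← map_sub, hker, show w - v = -(v - w) by abel]
      exact neg_mem hvw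
    rw [this, hv]; rfl
  · intro u
    show Multiplicative.ofAdd (ψ (Additive.ofMul ⟨(u : G), hle u.2⟩)) = 1 ↔ _
    rw [ofAdd_eq_one, hker, h.mem_fix, Subgroup.mem_inf]
    exact ⟨fun hu => ⟨u.2, hu⟩, fun hu => hu.2⟩
  · intro x u
    obtain ⟨w, hw, hw'⟩ := hconj x u
    refine ⟨w, hw, ?_⟩
    show ψ (Additive.ofMul ⟨(w : G), hle w.2⟩) = mv (ρ (τ x)) (ψ (Additive.ofMul ⟨(u : G), hle u.2⟩))
    rw [hw', heq]

omit [Finite P] in
/-- The permutation section. -/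
theorem Compat.actsPerm (h : Compat act E E' τ) {m : ℕ}
    (ψ : Additive ↥V →+ (Fin m → ZMod 2)) (ρ : E →* Equiv.Perm (Fin m)) (hρ : Function.Surjective ρ)
    (hsum : ∀ v, ∑ i, ψ v i = 0) (hψ : ∀ g : Fin m → ZMod 2, ∑ i, g i = 0 → ∃ v, ψ v = g)
    (hker : ∀ v, ψ v = 0 ↔ v ∈ fix act E) (heq : ∀ (e : E) v i, ψ (act (e : P) v) i = ψ v ((ρ e)⁻¹ i))
    (hcov : ∀ v, ∃ w ∈ img act E, v - w ∈ fix act E) :
    Cfsg.ActsAsOddPermModuleOnSection m ⊤ E' ⁅V, E'⁆ (⁅V, E'⁆ ⊓ Subgroup.centralizer (E' : Set G)) := by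
  have hle := h.commutator_le
  have hconj : ∀ (x : E') (u : ↥⁅V, E'⁆), ∃ w : ↥⁅V, E'⁆, (w : G) = (x : G) * (u : G) * (x : G)⁻¹ ∧
      Additive.ofMul (⟨w, hle w.2⟩ : ↥V) = act (τ x : P) (Additive.ofMul ⟨u, hle u.2⟩) := by
    intro x u
    obtain ⟨a, ha, hau⟩ := h.mem_commutator.1 u.2
    have hau' : a = Additive.ofMul ⟨u, hle u.2⟩ := Additive.toMul.injective (Subtype.ext hau)
    refine ⟨⟨_, h.mem_commutator.2 ⟨_, img_stable (τ x).2 ha, rfl⟩⟩, ?_, ?_⟩
    · show ((Additive.toMul (act (τ x : P) a) : ↥V) : G) = _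
      rw [h.conj, hau]
    · rw [← hau']; exact Additive.toMul.injective (Subtype.ext rfl)
  refine ⟨le_normalizer_iff.2 fun x hx u hu => ?_, inf_le_left,
    ρ.comp τ, AddMonoidHom.toMultiplicativeRight (ψ.comp (MonoidHom.toAdditive (Subgroup.inclusion hle))), ?_, ?_, ?_, ?_, ?_⟩
  · obtain ⟨w, hw, -⟩ := hconj ⟨x, hx⟩ ⟨u, hu⟩
    exact (show (w : G) = x * u * x⁻¹ from hw) ▸ w.2
  · exact MonoidHom.range_eq_top.2 (hρ.comp h.surj)
  · intro u
    exact hsum (Additive.ofMul ⟨(u : G), hle u.2⟩)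
  · intro g hg
    obtain ⟨v, hv⟩ := hψ g hg
    obtain ⟨w, hw, hvw⟩ := hcov v
    refine ⟨⟨_, h.mem_commutator.2 ⟨w, hw, rfl⟩⟩, ?_⟩
    show ψ w = g
    rw [← hv, ← sub_eq_zero, ← map_sub, hker, show w - v = -(v - w) by abel]
    exact neg_mem hvw
  · intro u
    show Multiplicative.ofAdd (ψ (Additive.ofMul ⟨(u : G), hle u.2⟩)) = 1 ↔ _
    rw [ofAdd_eq_one, hker, h.mem_fix, Subgroup.mem_inf]
    exact ⟨fun hu => ⟨u.2, hu⟩, fun hu => hu.2⟩
  · intro x u
    obtain ⟨w, hw, hw'⟩ := hconj x u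
    refine ⟨w, hw, fun i => ?_⟩
    show ψ (Additive.ofMul ⟨(w : G), hle w.2⟩) i = ψ (Additive.ofMul ⟨(u : G), hle u.2⟩) ((ρ (τ x))⁻¹ i)
    rw [hw', heq]

end CfsgLib.LocalEven.PMinFF
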