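import Cfsg.Agent.Lib.LocalEven.PMinFF.TwoNat

/-!
# The structure of a `p`-minimal group with an offender
-/

set_option autoImplicit false
set_option linter.all false

namespace CfsgLib.LocalEven.PMinFF

open Subgroup CfsgLib.LocalEven.OffSL2

variable {P : Type*} [Group P] [Finite P] {p : ℕ} [Fact p.Prime]
variable {U : Type*} [AddCommGroup U] [Finite U]
variable {act : P →* AddMonoid.End U} {T M : Subgroup P} {y : U}

/-- `E` is `SL₂(pⁿ)` on its natural module or, for `p = 2`, the symmetric group of degree `2ⁿ + 1` on the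
even-weight module. -/
def NatBlock (p : ℕ) (act : P →* AddMonoid.End U) (E : Subgroup P) : Prop :=
  ∃ n : ℕ, 1 ≤ n ∧
    ((∃ (F : Type) (_ : Field F) (_ : Fintype F) (ψ : U →+ (Fin 2 → F))
        (ρ : E →* Matrix.SpecialLinearGroup (Fin 2) F),
      Fintype.card F = p ^ n ∧ Function.Bijective ρ ∧ Function.Surjective ψ ∧ (∀ v, ψ v = 0 ↔ v ∈ fix act E) ∧
        ∀ (e : E) v, ψ (act (e : P) v) = mv (ρ e) (ψ v)) ∨
    (p = 2 ∧ ∃ (ρ : E →* Equiv.Perm (Fin (2 ^ n + 1))) (ψ : U →+ (Fin (2 ^ n + 1) → ZMod 2)),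
      Function.Bijective ρ ∧ (∀ v, ∑ i, ψ v i = 0) ∧
        (∀ g : Fin (2 ^ n + 1) → ZMod 2, ∑ i, g i = 0 → ∃ v, ψ v = g) ∧ (∀ v, ψ v = 0 ↔ v ∈ fix act E) ∧
        ∀ (e : E) v i, ψ (act (e : P) v) i = ψ v ((ρ e)⁻¹ i)))

theorem exists_atom (hP : PMod p act T M y) {A : Subgroup P} (hA : Exact p act A) (hne : A ≠ ⊥) :
    ∃ X, Atom p act X := by
  obtain ⟨X, ⟨hX1, hX2, hX3⟩, hmin⟩ := Set.exists_min_image {B | B ≤ A ∧ B ≠ ⊥ ∧ Exact p act B}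
    (fun B => Nat.card B) (Set.toFinite _) ⟨A, le_rfl, hne, hA⟩
  exact ⟨X, hX3, hX2, fun D hD hDe => or_iff_not_imp_left.2 fun hD0 =>
    eq_of_le_of_card_ge hD (hmin D ⟨hD.trans hX1, hD0, hDe⟩)⟩

theorem exists_block_system (hP : PMod p act T M y) {A : Subgroup P} (hA : Exact p act A) (hne : A ≠ ⊥) :
    ∃ (q : ℕ) (bl : Subgroup P → Prop), Blocks p act M q bl ∧ (∃ E, bl E) ∧ ∀ E, bl E → NatBlock p act E := by
  obtain ⟨X, hX⟩ := exists_atom hP hA hne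
  by_cases hbig : ∃ Z, Atom p act Z ∧ 3 ≤ Nat.card Z
  · obtain ⟨Z, hZ, hq⟩ := hbig
    obtain ⟨k, hk⟩ := exists_into_T hP hZ.el.isPGroup
    obtain ⟨bl, hbl, hex, hnat⟩ := big_blocks hP hq
      ⟨cj k Z, ⟨⟨hZ.cj k, card_cj k Z⟩, hk⟩⟩
    refine ⟨_, bl, hbl, hex, fun E hE => ?_⟩
    obtain ⟨B, hB, hpair⟩ := hnat E hE
    obtain ⟨n, hn⟩ := IsPGroup.iff_card.1 hB.1.el.isPGroup
    obtain ⟨F, iF, iFF, ψ, ρ, hc, hρ, hψ, hker, heq⟩ := hpair.nat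
    refine ⟨n, Nat.one_le_iff_ne_zero.2 fun h0 => ?_, Or.inl ⟨F, iF, iFF, ψ, ρ, hc.trans hn, hρ, hψ, hker, heq⟩⟩
    rw [h0, pow_zero] at hn
    exact hB.1.ne (Subgroup.eq_bot_of_card_eq B hn)
  push Not at hbig
  have htwo : ∀ Z, Atom p act Z → Nat.card Z = 2 := fun Z hZ => by
    have h1 := hbig Z hZ
    have h2 : 1 < Nat.card Z := Subgroup.one_lt_card_iff_ne_bot Z |>.2 hZ.ne
    omega
  obtain ⟨n, hn⟩ := IsPGroup.iff_card.1 hX.el.isPGroup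
  have hp : p = 2 := by
    rw [htwo X hX] at hn
    rcases n with _ | n
    · simp at hn
    · exact (Nat.prime_dvd_prime_iff_eq Fact.out Nat.prime_two).1 (hn.symm ▸ dvd_pow_self p (Nat.succ_ne_zero n))
  subst hp
  obtain ⟨E, hE, -, -⟩ := exists_blk_mem hP (Z := X) ⟨hX, htwo X hX⟩
  refine ⟨2, isBlk act, two_blocks hP, ⟨E, hE⟩, fun E hE => ?_⟩
  obtain ⟨n, ρ, ψ, h1, h2, h3, h4, h5, h6⟩ := blk_nat hP hE
  exact ⟨n, h1, Or.inr ⟨rfl, ρ, ψ, h2, h3, h4, h5, h6⟩⟩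

/-- The structure theorem, recording that the blocks collect the atoms of some order. -/
theorem structure_theorem' (hP : PMod p act T M y) {A : Subgroup P} (hA : Exact p act A) (hne : A ≠ ⊥) :
    ∃ (r : ℕ) (E : Fin r → Subgroup P), 1 ≤ r ∧
      (∀ i j, i ≠ j → ∀ a ∈ E i, ∀ b ∈ E j, a * b = b * a) ∧
      (∀ i, E i ⊓ (⨆ j ∈ {j | j ≠ i}, E j) = ⊥) ∧ (⨆ i, E i) ⊔ T = ⊤ ∧
      (∀ i j, ∃ t ∈ T, cj t (E i) = E j) ∧
      (∀ v : U, ∃ w ∈ ⨆ i, img act (E i), ∀ i, v - w ∈ fix act (E i)) ∧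
      (∀ i j, i ≠ j → img act (E i) ≤ fix act (E j)) ∧
      (∀ i, ∀ v : U, ∃ w ∈ img act (E i), v - w ∈ fix act (E i)) ∧
      (∀ i, NatBlock p act (E i)) ∧
      ∃ q, (∃ Z, AtQ p act q Z) ∧ (∀ Z, AtQ p act q Z → Z ≤ ⨆ i, E i) ∧ (⨆ i, E i) ≤ sSup {Z | AtQ p act q Z} := by
  obtain ⟨q, bl, hbl, ⟨E0, hE0⟩, hnat⟩ := exists_block_system hP hA hne
  obtain ⟨r, ⟨e⟩⟩ := Finite.exists_equiv_fin {E // bl E}
  refine ⟨r, fun i => (e.symm i : Subgroup P), ?_, fun i j hij => ?_, fun i => ?_, ?_,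
    fun i j => hbl.exists_conj_T hP (e.symm i).2 (e.symm j).2, fun v => ?_, fun i j hij => ?_,
    fun i v => hbl.cover _ (e.symm i).2 v, fun i => hnat _ (e.symm i).2, q, ?_, fun Z hZ => ?_, ?_⟩
  · exact Nat.one_le_iff_ne_zero.2 fun h0 => (h0 ▸ e ⟨E0, hE0⟩ : Fin 0).elim0
  · exact hbl.comm _ _ (e.symm i).2 (e.symm j).2 fun h => hij (e.symm.injective (Subtype.ext h))
  · rw [eq_bot_iff, ← hbl.disjoint' hP (e.symm i).2]
    refine inf_le_inf_left _ (iSup₂_le fun j hj => le_sSup ⟨(e.symm j).2, fun h => hj (e.symm.injective (Subtype.ext h))⟩)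
  · rw [eq_top_iff, ← hbl.sup_top hP hE0]
    refine sup_le_sup_right (sSup_le fun E hE => ?_) T
    exact le_iSup_of_le (e ⟨E, hE⟩) (by simp)
  · obtain ⟨w, hw, hfix⟩ := hbl.decomp hP v
    refine ⟨w, (iSup₂_le fun E hE => le_iSup_of_le (e ⟨E, hE⟩) (by simp) :
      (⨆ E ∈ {E | bl E}, img act E) ≤ ⨆ i, img act ((e.symm i : {E // bl E}) : Subgroup P)) hw, fun i => ?_⟩
    exact fix_anti act (le_sSup (e.symm i).2) hfix
  · exact hbl.img_le_fix hP (e.symm i).2 (e.symm j).2 fun h => hij (e.symm.injective (Subtype.ext h))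
  · by_contra hall
    push Not at hall
    exact hbl.notM E0 hE0 ((hbl.gen E0 hE0).trans (sSup_le fun Z hZ => absurd hZ.1 (hall Z)))
  · obtain ⟨E, hE, hZE⟩ := hbl.mem Z hZ
    exact le_iSup_of_le (e ⟨E, hE⟩) (by simpa using hZE)
  · exact iSup_le fun i => (hbl.gen _ (e.symm i).2).trans (sSup_le_sSup fun Z hZ => hZ.1)

/-- The structure theorem. -/
theorem structure_theorem (hP : PMod p act T M y) {A : Subgroup P} (hA : Exact p act A) (hne : A ≠ ⊥) :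
    ∃ (r : ℕ) (E : Fin r → Subgroup P), 1 ≤ r ∧
      (∀ i j, i ≠ j → ∀ a ∈ E i, ∀ b ∈ E j, a * b = b * a) ∧
      (∀ i, E i ⊓ (⨆ j ∈ {j | j ≠ i}, E j) = ⊥) ∧ (⨆ i, E i) ⊔ T = ⊤ ∧
      (∀ i j, ∃ t ∈ T, cj t (E i) = E j) ∧
      (∀ v : U, ∃ w ∈ ⨆ i, img act (E i), ∀ i, v - w ∈ fix act (E i)) ∧
      (∀ i j, i ≠ j → img act (E i) ≤ fix act (E j)) ∧
      (∀ i, ∀ v : U, ∃ w ∈ img act (E i), v - w ∈ fix act (E i)) ∧
      ∀ i, NatBlock p act (E i) := by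
  obtain ⟨r, E, h1, h2, h3, h4, h5, h6, h7, h8, h9, -⟩ := structure_theorem' hP hA hne
  exact ⟨r, E, h1, h2, h3, h4, h5, h6, h7, h8, h9⟩

end CfsgLib.LocalEven.PMinFF
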