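import Cfsg.Agent.Lib.LocalEven.PMinFF.Duo
import Cfsg.Agent.Lib.LocalEven.PMinFF.Structure

/-!
# All atoms have one order and generate every exact subgroup
-/

set_option autoImplicit false
set_option linter.all false

namespace CfsgLib.LocalEven.PMinFF

open Subgroup CfsgLib.LocalEven.OffSL2

variable {P : Type*} [Group P] [Finite P] {p : ℕ} [Fact p.Prime]
variable {U : Type*} [AddCommGroup U] [Finite U]
variable {act : P →* AddMonoid.End U} {T M : Subgroup P} {y : U} {q : ℕ}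

theorem Pair.duo (hP : PMod p act T M y) {B L : Subgroup P} (h : Pair act M B L) (hB : Atom p act B) {l : P}
    (hl : l ∈ L) (hne : cj l B ≠ B) :
    Duo p act B (cj l B) ∧ fix act L = fix act B ⊓ fix act (cj l B) := by
  have hL : fix act L = fix act B ⊓ fix act (PMinFF.cj l B) := by rw [← fix_sup, h.gen2 l hl hne]
  refine ⟨⟨hB, hB.cj l, card_cj l B, fun b hb u hu => h.free b hb u ?_, fun b hb u hu => ?_, ?_⟩, hL⟩
  · rw [hL]; exact AddSubgroup.mem_inf.2 ⟨hB.quad hP b hb u, hu⟩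
  · have hLu : act b u - u ∈ fix act L := by rw [hL]; exact AddSubgroup.mem_inf.2 ⟨hu, (hB.cj l).quad hP b hb u⟩
    obtain ⟨b0, hb0, rfl⟩ := hb
    change act (l * b0 * l⁻¹) u - u ∈ _ at hLu
    show act (l * b0 * l⁻¹) u = u
    have e : act b0 (act l⁻¹ u) - act l⁻¹ u = act (l * b0 * l⁻¹) u - u := by
      rw [← hLu l⁻¹ (L.inv_mem hl), map_sub, ← OffSL2.act_mul, ← OffSL2.act_mul,
        show l⁻¹ * (l * b0 * l⁻¹) = b0 * l⁻¹ by group]
    rw [OffSL2.act_mul, OffSL2.act_mul, h.free b0 hb0 _ (e ▸ hLu), OffSL2.act_inv']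
  · obtain ⟨F, iF, iFF, ψ, ρ, hc, -, hψ, hker, -⟩ := h.nat
    have hU : Nat.card U = Nat.card B * Nat.card B * Nat.card (fix act L) := by
      rw [AddSubgroup.card_eq_card_quotient_mul_card_addSubgroup ψ.ker,
        Nat.card_congr (QuotientAddGroup.quotientKerEquivOfSurjective ψ hψ).toEquiv,
        show ψ.ker = fix act L from AddSubgroup.ext fun v => hker v, Nat.card_fun, Nat.card_eq_fintype_card (α := F), hc,
        Nat.card_fin, pow_two]
    have h3 := card_sup_mul_inf (fix act B) (fix act (PMinFF.cj l B))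
    rw [card_fix_cj, ← hL] at h3
    have h1 := hB.eq
    rw [meas, hU, mul_assoc] at h1
    have h2 := Nat.eq_of_mul_eq_mul_left Nat.card_pos h1
    rw [h2] at h3
    refine eq_top_of_card _ (Nat.le_of_mul_le_mul_right ?_ (Nat.card_pos (α := fix act L)))
    rw [h3, hU]
    exact le_of_eq (by ring)

/-- In a pair the conjugates of `B` other than `B` are translates of each other by `B`. -/
theorem Pair.orbit (hP : PMod p act T M y) {B L : Subgroup P} (h : Pair act M B L) (hB : Atom p act B) {l m : P}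
    (hl : l ∈ L) (hm : m ∈ L) (hlB : cj l B ≠ B) (hmB : cj m B ≠ B) : ∃ b ∈ B, cj b (cj m B) = cj l B := by
  obtain ⟨hd, hL⟩ := h.duo hP hB hl hlB
  obtain ⟨v, hv, hv'⟩ := (h.duo hP hB hm hmB).1.exists_out
  obtain ⟨a, ha, w, hw, hvw⟩ := AddSubgroup.mem_sup.1 (hd.top ▸ AddSubgroup.mem_top v :
    v ∈ fix act B ⊔ fix act (PMinFF.cj l B))
  have hw' : w ∉ fix act B := fun hwB => hv' (hvw ▸ add_mem ha hwB)
  obtain ⟨b, hb, hz⟩ := hd.surj hP hw hw' a
  have hzL : act b w - w - a ∈ fix act L := by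
    rw [hL]; exact AddSubgroup.mem_inf.2 ⟨sub_mem (hB.quad hP b hb w) ha, hz⟩
  refine ⟨b⁻¹, B.inv_mem hb, ?_⟩
  by_cases he : PMinFF.cj (b * l) B = PMinFF.cj m B
  · rw [← he, cj_cj, inv_mul_cancel_left]
  exfalso
  refine hv' ?_
  have hv1 : v ∈ fix act (PMinFF.cj (b * l) B) := by
    have e : v = act b w - (act b w - w - a) := by rw [← hvw]; abel
    rw [e, ← cj_cj]
    exact sub_mem (act_fix_cj hw) (fix_anti act
      (cj_le_of_mem (h.le hb) (cj_le_of_mem hl h.le)) hzL)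
  refine fix_anti act h.le ?_
  rw [← h.eq_sSup (L.mul_mem (h.le hb) hl) hm he, fix_sup]
  exact ⟨hv1, hv⟩

theorem Pairs.stable (hP : PMod p act T M y) {L : Subgroup P → Subgroup P} (hL : Pairs p act T M q L) (hq : 3 ≤ q)
    {B : Subgroup P} (hB : B ∈ sig p act T q) {x l : P} (hx : cj x B = B) (hl : l ∈ L B) (hne : cj l B ≠ B) :
    ∃ m ∈ L B, cj m B = cj x (cj l B) ∧ cj m B ≠ B := by
  obtain ⟨D, hD, m, hm, he⟩ := exists_mem_pairs hP hL hq ((hB.1.cj l).cj x)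
  by_cases hDB : D = B
  · subst hDB
    refine ⟨m, hm, he, fun e => hne ?_⟩
    rw [he] at e
    have := congrArg (cj x⁻¹) (e.trans hx.symm)
    rwa [cj_cj, cj_cj, cj_cj x⁻¹ x, inv_mul_cancel, one_mul, cj_one] at this
  exfalso
  refine hne ((hL.pair B hB).eq_of_commute hB.1.1.el hl fun a ha b hb => ?_)
  have h1 := pairs_commute hP hL hq hB hD hDB (L B).one_mem hm (x * b * x⁻¹)
    (by rw [cj_one]; exact hx.le (conj_mem_cj hb)) (x * a * x⁻¹) (he ▸ conj_mem_cj ha)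
  simpa [mul_assoc] using (congrArg (fun z => x⁻¹ * z * x) h1).symm

theorem partner_big (hP : PMod p act T M y) (hq : 3 ≤ q) {X B : Subgroup P} (hX : El p X) (hB : AtQ p act q B)
    (hBX : B ≤ X) (hXT : X ≤ T) : ∃ B1, Duo p act B B1 ∧ ∀ x ∈ X, ∃ b ∈ B, cj (b * x) B1 = B1 := by
  obtain ⟨L, hL⟩ := exists_pairs (q := q) hP
  have hBs : B ∈ sig p act T q := ⟨hB, hBX.trans hXT⟩
  obtain ⟨l, hl, hne⟩ := (hL.pair B hBs).moves
  refine ⟨cj l B, ((hL.pair B hBs).duo hP hB.1 hl hne).1, fun x hx => ?_⟩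
  have hxB : cj x B = B := cj_eq_self (mem_normalizer_of_conj fun b hb => by
    rw [hX.comm x hx b (hBX hb), mul_inv_cancel_right]; exact hb)
  obtain ⟨m, hm, he, hmB⟩ := hL.stable hP hq hBs hxB hl hne
  obtain ⟨b, hb, he2⟩ := (hL.pair B hBs).orbit hP hB.1 hl hm hne hmB
  exact ⟨b, hb, by rw [← cj_cj, ← he, he2]⟩

theorem Tr.mem_cases [Fact (Nat.Prime 2)] {b : P} {c : U} {φ : U →+ ZMod 2} (h : Tr act b c φ) {z : P}
    (hz : z ∈ zpowers b) : z = 1 ∨ z = b := by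
  obtain ⟨n, rfl⟩ := hz
  have hb2 : b ^ (2 : ℤ) = 1 := by
    rw [zpow_ofNat]; exact h.atom.1.el.exp _ (mem_zpowers _)
  rcases Int.even_or_odd n with ⟨r, rfl⟩ | ⟨r, rfl⟩
  · left; show b ^ (r + r) = 1; rw [← two_mul, zpow_mul, hb2, one_zpow]
  · right; show b ^ (2 * r + 1) = b; rw [zpow_add, zpow_mul, hb2, one_zpow, one_mul, zpow_one]

theorem Tr.duo [Fact (Nat.Prime 2)] (hP : PMod 2 act T M y) {b d : P} {c c' : U} {φ φ' : U →+ ZMod 2} (h : Tr act b c φ)
    (h' : Tr act d c' φ') (h1 : φ c' = 1) : Duo 2 act (zpowers b) (zpowers d) := by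
  have hfree : ∀ {b d : P} {c c' : U} {φ φ' : U →+ ZMod 2}, Tr act b c φ → Tr act d c' φ' → φ' c = 1 →
      ∀ z ∈ zpowers b, ∀ u, act z u - u ∈ fix act (zpowers d) → act z u = u := by
    intro b d c c' φ φ' h h' h2 z hz u hu
    rcases h.mem_cases hz with rfl | rfl
    · exact OffSL2.act_one act u
    rw [h.eq, add_sub_cancel_left] at hu
    rw [h.eq]
    rcases zmod2_cases (φ u) with e | e
    · rw [e, zs_zero, add_zero]
    · rw [e, zs_one, h'.mem_fix, h2] at hu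
      exact absurd hu one_ne_zero
  have h2 : φ' c = 1 := (h.symm hP h').symm.trans h1
  refine ⟨h.atom.1, h'.atom.1, h'.atom.2.trans h.atom.2.symm, hfree h h' h2, hfree h' h h1, eq_top_iff.2 fun u _ => ?_⟩
  rw [show u = zs (φ' u) c + (u - zs (φ' u) c) by abel]
  refine AddSubgroup.add_mem_sup (h.mem_fix.2 ?_) (h'.mem_fix.2 ?_)
  · rw [zs_map, h.self hP]; exact nsmul_zero _
  · rw [map_sub, zs_map, h2]
    rcases zmod2_cases (φ' u) with e | e
    · rw [e, zs_zero, sub_zero]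
    · rw [e, zs_one, sub_self]

theorem partner_two [Fact (Nat.Prime 2)] (hP : PMod 2 act T M y) {X B : Subgroup P} (hX : El 2 X)
    (hB : AtQ 2 act 2 B) (hBX : B ≤ X) : ∃ B1, Duo 2 act B B1 ∧ ∀ x ∈ X, ∃ b ∈ B, cj (b * x) B1 = B1 := by
  classical
  obtain ⟨b, c, φ, hb, rfl⟩ := exists_tr hP hB
  obtain ⟨d, c', φ', hd, h1⟩ : ∃ d c' φ', Tr act d c' φ' ∧ φ c' = 1 := by
    by_contra hall
    push Not at hall
    refine no_central hP hB fun Z hZ => ?_
    obtain ⟨d, c', φ', hd, rfl⟩ := exists_tr hP hZ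
    rintro _ ⟨n, rfl⟩ _ ⟨n', rfl⟩
    exact (Commute.zpow_zpow (show Commute b d from
      (hb.rel hP hd ((zmod2_cases _).resolve_right (hall d c' φ' hd))).2) n n').eq
  obtain ⟨m, e, hs, hm, ⟨i, j, hij, he⟩, hcl⟩ := (sys_trans hP).exists_closed_star
    (a := c) ⟨b, φ, hb⟩ ⟨d, φ', hd⟩ (by rw [hb.fc_eq hP]; exact h1)
  have two := (sys_trans hP).two
  have hFφ : ∀ u, Fc act (e i + e j) u = φ u := fun u => by rw [← he, hb.fc_eq hP]
  obtain ⟨cls, hcls⟩ : ∃ cls : U → Set U, cls = fun a => {a, a + c} := ⟨_, rfl⟩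
  obtain ⟨Ω, hΩ⟩ : ∃ Ω : Set (Set U), Ω = {s | ∃ a ∈ Dc act, φ a = 1 ∧ s = cls a} := ⟨_, rfl⟩
  obtain ⟨I, hI⟩ : ∃ I : Finset (Fin m), I = (Finset.univ.erase i).erase j := ⟨_, rfl⟩
  have hImem : ∀ k, k ∈ I ↔ k ≠ i ∧ k ≠ j := fun k => by rw [hI]; simp [and_comm]
  have hIcard : I.card = m - 1 - 1 := by
    rw [hI, Finset.card_erase_of_mem (by simp [Ne.symm hij]), Finset.card_erase_of_mem (Finset.mem_univ _),
      Finset.card_univ, Fintype.card_fin]
  have hφk : ∀ k, k ≠ i → k ≠ j → φ (e i + e k) = 1 := fun k hki hkj => by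
    rw [← hFφ, hs.gram i j hij]; simp [dl, Ne.symm hij, Ne.symm hki, Ne.symm hkj]
  have hΩimg : Ω = (fun k => cls (e i + e k)) '' (I : Set (Fin m)) := by
    apply Set.eq_of_subset_of_subset
    · rintro s hsΩ
      rw [hΩ] at hsΩ
      obtain ⟨a, ⟨ba, φa, ha⟩, ha1, rfl⟩ := hsΩ
      rcases hcl a ⟨ba, φa, ha⟩ with ⟨k, l, hkl, hak⟩ | horth
      swap
      · have h0 := horth i j
        rw [ha.fc_eq hP, ← he, ← hb.symm hP ha, ha1] at h0
        exact absurd h0 one_ne_zero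
      rw [hak, ← hFφ, hs.gram i j hij] at ha1
      have hcase : ∃ k', k' ≠ i ∧ k' ≠ j ∧ (a = e i + e k' ∨ a = e i + e k' + c) := by
        have hjk : ∀ k', e j + e k' = e i + e k' + c := fun k' => by
          rw [he, show e i + e k' + (e i + e j) = (e i + e i) + (e j + e k') by abel, two, zero_add]
        by_cases h1 : k = i
        · subst h1
          by_cases h2 : l = j
          · subst h2; simp [dl, hij, hkl.symm] at ha1
          exact ⟨l, hkl.symm, h2, Or.inl hak⟩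
        by_cases h2 : k = j
        · subst h2
          by_cases h3 : l = i
          · subst h3; simp [dl, hij, hkl, hij.symm] at ha1
          exact ⟨l, h3, hkl.symm, Or.inr (hak.trans (hjk l))⟩
        by_cases h3 : l = i
        · subst h3; exact ⟨k, h1, h2, Or.inl (hak.trans (add_comm _ _))⟩
        by_cases h4 : l = j
        · subst h4; exact ⟨k, h1, h2, Or.inr ((hak.trans (add_comm _ _)).trans (hjk k))⟩
        simp [dl, Ne.symm h1, Ne.symm h2, Ne.symm h3, Ne.symm h4] at ha1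
      obtain ⟨k', h1', h2', hk⟩ := hcase
      refine ⟨k', (hImem k').2 ⟨h1', h2'⟩, ?_⟩
      rw [hcls]
      rcases hk with rfl | rfl
      · rfl
      · show ({e i + e k', e i + e k' + c} : Set U) = {e i + e k' + c, e i + e k' + c + c}
        rw [add_assoc _ c c, two, add_zero, Set.pair_comm]
    · rintro _ ⟨k, hk, rfl⟩
      rw [hΩ]
      obtain ⟨hki, hkj⟩ := (hImem k).1 hk
      exact ⟨_, hs.mem i k (Ne.symm hki), hφk k hki hkj, rfl⟩
  have hodd : ¬ 2 ∣ Nat.card Ω := by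
    rw [hΩimg, Nat.card_coe_set_eq, Set.InjOn.ncard_image, Set.ncard_coe_finset, hIcard]
    · obtain ⟨r, hr⟩ := star_odd hP hs hm hcl
      omega
    intro k hk l hl hkl
    obtain ⟨hki, hkj⟩ := (hImem k).1 hk
    obtain ⟨hli, hlj⟩ := (hImem l).1 hl
    simp only [hcls] at hkl
    have h2 : e i + e k ∈ ({e i + e l, e i + e l + c} : Set U) := hkl ▸ Set.mem_insert _ _
    rcases h2 with h2 | h2
    · rcases hs.inj i k i l (Ne.symm hki) (Ne.symm hli) h2 with ⟨-, h3⟩ | ⟨h3, h4⟩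
      · exact h3
      · exact absurd h4 hki
    · rw [Set.mem_singleton_iff, he, show e i + e l + (e i + e j) = (e i + e i) + (e j + e l) by abel, two, zero_add] at h2
      rcases hs.inj i k j l (Ne.symm hki) (Ne.symm hlj) h2 with ⟨h3, -⟩ | ⟨-, h3⟩
      · exact absurd h3 hij
      · exact absurd h3 hkj
  -- `X` permutes the classes
  have hxc : ∀ x ∈ X, act x c = c ∧ ∀ u, φ (act x u) = φ u := fun x hx => by
    have h2 := hb.conj x
    rw [hX.comm x hx b (hBX (mem_zpowers b)), mul_inv_cancel_right] at h2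
    obtain ⟨h3, h4⟩ := hb.unique hP h2
    exact ⟨h3.symm, fun u => by
      conv_lhs => rw [h4]
      show φ (act x⁻¹ (act x u)) = φ u
      rw [OffSL2.act_inv]⟩
  have hclsx : ∀ x ∈ X, ∀ a, (act x) '' cls a = cls (act x a) := fun x hx a => by
    rw [hcls, Set.image_pair, map_add, (hxc x hx).1]
  have hinv : ∀ x ∈ X, ∀ s ∈ Ω, (act x) '' s ∈ Ω := fun x hx s hsΩ => by
    rw [hΩ] at hsΩ ⊢
    obtain ⟨a, ⟨ba, φa, ha⟩, ha1, rfl⟩ := hsΩ
    exact ⟨act x a, ⟨_, _, ha.conj x⟩, by rw [(hxc x hx).2]; exact ha1, hclsx x hx a⟩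
  letI : MulAction X Ω :=
    { smul := fun x s => ⟨(act (x : P)) '' (s : Set U), hinv x x.2 s s.2⟩
      one_smul := fun s => Subtype.ext (by
        show (act ((1 : X) : P)) '' (s : Set U) = s
        rw [OneMemClass.coe_one, Set.image_congr fun u _ => OffSL2.act_one act u, Set.image_id'])
      mul_smul := fun x x' s => Subtype.ext (by
        show (act ((x * x' : X) : P)) '' (s : Set U) = (act (x : P)) '' ((act (x' : P)) '' (s : Set U))
        rw [Set.image_image, Subgroup.coe_mul]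
        exact Set.image_congr fun u _ => OffSL2.act_mul act _ _ u) }
  obtain ⟨⟨s, hsΩ⟩, hsfix⟩ := hX.isPGroup.nonempty_fixed_point_of_prime_not_dvd_card Ω hodd
  have hsΩ' := hsΩ
  rw [hΩ] at hsΩ'
  obtain ⟨a, ⟨b1, φ1, ha⟩, ha1, rfl⟩ := hsΩ'
  refine ⟨zpowers b1, hb.duo hP ha ha1, fun x hx => ?_⟩
  have hfixed : (act x) '' cls a = cls a := congrArg Subtype.val (hsfix ⟨x, hx⟩)
  have hmem : act x a ∈ cls a := hfixed ▸ ⟨a, by rw [hcls]; exact Set.mem_insert _ _, rfl⟩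
  have hsame : ∀ z : P, act z a = a → cj z (zpowers b1) = zpowers b1 := fun z hz => by
    have h2 := ha.conj z
    rw [hz] at h2
    rw [show cj z (zpowers b1) = zpowers (z * b1 * z⁻¹) from MonoidHom.map_zpowers _ _, h2.eq_of_centre hP ha]
  rw [hcls] at hmem
  rcases hmem with h2 | h2
  · exact ⟨1, (zpowers b).one_mem, by rw [one_mul]; exact hsame x h2⟩
  · refine ⟨b, mem_zpowers b, hsame _ ?_⟩
    rw [OffSL2.act_mul, Set.mem_singleton_iff.1 h2, hb.eq, map_add, ha1, hb.self hP, add_zero, zs_one, add_assoc,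
      two, add_zero]

variable (hP : PMod p act T M y)
include hP

theorem exists_partner {X B : Subgroup P} (hX : El p X) (hB : Atom p act B) (hBX : B ≤ X) (hXT : X ≤ T) :
    ∃ B1, Duo p act B B1 ∧ ∀ x ∈ X, ∃ b ∈ B, cj (b * x) B1 = B1 := by
  by_cases hq : 3 ≤ Nat.card B
  · exact partner_big hP hq hX ⟨hB, rfl⟩ hBX hXT
  have h1 : 1 < Nat.card B := Subgroup.one_lt_card_iff_ne_bot B |>.2 hB.ne
  have h2 : Nat.card B = 2 := by omega
  obtain ⟨n, hn⟩ := IsPGroup.iff_card.1 hB.el.isPGroup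
  have hp : p = 2 := by
    rw [h2] at hn
    rcases n with _ | n
    · simp at hn
    · exact (Nat.prime_dvd_prime_iff_eq Fact.out Nat.prime_two).1 (hn.symm ▸ dvd_pow_self p (Nat.succ_ne_zero n))
  subst hp
  exact partner_two hP hX ⟨hB, h2⟩ hBX

/-- An exact subgroup is generated by its atoms. -/
theorem Exact.le_atoms {X : Subgroup P} (hX : Exact p act X) : X ≤ sSup {Z | Atom p act Z ∧ Z ≤ X} := by
  induction hn : Nat.card X using Nat.strong_induction_on generalizing X with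
  | _ n ih =>
  by_cases h0 : X = ⊥
  · rw [h0]; exact bot_le
  obtain ⟨Z, ⟨hZ1, hZ2, hZ3⟩, hmin⟩ := Set.exists_min_image {Z | Z ≤ X ∧ Z ≠ ⊥ ∧ Exact p act Z}
    (fun Z => Nat.card Z) (Set.toFinite _) ⟨X, le_rfl, h0, hX⟩
  have hZ : Atom p act Z := ⟨hZ3, hZ2, fun D hD hDe => or_iff_not_imp_left.2 fun hD0 =>
    eq_of_le_of_card_ge hD (hmin D ⟨hD.trans hZ1, hD0, hDe⟩)⟩
  obtain ⟨k, hk⟩ := exists_into_T hP hX.el.isPGroup
  obtain ⟨B1, hduo, hperm⟩ := exists_partner hP (hX.cj k).el (hZ.cj k) (cj_mono hZ1) hk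
  obtain ⟨D, hDX, hDne, hD, hsup⟩ := hduo.peel hP (hX.cj k) (cj_mono hZ1) hperm
  have hlt : Nat.card D < n := by
    rw [← hn, ← card_cj k X]
    exact lt_of_le_of_ne (card_le_of_le hDX) fun e => hDne (eq_of_le_of_card_ge hDX e.ge)
  have hDa := ih _ hlt hD rfl
  intro x hx
  have h1 : k * x * k⁻¹ ∈ D ⊔ PMinFF.cj k Z := hsup.symm ▸ conj_mem_cj hx
  have h2 : D ⊔ PMinFF.cj k Z ≤ PMinFF.cj k (sSup {Z | Atom p act Z ∧ Z ≤ X}) := by
    refine sup_le (hDa.trans (sSup_le fun Y hY => ?_)) (cj_mono (le_sSup ⟨hZ, hZ1⟩))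
    have hYX : PMinFF.cj k⁻¹ Y ≤ X := (cj_mono (hY.2.trans hDX)).trans (by rw [cj_cj, inv_mul_cancel, cj_one])
    calc Y = PMinFF.cj k (PMinFF.cj k⁻¹ Y) := by rw [cj_cj, mul_inv_cancel, cj_one]
      _ ≤ _ := cj_mono (le_sSup (show PMinFF.cj k⁻¹ Y ∈ {Z | Atom p act Z ∧ Z ≤ X} from ⟨hY.1.cj _, hYX⟩))
  have h3 := mem_cj.1 (h2 h1)
  simpa [mul_assoc] using h3

end CfsgLib.LocalEven.PMinFF
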