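import Cfsg.Agent.Lib.LocalEven.OffenderSL2Core
import Cfsg.Agent.Lib.LocalEvenB.PGV.Basic
import Cfsg.Agent.Lib.Core.Cores
import Cfsg.Agent.Lib.Transfer.Conj

/-!
# Offenders in `p`-minimal groups: basic tools

Conjugates, `O_p` of a subgroup, maximal `p`-subgroups of a subgroup, and the replacement theorem for
elementary abelian offenders acting through `AddMonoid.End`.
-/

set_option autoImplicit false
set_option linter.all false

namespace CfsgLib.LocalEven.PMinFF

open Subgroup CfsgLib.LocalEven.OffSL2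

variable {P : Type*} [Group P]

/-- The conjugate `x A x⁻¹`. -/
abbrev cj (x : P) (A : Subgroup P) : Subgroup P := A.map (MulAut.conj x).toMonoidHom

theorem conj_mem_cj {x a : P} {A : Subgroup P} (ha : a ∈ A) : x * a * x⁻¹ ∈ cj x A := ⟨a, ha, rfl⟩

theorem mem_cj {x z : P} {A : Subgroup P} : z ∈ cj x A ↔ x⁻¹ * z * x ∈ A := by
  constructor
  · rintro ⟨a, ha, rfl⟩
    simpa [mul_assoc] using ha
  · intro h
    have := conj_mem_cj (x := x) h
    simpa [mul_assoc] using this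

theorem cj_cj (x z : P) (A : Subgroup P) : cj x (cj z A) = cj (x * z) A := by
  ext w
  rw [mem_cj, mem_cj, mem_cj, show z⁻¹ * (x⁻¹ * w * x) * z = (x * z)⁻¹ * w * (x * z) by group]

theorem cj_one (A : Subgroup P) : cj 1 A = A := by ext w; rw [mem_cj]; simp

theorem card_cj (x : P) (A : Subgroup P) : Nat.card (cj x A) = Nat.card A :=
  card_map_of_injective (MulAut.conj x).injective

theorem cj_le {x : P} {A R : Subgroup P} : cj x A ≤ R ↔ ∀ a ∈ A, x * a * x⁻¹ ∈ R :=
  ⟨fun h a ha => h (conj_mem_cj ha), fun h => by rintro _ ⟨a, ha, rfl⟩; exact h a ha⟩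

theorem cj_mono {x : P} {A R : Subgroup P} (h : A ≤ R) : cj x A ≤ cj x R := map_mono h

theorem isPGroup_cj {p : ℕ} {x : P} {A : Subgroup P} (h : IsPGroup p A) : IsPGroup p (cj x A) := h.map _

theorem cj_le_of_mem {x : P} {A R : Subgroup P} (hx : x ∈ R) (h : A ≤ R) : cj x A ≤ R :=
  cj_le.2 fun _ ha => R.mul_mem (R.mul_mem hx (h ha)) (R.inv_mem hx)

theorem cj_eq_self {x : P} {A : Subgroup P} (hx : x ∈ normalizer (A : Set P)) : cj x A = A := by
  ext w
  rw [mem_cj]
  have := mem_normalizer_iff.1 (inv_mem hx) w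
  rw [inv_inv] at this
  exact this.symm

theorem mem_normalizer_of_conj [Finite P] {A : Subgroup P} {x : P} (h : ∀ a ∈ A, x * a * x⁻¹ ∈ A) :
    x ∈ normalizer (A : Set P) := by
  have he : cj x A = A := eq_of_le_of_card_ge (cj_le.2 h) (card_cj x A).ge
  rw [mem_normalizer_iff]
  refine fun a => ⟨h a, fun ha => ?_⟩
  have : x * a * x⁻¹ ∈ cj x A := by rw [he]; exact ha
  rw [mem_cj] at this
  simpa [mul_assoc] using this

/-- `O_p` of the subgroup `L`. -/
def opc (p : ℕ) (L : Subgroup P) : Subgroup P := (Cfsg.pCore p L).map L.subtype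

theorem opc_le (p : ℕ) (L : Subgroup P) : opc p L ≤ L := map_subtype_le _

theorem isPGroup_opc (p : ℕ) (L : Subgroup P) : IsPGroup p (opc p L) := (CfsgLib.Core.isPGroup_pCore p L).map _

theorem opc_conj {p : ℕ} {L : Subgroup P} {l q : P} (hl : l ∈ L) (hq : q ∈ opc p L) :
    l * q * l⁻¹ ∈ opc p L := by
  obtain ⟨q', hq', rfl⟩ := hq
  exact ⟨⟨l, hl⟩ * q' * ⟨l, hl⟩⁻¹, (CfsgLib.Core.normal_pCore p L).conj_mem _ hq' _, rfl⟩

theorem le_opc {p : ℕ} {L N : Subgroup P} (hNL : N ≤ L) (hN : IsPGroup p N)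
    (hn : ∀ l ∈ L, ∀ n ∈ N, l * n * l⁻¹ ∈ N) : N ≤ opc p L := by
  haveI : (N.subgroupOf L).Normal := ⟨fun n hn' l => mem_subgroupOf.2 (hn l l.2 n (mem_subgroupOf.1 hn'))⟩
  intro x hx
  exact ⟨⟨x, hNL hx⟩, CfsgLib.Core.le_pCore (N := N.subgroupOf L) hN.comap_subtype (mem_subgroupOf.2 hx), rfl⟩

/-- `R` is a maximal `p`-subgroup of `L`. -/
structure MaxP (p : ℕ) (R L : Subgroup P) : Prop where
  le : R ≤ L
  pgr : IsPGroup p R
  max : ∀ S : Subgroup P, R ≤ S → S ≤ L → IsPGroup p S → S = R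

theorem MaxP.mono {p : ℕ} {R L L' : Subgroup P} (h : MaxP p R L) (hR : R ≤ L') (hL : L' ≤ L) : MaxP p R L' :=
  ⟨hR, h.pgr, fun S h1 h2 => h.max S h1 (h2.trans hL)⟩

theorem MaxP.of_sylow {p : ℕ} (T : Sylow p P) {L : Subgroup P} (h : (T : Subgroup P) ≤ L) :
    MaxP p (T : Subgroup P) L := ⟨h, T.2, fun _ h1 _ h3 => T.3 h3 h1⟩

variable [Finite P] {p : ℕ} [Fact p.Prime]

theorem exists_maxP {S L : Subgroup P} (hS : IsPGroup p S) (hSL : S ≤ L) : ∃ R, S ≤ R ∧ MaxP p R L := by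
  obtain ⟨R, hR⟩ := (Set.toFinite {R : Subgroup P | S ≤ R ∧ R ≤ L ∧ IsPGroup p R}).exists_maximal ⟨S, le_rfl, hSL, hS⟩
  exact ⟨R, hR.1.1, hR.1.2.1, hR.1.2.2, fun X h1 h2 h3 => le_antisymm (hR.2 ⟨hR.1.1.trans h1, h2, h3⟩ h1) h1⟩

theorem MaxP.exists_conj {R L S : Subgroup P} (h : MaxP p R L) (hS : IsPGroup p S) (hSL : S ≤ L) :
    ∃ k ∈ L, cj k S ≤ R := by
  let Rs : Sylow p L := ⟨R.subgroupOf L, h.pgr.comap_subtype, fun {X} hX hle => by
    refine le_antisymm (fun x hx => ?_) hle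
    have h1 : R ≤ X.map L.subtype := fun r hr => ⟨⟨r, h.le hr⟩, hle (mem_subgroupOf.2 hr), rfl⟩
    rw [mem_subgroupOf, ← h.max _ h1 (map_subtype_le _) (hX.map _)]
    exact ⟨x, hx, rfl⟩⟩
  obtain ⟨Ss, hSs⟩ := (hS.comap_subtype : IsPGroup p (S.subgroupOf L)).exists_le_sylow
  obtain ⟨k, hk⟩ := MulAction.exists_smul_eq L Ss Rs
  refine ⟨k, k.2, cj_le.2 fun s hs => ?_⟩
  have : k * ⟨s, hSL hs⟩ * k⁻¹ ∈ (Rs : Subgroup L) := by
    rw [← hk]
    exact ⟨⟨s, hSL hs⟩, hSs (mem_subgroupOf.2 hs), rfl⟩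
  exact mem_subgroupOf.1 this

theorem opc_le_maxP {R L : Subgroup P} (h : MaxP p R L) : opc p L ≤ R := by
  obtain ⟨k, hk, hle⟩ := h.exists_conj (isPGroup_opc p L) (opc_le p L)
  intro q hq
  have := hle (conj_mem_cj (x := k) (opc_conj (L.inv_mem hk) hq))
  simpa [mul_assoc] using this

/-- The group is elementary abelian of exponent `p`. -/
structure El (p : ℕ) (A : Subgroup P) : Prop where
  comm : ∀ a ∈ A, ∀ b ∈ A, a * b = b * a
  exp : ∀ a ∈ A, a ^ p = 1

omit [Finite P] [Fact p.Prime] in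
theorem El.mono {A B : Subgroup P} (h : El p A) (hB : B ≤ A) : El p B :=
  ⟨fun a ha b hb => h.comm a (hB ha) b (hB hb), fun a ha => h.exp a (hB ha)⟩

omit [Finite P] [Fact p.Prime] in
theorem El.cj {A : Subgroup P} (h : El p A) (x : P) : El p (cj x A) := by
  constructor
  · rintro _ ⟨a, ha, rfl⟩ _ ⟨b, hb, rfl⟩
    rw [← map_mul, h.comm a ha b hb, map_mul]
  · rintro _ ⟨a, ha, rfl⟩
    rw [← map_pow, h.exp a ha, map_one]

omit [Finite P] in
theorem El.isPGroup {A : Subgroup P} (h : El p A) : IsPGroup p A :=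
  fun a => ⟨1, Subtype.ext (by simpa using h.exp a a.2)⟩

omit [Finite P] [Fact p.Prime] in
theorem El.sup {A B : Subgroup P} (hA : El p A) (hB : El p B) (hc : ∀ a ∈ A, ∀ b ∈ B, a * b = b * a) :
    El p (A ⊔ B) := by
  have hnorm : A ≤ normalizer (B : Set P) := le_normalizer_iff.2 fun a ha b hb => by
    rw [hc a ha b hb, mul_inv_cancel_right]; exact hb
  have hdec : ∀ x ∈ A ⊔ B, ∃ a ∈ A, ∃ b ∈ B, x = a * b := fun x hx => by
    rw [← SetLike.mem_coe, coe_mul_of_left_le_normalizer_right A B hnorm] at hx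
    obtain ⟨a, ha, b, hb, e⟩ := hx
    exact ⟨a, ha, b, hb, e.symm⟩
  refine ⟨fun x hx z hz => ?_, fun x hx => ?_⟩
  · obtain ⟨a, ha, b, hb, rfl⟩ := hdec x hx
    obtain ⟨c, hc', d, hd, rfl⟩ := hdec z hz
    have k1 : Commute a (c * d) := (Commute.mul_right (hA.comm a ha c hc') (hc a ha d hd))
    have k2 : Commute b (c * d) := (Commute.mul_right (hc c hc' b hb).symm (hB.comm b hb d hd))
    exact k1.mul_left k2
  · obtain ⟨a, ha, b, hb, rfl⟩ := hdec x hx
    rw [Commute.mul_pow (hc a ha b hb), hA.exp a ha, hB.exp b hb, one_mul]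

variable {U : Type*} [AddCommGroup U] [Finite U]

/-- `A` acts quadratically. -/
def Quad (act : P →* AddMonoid.End U) (A : Subgroup P) : Prop := ∀ a ∈ A, ∀ v, act a v - v ∈ fix act A

/-- `|A| |C(A)|`. -/
noncomputable def meas (act : P →* AddMonoid.End U) (A : Subgroup P) : ℕ := Nat.card A * Nat.card (fix act A)

omit [Finite P] [Finite U] [Fact p.Prime] in
theorem fix_anti (act : P →* AddMonoid.End U) {B A : Subgroup P} (h : B ≤ A) : fix act A ≤ fix act B :=
  fun _ hv b hb => hv b (h hb)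

omit [Finite P] [Finite U] [Fact p.Prime] in
theorem fix_bot (act : P →* AddMonoid.End U) : fix act ⊥ = ⊤ :=
  eq_top_iff.2 fun v _ a ha => by rw [mem_bot.1 ha, OffSL2.act_one]

omit [Finite P] [Finite U] [Fact p.Prime] in
theorem meas_bot (act : P →* AddMonoid.End U) : meas act ⊥ = Nat.card U := by
  rw [meas, Subgroup.card_bot, one_mul, fix_bot, AddSubgroup.card_top]

omit [Finite P] [Finite U] [Fact p.Prime] in
theorem fix_sup (act : P →* AddMonoid.End U) (B C : Subgroup P) : fix act (B ⊔ C) = fix act B ⊓ fix act C :=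
  le_antisymm (le_inf (fix_anti act le_sup_left) (fix_anti act le_sup_right)) fun v hv a ha =>
    (sup_le (fun x hx => hv.1 x hx) (fun x hx => hv.2 x hx) : B ⊔ C ≤ stabV act v) ha

omit [Finite P] [Finite U] [Fact p.Prime] in
theorem card_fix_cj (act : P →* AddMonoid.End U) (x : P) (A : Subgroup P) :
    Nat.card (fix act (cj x A)) = Nat.card (fix act A) := Nat.card_congr
  { toFun := fun v => ⟨act x⁻¹ v, (mem_fix_conj act).1 v.2⟩
    invFun := fun v => ⟨act x v, (mem_fix_conj act).2 (by rw [OffSL2.act_inv]; exact v.2)⟩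
    left_inv := fun v => Subtype.ext (OffSL2.act_inv' act x v)
    right_inv := fun v => Subtype.ext (OffSL2.act_inv act x v) }

omit [Finite P] [Finite U] [Fact p.Prime] in
theorem meas_cj (act : P →* AddMonoid.End U) (x : P) (A : Subgroup P) : meas act (cj x A) = meas act A := by
  rw [meas, meas, card_cj, card_fix_cj]

omit [Finite P] [Finite U] [Fact p.Prime] in
theorem Quad.mono {act : P →* AddMonoid.End U} {A B : Subgroup P} (h : Quad act A) (hB : B ≤ A) : Quad act B :=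
  fun b hb v => fix_anti act hB (h b (hB hb) v)

omit [Finite P] [Finite U] [Fact p.Prime] in
theorem Quad.cj {act : P →* AddMonoid.End U} {A : Subgroup P} (h : Quad act A) (x : P) :
    Quad act (cj x A) := by
  rintro _ ⟨a, ha, rfl⟩ v
  show act (x * a * x⁻¹) v - v ∈ _
  refine (mem_fix_conj act).2 ?_
  rw [map_sub, ← OffSL2.act_mul, show x⁻¹ * (x * a * x⁻¹) = a * x⁻¹ by group, OffSL2.act_mul]
  exact h a ha _

omit [Finite P] [Fact p.Prime] in
theorem card_le_fix (act : P →* AddMonoid.End U) {S : AddSubgroup U} {A : Subgroup P} (h : S ≤ fix act A) :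
    Nat.card S ≤ Nat.card (fix act A) := Nat.card_le_card_of_injective _ (AddSubgroup.inclusion_injective h)

omit [Finite P] [Fact p.Prime] in
theorem add_eq_of_card {S S' : AddSubgroup U} (h : S ≤ S') (hc : Nat.card S' ≤ Nat.card S) : S = S' :=
  SetLike.coe_injective (Set.eq_of_subset_of_ncard_le h (by
    rwa [← Nat.card_coe_set_eq, ← Nat.card_coe_set_eq]) (Set.toFinite _))

theorem quad_of_min_aux [Module (ZMod p) U] {act : P →* AddMonoid.End U} {A : Subgroup P} (hA : El p A)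
    (h1 : Nat.card U ≤ meas act A) (hmin : ∀ B ≤ A, B ≠ A → B ≠ ⊥ → meas act B < meas act A) :
    Quad act A := by
  let ρ : Representation (ZMod p) P U :=
    { toFun := fun g => AddMonoidHom.toZModLinearMap p (act g)
      map_one' := by
        ext v
        exact OffSL2.act_one act v
      map_mul' := fun g k => by
        ext v
        exact OffSL2.act_mul act g k v }
  have hρ : ∀ (g : P) (v : U), ρ g v = act g v := fun g v => rfl
  have hmeas : ∀ B : Subgroup P, LocalEvenB.PGV.meas ρ B = meas act B := fun B => by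
    refine congrArg (Nat.card B * ·) (Nat.card_congr (Equiv.subtypeEquivRight fun v => ?_))
    show (∀ b ∈ B, ρ b v = v) ↔ (∀ b ∈ B, act b v = v)
    simp only [hρ]
  have hbest : ∀ B ≤ A, LocalEvenB.PGV.meas ρ B ≤ LocalEvenB.PGV.meas ρ A := fun B hB => by
    rw [hmeas, hmeas]
    by_cases e : B = A
    · rw [e]
    by_cases e0 : B = ⊥
    · rw [e0, meas_bot]; exact h1
    exact (hmin B hB e e0).le
  obtain ⟨h2, h3⟩ := LocalEvenB.PGV.tie hA.comm hbest Set.univ
  rw [hmeas, hmeas] at h2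
  by_cases e : LocalEvenB.PGV.repl ρ A Set.univ = A
  · intro a ha v b hb
    have := (e.ge hb).2 (ρ a v - v) ⟨a, ha, v, trivial, rfl⟩
    rwa [hρ, hρ] at this
  have e0 : LocalEvenB.PGV.repl ρ A Set.univ = ⊥ := by
    by_contra hne
    exact (hmin _ inf_le_left e hne).ne h2
  rw [e0] at h3
  have htop : LocalEvenB.PGV.fixSub ρ (⊥ : Subgroup P) = ⊤ := eq_top_iff.2 fun v _ b hb => by
    rw [mem_bot.1 hb, map_one, Module.End.one_apply]
  rw [htop] at h3
  obtain ⟨W, hW⟩ : ∃ W, W = Submodule.span (ZMod p) (LocalEvenB.PGV.dset ρ A (Set.univ : Set U)) := ⟨_, rfl⟩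
  rw [← hW] at h3
  have hWi : ∀ a ∈ A, ∀ x ∈ W, ρ a x ∈ W := fun a ha x hx => by
    have h4 : W ≤ W.comap (ρ a) := by
      conv_lhs => rw [hW]
      rw [Submodule.span_le]
      rintro _ ⟨c, hc, z, -, rfl⟩
      refine hW ▸ Submodule.subset_span ⟨c, hc, ρ a z, trivial, ?_⟩
      rw [map_sub, ← Module.End.mul_apply, ← map_mul, hA.comm c hc a ha, map_mul, Module.End.mul_apply]
    exact h4 hx
  have hW0 : W = ⊥ := by
    refine LocalEvenB.PGV.eq_bot_of_le_aug hA.comm hA.exp W hWi (Set.toFinite (A : Set P)).toFinset (fun c hc => by simpa using hc) ?_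
    conv_lhs => rw [hW]
    rw [Submodule.span_le]
    rintro _ ⟨c, hc, z, -, rfl⟩
    obtain ⟨w, hw, f, hf, rfl⟩ := Submodule.mem_sup.1 (h3 ▸ Submodule.mem_top : z ∈ W ⊔ LocalEvenB.PGV.fixSub ρ A)
    have hcm : c ∈ (Set.toFinite (A : Set P)).toFinset := by simpa using hc
    refine (Finset.le_sup (f := fun c => W.map (ρ c - 1)) hcm : W.map (ρ c - 1) ≤ _) ⟨w, hw, ?_⟩
    rw [LinearMap.sub_apply, Module.End.one_apply, map_add, hf c hc]
    abel
  rw [hW0, bot_sup_eq] at h3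
  intro a ha v b hb
  have hfixv : ∀ v, act a v = v := fun v => by
    rw [← hρ]; exact (h3 ▸ Submodule.mem_top : v ∈ LocalEvenB.PGV.fixSub ρ A) a ha
  rw [hfixv, sub_self, map_zero]

/-- A subgroup all of whose proper nontrivial subgroups have smaller measure acts quadratically. -/
theorem quad_of_min {act : P →* AddMonoid.End U} (hpU : ∀ u : U, p • u = 0) {A : Subgroup P} (hA : El p A)
    (h1 : Nat.card U ≤ meas act A) (hmin : ∀ B ≤ A, B ≠ A → B ≠ ⊥ → meas act B < meas act A) :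
    Quad act A :=
  @quad_of_min_aux P _ _ p _ U _ _ (AddCommGroup.zmodModule hpU) act A hA h1 hmin

end CfsgLib.LocalEven.PMinFF
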