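import Cfsg.Agent.Lib.LocalEven.PMinFF.Cent
import Cfsg.Agent.Lib.LocalEven.OffenderSL2Main
import Mathlib.LinearAlgebra.Projectivization.PSL.PSL2

/-!
# Lifting offenders to an extension

`π : V →+ U` is equivariant and onto. An offender on `V` is exact on `U`, fixes `ker π` and its fixed points
cover those on `U`. A minimal one is an atom; the orbit of such an atom under `T` produces a vector fixed by
`T` outside `ker π`.
-/

set_option autoImplicit false
set_option linter.all false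

namespace CfsgLib.LocalEven.PMinFF

open Subgroup CfsgLib.LocalEven.OffSL2

variable {P : Type*} [Group P] [Finite P] {p : ℕ} [Fact p.Prime]
variable {U : Type*} [AddCommGroup U] [Finite U] {V : Type*} [AddCommGroup V] [Finite V]
variable {act : P →* AddMonoid.End U} {actV : P →* AddMonoid.End V} {π : V →+ U} {T M : Subgroup P} {y : U}

/-- `v ↦ e v - v`. -/
def dif {W : Type*} [AddCommGroup W] (e : AddMonoid.End W) : W →+ W :=
  AddMonoidHom.mk' (fun v => e v - v) fun a b => by rw [map_add]; abel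

/-- An equivariant surjection. -/
structure Lift (p : ℕ) (actV : P →* AddMonoid.End V) (act : P →* AddMonoid.End U) (π : V →+ U) : Prop where
  surj : Function.Surjective π
  equiv : ∀ g v, π (actV g v) = act g (π v)
  hpV : ∀ v : V, p • v = 0
  injV : Function.Injective actV

/-- Fixed points on `U` lift to fixed points on `V`. -/
def Covers (actV : P →* AddMonoid.End V) (act : P →* AddMonoid.End U) (π : V →+ U) (X : Subgroup P) : Prop :=
  ∀ u ∈ fix act X, ∃ v ∈ fix actV X, π v = u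

/-- The kernel is fixed. -/
def FixK (actV : P →* AddMonoid.End V) (π : V →+ U) (X : Subgroup P) : Prop :=
  ∀ v, π v = 0 → v ∈ fix actV X

omit [Finite P] [Finite U] [Finite V] in
theorem Lift.map_fix (h : Lift p actV act π) {X : Subgroup P} {v : V} (hv : v ∈ fix actV X) : π v ∈ fix act X :=
  fun x hx => by rw [← h.equiv, hv x hx]

omit [Finite P] [Finite U] [Finite V] in
theorem Lift.ker_stable (h : Lift p actV act π) (g : P) {v : V} (hv : π v = 0) : π (actV g v) = 0 := by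
  rw [h.equiv, hv, map_zero]

omit [Finite P] [Finite U] [Finite V] in
theorem Covers.cj (h : Lift p actV act π) {X : Subgroup P} (hX : Covers actV act π X) (k : P) :
    Covers actV act π (cj k X) := by
  intro u hu
  obtain ⟨v, hv, e⟩ := hX _ ((mem_fix_conj act).1 hu)
  exact ⟨actV k v, act_fix_cj hv, by rw [h.equiv, e, OffSL2.act_inv']⟩

omit [Finite P] [Finite U] [Finite V] in
theorem FixK.cj (h : Lift p actV act π) {X : Subgroup P} (hX : FixK actV π X) (k : P) : FixK actV π (cj k X) :=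
  fun v hv => (mem_fix_conj actV).2 (hX _ (h.ker_stable _ hv))

omit [Finite P] [Finite U] [Finite V] in
theorem Lift.card_V (h : Lift p actV act π) : Nat.card V = Nat.card U * Nat.card π.ker := by
  rw [AddSubgroup.card_eq_card_quotient_mul_card_addSubgroup π.ker,
    Nat.card_congr (QuotientAddGroup.quotientKerEquivOfSurjective π h.surj).toEquiv]

/-- An offender on `V` is exact on `U`, fixes the kernel and covers. -/
theorem Lift.of_meas (h : Lift p actV act π) (hP : PMod p act T M y) {X : Subgroup P} (hX : El p X)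
    (hm : Nat.card V ≤ meas actV X) : Exact p act X ∧ Covers actV act π X ∧ FixK actV π X := by
  obtain ⟨f, hf⟩ : ∃ f, f = π.comp (fix actV X).subtype := ⟨_, rfl⟩
  have hsplit : Nat.card (fix actV X) = Nat.card f.range * Nat.card f.ker := by
    rw [AddSubgroup.card_eq_card_quotient_mul_card_addSubgroup f.ker,
      Nat.card_congr (QuotientAddGroup.quotientKerEquivRange f).toEquiv]
  have hr : f.range ≤ fix act X := by
    rintro _ ⟨v, rfl⟩
    rw [hf]
    exact h.map_fix v.2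
  have hfv : ∀ z : fix actV X, f z = π (z : V) := fun z => by rw [hf]; rfl
  let j : f.ker → π.ker := fun v => ⟨((v : fix actV X) : V), (hfv _).symm.trans v.2⟩
  have hj : Function.Injective j := fun v w e =>
    Subtype.ext (Subtype.ext (congrArg (fun x : π.ker => (x : V)) e))
  have hk : Nat.card f.ker ≤ Nat.card π.ker := Nat.card_le_card_of_injective j hj
  have hu := meas_le_card hP hX
  have hr' := card_le_fix act hr
  have hKpos : 0 < Nat.card π.ker := Nat.card_pos
  rw [h.card_V, meas, hsplit] at hm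
  rw [meas] at hu
  have e1 : Nat.card X * (Nat.card f.range * Nat.card f.ker) ≤ Nat.card X * Nat.card (fix act X) * Nat.card π.ker := by
    rw [mul_assoc]; exact Nat.mul_le_mul_left _ (Nat.mul_le_mul hr' hk)
  have e2 : meas act X = Nat.card U :=
    le_antisymm (by rw [meas]; exact hu) (Nat.le_of_mul_le_mul_right (by rw [meas]; exact hm.trans e1) hKpos)
  have hm' : Nat.card X * Nat.card (fix act X) * Nat.card π.ker ≤ Nat.card X * (Nat.card f.range * Nat.card f.ker) := by
    rw [← meas, e2]; exact hm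
  rw [mul_assoc] at hm'
  have hm2 := Nat.le_of_mul_le_mul_left hm' Nat.card_pos
  have hreq : Nat.card (fix act X) ≤ Nat.card f.range :=
    Nat.le_of_mul_le_mul_right (hm2.trans (Nat.mul_le_mul_left _ hk)) hKpos
  have hkeq : Nat.card π.ker ≤ Nat.card f.ker :=
    Nat.le_of_mul_le_mul_left (hm2.trans (Nat.mul_le_mul_right _ hr')) Nat.card_pos
  refine ⟨⟨hX, e2⟩, fun u hu' => ?_, fun v hv => ?_⟩
  · rw [← add_eq_of_card hr hreq] at hu'
    obtain ⟨v, e⟩ := hu'
    rw [hf] at e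
    exact ⟨v, v.2, e⟩
  · obtain ⟨z, hz⟩ := ((Nat.bijective_iff_injective_and_card j).2 ⟨hj, le_antisymm hk hkeq⟩).2 ⟨v, hv⟩
    have : ((z : fix actV X) : V) = v := congrArg Subtype.val hz
    exact this ▸ (z : fix actV X).2

/-- An exact subgroup with covering fixing the kernel is an offender on `V`. -/
theorem Lift.meas_of (h : Lift p actV act π) {X : Subgroup P} (hX : Exact p act X)
    (hc : Covers actV act π X) (hk : FixK actV π X) : Nat.card V ≤ meas actV X := by
  obtain ⟨f, hf⟩ : ∃ f, f = π.comp (fix actV X).subtype := ⟨_, rfl⟩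
  have hsplit : Nat.card (fix actV X) = Nat.card f.range * Nat.card f.ker := by
    rw [AddSubgroup.card_eq_card_quotient_mul_card_addSubgroup f.ker,
      Nat.card_congr (QuotientAddGroup.quotientKerEquivRange f).toEquiv]
  have hr : fix act X ≤ f.range := fun u hu => by
    obtain ⟨v, hv, e⟩ := hc u hu
    exact ⟨⟨v, hv⟩, by rw [hf]; exact e⟩
  have hr' : Nat.card (fix act X) ≤ Nat.card f.range :=
    Nat.card_le_card_of_injective _ (AddSubgroup.inclusion_injective hr)
  have hk' : Nat.card π.ker ≤ Nat.card f.ker :=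
    Nat.card_le_card_of_injective (fun v : π.ker => (⟨⟨v, hk v v.2⟩, by rw [hf]; exact v.2⟩ : f.ker))
      fun v w e => Subtype.ext (congrArg (fun x : f.ker => ((x : fix actV X) : V)) e)
  rw [h.card_V, ← hX.eq, meas, meas, hsplit, mul_assoc]
  exact Nat.mul_le_mul_left _ (Nat.mul_le_mul hr' hk')

/-- An atom of order above `p` inside a covering quadratic group covers. -/
theorem Lift.covers_big (h : Lift p actV act π) (hP : PMod p act T M y) {A B : Subgroup P} (hB : Atom p act B)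
    (hBA : B ≤ A) (hA : Quad act A) (hAc : Covers actV act π A) (hAk : FixK actV π A) (hbig : p < Nat.card B) :
    Covers actV act π B := by
  obtain ⟨k0, -, hk0⟩ := hP.syl.exists_conj hB.el.isPGroup le_top
  obtain ⟨h0, L, hc⟩ := exists_minC hP hk0 le_rfl (hB.cj k0).ne (Or.inl rfl)
  rw [cj_cj] at hc
  obtain ⟨k, hk⟩ : ∃ k, k = h0 * k0 := ⟨_, rfl⟩
  rw [← hk] at hc
  suffices hgoal : Covers actV act π (cj k B) by
    have := hgoal.cj h k⁻¹
    rwa [cj_cj, inv_mul_cancel, cj_one] at this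
  obtain ⟨B', hB'⟩ : ∃ B', B' = cj k B := ⟨_, rfl⟩
  obtain ⟨A', hA'⟩ : ∃ A', A' = cj k A := ⟨_, rfl⟩
  rw [← hB'] at hc ⊢
  have hBA' : B' ≤ A' := hB' ▸ hA' ▸ cj_mono hBA
  have hAq : Quad act A' := hA' ▸ hA.cj k
  have hAc' : Covers actV act π A' := hA' ▸ hAc.cj h k
  have hBk : FixK actV π B' := fun v hv => fix_anti actV hBA' ((hA' ▸ hAk.cj h k : FixK actV π A') v hv)
  have hB1 : Atom p act B' := hB' ▸ hB.cj k
  have hq : Quad act B' := hB1.quad hP
  have hcard : Nat.card B' = Nat.card B := hB' ▸ card_cj k B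
  -- the candidate
  obtain ⟨A0, hA0⟩ : ∃ A0, A0 = B' ⊓ opc p L := ⟨_, rfl⟩
  have hm := hc.meas_le hP hq
  have hs := hc.sup_le_fix hP hq
  rw [hB1.eq, ← hA0] at hm
  rw [← hA0] at hs
  have hA0le : A0 ≤ B' := hA0 ▸ inf_le_left
  have hbot : A0 = ⊥ := (hB1.min A0 hA0le ⟨hB1.el.mono hA0le,
    le_antisymm (meas_le_card hP (hB1.el.mono hA0le)) (hm.trans (Nat.mul_le_mul_left _ (card_le_fix act hs)))⟩).resolve_right
    fun e => hc.BQ (inf_eq_left.1 (hA0.symm.trans e))
  have hnQ : ∀ b ∈ B', b ≠ 1 → b ∉ opc p L := fun b hb hb1 hq' => by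
    have : b ∈ A0 := hA0 ▸ ⟨hb, hq'⟩
    rw [hbot, mem_bot] at this
    exact hb1 this
  rw [hbot, Subgroup.card_bot, one_mul] at hm
  have htop := eq_top_of_card _ hm
  obtain ⟨W, hW⟩ : ∃ W, W = orbW act L y := ⟨_, rfl⟩
  rw [← hW] at htop
  obtain ⟨g, hg, hgM⟩ := hc.exists_out
  obtain ⟨C0, hC0⟩ : ∃ C0, C0 = fix act L := ⟨_, rfl⟩
  have hC0eq : C0 = fix act B' ⊓ fix act (cj g B') := by
    rw [hC0, ← fix_sup, hc.gen g hg hgM]
  obtain ⟨b0, hb0, hb01⟩ := (Subgroup.bot_or_exists_ne_one B').resolve_left hB1.ne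
  obtain ⟨I, hI⟩ : ∃ I : AddSubgroup U, I = (dif (act b0)).range :=
    ⟨_, rfl⟩
  have hImem : ∀ v ∈ I, ∃ u, v = act b0 u - u := fun v hv => by
    rw [hI] at hv; obtain ⟨u, rfl⟩ := hv; exact ⟨u, rfl⟩
  have hIW : I ≤ W := fun v hv => by
    obtain ⟨u, rfl⟩ := hImem v hv
    obtain ⟨w, hw, c, hc', rfl⟩ := AddSubgroup.mem_sup.1 (htop ▸ AddSubgroup.mem_top u : u ∈ W ⊔ fix act B')
    rw [map_add, hc' b0 hb0, add_sub_add_right_eq_sub]
    exact W.sub_mem (hW ▸ act_mem_orbW (hc.AL hb0) (hW ▸ hw)) hw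
  have hIfix : I ≤ fix act B' := fun v hv => by obtain ⟨u, rfl⟩ := hImem v hv; exact hq b0 hb0 u
  have hdisj : I ⊓ C0 = ⊥ := by
    rw [eq_bot_iff]
    intro v hv
    obtain ⟨u, rfl⟩ := hImem v hv.1
    rw [AddSubgroup.mem_bot]
    obtain ⟨w, hw, c, hc', rfl⟩ := AddSubgroup.mem_sup.1 (htop ▸ AddSubgroup.mem_top u : u ∈ W ⊔ fix act B')
    obtain ⟨w', x, -, hw', -, hx, rfl⟩ := hc.decompose hP hq hg hgM (hW ▸ hw)
    have e : act b0 (w' + x + c) - (w' + x + c) = act b0 x - x := by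
      rw [map_add, map_add, hw' b0 hb0, hc' b0 hb0]; abel
    rw [e]
    have h2 := hv.2
    rw [e, hC0] at h2
    rw [hc.free hP hq hg hgM hb0 (hnQ b0 hb0 hb01) hx h2 b0 (hc.AL hb0), sub_self]
  have hIcard : Nat.card U = Nat.card I * Nat.card (fix act B') := by
    have hker : (dif (act b0)).ker = fix act B' := by
      ext v
      rw [AddMonoidHom.mem_ker]
      show act b0 v - v = 0 ↔ _
      rw [sub_eq_zero]
      exact ⟨fun hv => atom_fix_elem hP hB1 hb0 hb01 hv, fun hv => hv b0 hb0⟩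
    rw [hI, ← hker, AddSubgroup.card_eq_card_quotient_mul_card_addSubgroup
      (dif (act b0)).ker,
      Nat.card_congr (QuotientAddGroup.quotientKerEquivRange _).toEquiv]
  have hfixB : fix act B' = I ⊔ C0 := by
    refine (add_eq_of_card (sup_le hIfix (hC0eq ▸ inf_le_left)) ?_).symm
    have q1 := card_sup_mul_inf I C0
    rw [hdisj, AddSubgroup.card_bot, mul_one] at q1
    have q2 := card_sup_mul_inf (fix act B') (fix act (cj g B'))
    rw [← hC0eq, card_fix_cj] at q2
    have q3 : Nat.card ↥(fix act B' ⊔ fix act (cj g B')) ≤ Nat.card U :=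
      Nat.card_le_card_of_injective _ (AddSubgroup.subtype_injective _)
    refine Nat.le_of_mul_le_mul_left ?_ (Nat.card_pos : 0 < Nat.card (fix act B'))
    calc _ = _ := q2.symm
      _ ≤ Nat.card U * Nat.card C0 := Nat.mul_le_mul_right _ q3
      _ = _ := by rw [hIcard, q1]; ring
  -- the group is `SL₂`
  have hUWC : W ⊔ C0 = ⊤ := by
    rw [eq_top_iff, ← htop, hfixB]
    exact sup_le le_sup_left (sup_le (hIW.trans le_sup_left) le_sup_right)
  have hWs : ∀ (l : L) (u : U), u ∈ W → act (l : P) u ∈ W := fun l u hu => hW ▸ act_mem_orbW l.2 (hW ▸ hu)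
  obtain ⟨act', hact'⟩ : ∃ act' : L →* AddMonoid.End W, ∀ (l : L) (w : W), ((act' l w : W) : U) = act (l : P) w :=
    ⟨{ toFun := fun l => (((act (l : P) : AddMonoid.End U) : U →+ U).comp W.subtype).codRestrict W fun w => hWs l w w.2
       map_one' := AddMonoidHom.ext fun w => Subtype.ext (by exact OffSL2.act_one act (w : U))
       map_mul' := fun l l' => AddMonoidHom.ext fun w => Subtype.ext (by exact OffSL2.act_mul act (l : P) l' (w : U)) },
      fun l w => rfl⟩
  have hfix' : ∀ (S : Subgroup L) (w : W), w ∈ fix act' S ↔ (w : U) ∈ fix act (S.map L.subtype) := by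
    intro S w
    constructor
    · rintro hw _ ⟨l, hl, rfl⟩
      exact (hact' l w).symm.trans (congrArg Subtype.val (hw l hl))
    · intro hw l hl
      exact Subtype.ext ((hact' l w).trans (hw _ ⟨l, hl, rfl⟩))
  have hmapB : (B'.subgroupOf L).map L.subtype = B' := map_subgroupOf_eq_of_le hc.AL
  have hfixB' : ∀ w : W, w ∈ fix act' (B'.subgroupOf L) ↔ (w : U) ∈ fix act B' := fun w => by rw [hfix', hmapB]
  let T' : Sylow p L := ⟨(T ⊓ L).subgroupOf L, hc.maxp.pgr.comap_subtype, fun {X} hX hle => by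
    refine le_antisymm (fun x hx => ?_) hle
    have h1 : T ⊓ L ≤ X.map L.subtype := fun r hr => ⟨⟨r, hr.2⟩, hle (mem_subgroupOf.2 hr), rfl⟩
    rw [mem_subgroupOf, ← hc.maxp.max _ h1 (map_subtype_le _) (hX.map _)]
    exact ⟨x, hx, rfl⟩⟩
  have hcardB : Nat.card (B'.subgroupOf L) = Nat.card B' := Nat.card_congr (subgroupOfEquivOfLe hc.AL).toEquiv
  have hqW : Nat.card W ≤ Nat.card (B'.subgroupOf L) * Nat.card (fix act' (B'.subgroupOf L)) := by
    have e : Nat.card (fix act' (B'.subgroupOf L)) = Nat.card ↥(W ⊓ fix act B') := Nat.card_congr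
      { toFun := fun w => ⟨((w : W) : U), (w : W).2, (hfixB' _).1 w.2⟩
        invFun := fun u => ⟨⟨u, u.2.1⟩, (hfixB' _).2 u.2.2⟩
        left_inv := fun _ => rfl
        right_inv := fun _ => rfl }
    rw [hcardB, e]
    have q := card_sup_mul_inf W (fix act B')
    rw [htop, AddSubgroup.card_top, ← hB1.eq, meas] at q
    refine Nat.le_of_mul_le_mul_right ?_ (Nat.card_pos : 0 < Nat.card (fix act B'))
    rw [← q]; exact le_of_eq (by ring)
  have hyW : y ∈ W := hW ▸ by simpa [OffSL2.act_one] using mem_orbW (act := act) (y := y) L.one_mem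
  have hinj' : Function.Injective act' := by
    intro l l' hll
    refine Subtype.ext (hP.inj (AddMonoidHom.ext fun u => ?_))
    obtain ⟨w, hw, c, hc', rfl⟩ := AddSubgroup.mem_sup.1 (hUWC ▸ AddSubgroup.mem_top u : u ∈ W ⊔ C0)
    rw [hC0] at hc'
    have e := congrArg (fun f : AddMonoid.End W => ((f ⟨w, hw⟩ : W) : U)) hll
    simp only [hact'] at e
    show act (l : P) (w + c) = act (l' : P) (w + c)
    rw [map_add, map_add, e, hc' _ l.2, hc' _ l'.2]
  have hyp : OffSL2.Hyp act' T' (M.subgroupOf L) (B'.subgroupOf L) ⟨y, hyW⟩ :=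
    { inj := hinj'
      AT := fun b hb => mem_subgroupOf.2 (hc.AT (mem_subgroupOf.1 hb))
      TM := fun t ht => mem_subgroupOf.2 (hP.TM (mem_subgroupOf.1 ht).1)
      Mne := fun e => hc.notLM (subgroupOf_eq_top.1 e)
      quad := fun b hb w => (hfixB' _).2 (by
        rw [AddSubgroup.coe_sub, hact']; exact hq _ (mem_subgroupOf.1 hb) _)
      hq := hqW
      strict := fun D hD hDne hDne' => by
        obtain ⟨d, hd, hd1⟩ := (Subgroup.bot_or_exists_ne_one D).resolve_left hDne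
        have hle : fix act' D ≤ fix act' (B'.subgroupOf L) := fun w hw => (hfixB' w).2
          (atom_fix_elem hP hB1 (mem_subgroupOf.1 (hD hd)) (fun e => hd1 (Subtype.ext e))
            ((hfix' D w).1 hw _ ⟨d, hd, rfl⟩))
        calc _ ≤ Nat.card D * Nat.card (fix act' (B'.subgroupOf L)) := Nat.mul_le_mul_left _ (card_le_fix act' hle)
          _ < _ := Nat.mul_lt_mul_of_pos_right (lt_of_le_of_ne (card_le_of_le hD)
            fun e => hDne' (eq_of_le_of_card_ge hD e.ge)) Nat.card_pos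
      hy := fun t ht => Subtype.ext ((hact' t _).trans (hP.hy _ (mem_subgroupOf.1 ht).1))
      hyZ := fun hy' => hgM (hP.stab ((hact' ⟨g, hg⟩ _).symm.trans (congrArg Subtype.val (hy' ⟨g, hg⟩ (mem_top _)))))
      gen := fun x hx => by
        apply map_injective L.subtype_injective
        rw [Subgroup.map_sup, hmapB, ← MonoidHom.range_eq_map, range_subtype]
        conv_rhs => rw [← hc.gen (x : P) x.2 (fun hm => hx (mem_subgroupOf.2 hm))]
        congr 1
        ext z
        constructor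
        · rintro ⟨_, ⟨b, hb, rfl⟩, rfl⟩
          exact conj_mem_cj (x := (x : P)) (mem_subgroupOf.1 hb)
        · rintro ⟨b, hb, rfl⟩
          exact ⟨x * ⟨b, hc.AL hb⟩ * x⁻¹, ⟨⟨b, hc.AL hb⟩, mem_subgroupOf.2 hb, rfl⟩, rfl⟩
      core := fun r hr hall x => mem_subgroupOf.2 (opc_le_maxP hc.maxp (by
        have h1 := hc.core hP (mem_subgroupOf.1 hr) (fun l hl => mem_subgroupOf.1 (hall ⟨l, hl⟩))
        have h2 := opc_conj (L.inv_mem x.2) h1
        simpa using h2)) }
  obtain ⟨-, F, iF, iFF, -, ρ, hcardF, hbij, -⟩ := hyp.natural fun w => Subtype.ext (hP.hpU w)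
  have hperf : commutator (Matrix.SpecialLinearGroup (Fin 2) F) = ⊤ := by
    classical
    rw [hcardB, hcard] at hcardF
    have hpos := (Fact.out : p.Prime).two_le
    have h4 : 4 ≤ Fintype.card F := by
      have hdvd : ∃ n, Nat.card B = p ^ n := IsPGroup.iff_card.1 hB.el.isPGroup
      obtain ⟨n, hn⟩ := hdvd
      rw [hn] at hbig
      rw [hcardF, hn]
      rcases n with _ | _ | n
      · rw [pow_zero] at hbig; omega
      · rw [pow_one] at hbig; omega
      · calc 4 = 2 * 2 := rfl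
          _ ≤ p * p := Nat.mul_le_mul hpos hpos
          _ = p ^ 2 := (pow_two p).symm
          _ ≤ _ := Nat.pow_le_pow_right (by omega) (by omega)
    obtain ⟨a, -, ha⟩ : ∃ a ∈ (Finset.univ : Finset F), a ∉ ({0, 1, -1} : Finset F) := by
      apply Finset.exists_mem_notMem_of_card_lt_card
      rw [Finset.card_univ]
      exact lt_of_le_of_lt Finset.card_le_three h4
    simp only [Finset.mem_insert, Finset.mem_singleton, not_or] at ha
    exact Matrix.SL2.commutator_eq_top ha.1 fun h => (sq_eq_one_iff.1 h).elim ha.2.1 ha.2.2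
  -- homomorphisms into the kernel are trivial
  have hLk : ∀ l ∈ L, ∀ v, π v = 0 → actV l v = v := by
    intro l hl v hv
    have h1 : B' ⊔ cj g B' ≤ stabV actV v :=
      sup_le (fun b hb => hBk v hv b hb) (fun b hb => (FixK.cj h hBk g) v hv b hb)
    rw [hc.gen g hg hgM] at h1
    exact h1 hl
  intro u hu
  rw [hfixB] at hu
  obtain ⟨i, hi, z, hz, rfl⟩ := AddSubgroup.mem_sup.1 hu
  obtain ⟨u0, rfl⟩ := hImem i hi
  obtain ⟨v1, hv1, hv1e⟩ := hAc' _ (hAq b0 (hBA' hb0) u0)
  obtain ⟨v2, rfl⟩ := h.surj z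
  rw [hC0] at hz
  let φ : L →* Multiplicative V :=
    { toFun := fun l => Multiplicative.ofAdd (actV (l : P) v2 - v2)
      map_one' := by simp [OffSL2.act_one]
      map_mul' := fun l l' => by
        rw [← ofAdd_add]
        refine congrArg Multiplicative.ofAdd ?_
        have hk : π (actV (l' : P) v2 - v2) = 0 := by rw [map_sub, h.equiv, hz _ l'.2, sub_self]
        have e := hLk l l.2 _ hk
        show actV ((l : P) * l') v2 - v2 = _
        rw [OffSL2.act_mul, ← e, map_sub]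
        abel }
  have hφ : ∀ l : L, φ l = 1 := by
    intro l
    let e := MulEquiv.ofBijective ρ hbij
    have h1 : commutator (Matrix.SpecialLinearGroup (Fin 2) F) ≤ (φ.comp e.symm.toMonoidHom).ker :=
      Abelianization.commutator_subset_ker _
    have h2 := h1 (hperf.ge (mem_top (e l)))
    rw [MonoidHom.mem_ker, MonoidHom.comp_apply] at h2
    simpa using h2
  refine ⟨v1 + v2, add_mem (fix_anti actV hBA' hv1) fun b hb => ?_, by rw [map_add, hv1e]⟩
  exact sub_eq_zero.1 (Multiplicative.ofAdd.injective ((hφ ⟨b, hc.AL hb⟩).trans ofAdd_zero.symm))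

/-- A minimal offender on `V` is an atom on `U`. -/
theorem Lift.atom_of_min (h : Lift p actV act π) (hP : PMod p act T M y) {A : Subgroup P} (hA : El p A)
    (hne : A ≠ ⊥) (hAT : A ≤ T) (hm : Nat.card V ≤ meas actV A)
    (hmin : ∀ D ≤ A, D ≠ A → D ≠ ⊥ → meas actV D < Nat.card V) :
    Atom p act A ∧ Covers actV act π A ∧ FixK actV π A := by
  obtain ⟨hAe, hAc, hAk⟩ := h.of_meas hP hA hm
  have hqV : Quad actV A := quad_of_min h.hpV hA hm fun D hD h1 h2 => (hmin D hD h1 h2).trans_le hm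
  have hq : Quad act A := fun a ha u => by
    obtain ⟨v, rfl⟩ := h.surj u
    rw [← h.equiv, ← map_sub]
    exact h.map_fix (hqV a ha v)
  refine ⟨?_, hAc, hAk⟩
  obtain ⟨B, hB, hBmin⟩ := Set.exists_min_image {B | B ≤ A ∧ B ≠ ⊥ ∧ Exact p act B} (fun B => Nat.card B)
    (Set.toFinite _) ⟨A, le_rfl, hne, hAe⟩
  obtain ⟨hBA, hBne, hBe⟩ := hB
  have hBat : Atom p act B := ⟨hBe, hBne, fun D hD hDe => or_iff_not_imp_left.2 fun hD0 =>
    eq_of_le_of_card_ge hD (hBmin D ⟨hD.trans hBA, hD0, hDe⟩)⟩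
  have heq : B = A := by
    by_contra hBne'
    by_cases hbig : p < Nat.card B
    · exact absurd (h.meas_of hBe (h.covers_big hP hBat hBA hq hAc hAk hbig) fun v hv => fix_anti actV hBA (hAk v hv))
        (not_le.2 (hmin B hBA hBne' hBne))
    have hBp : Nat.card B = p := by
      obtain ⟨n, hn⟩ := IsPGroup.iff_card.1 hBe.el.isPGroup
      have h1 : 1 < Nat.card B := Subgroup.one_lt_card_iff_ne_bot B |>.2 hBne
      rw [hn] at hbig h1 ⊢
      rcases n with _ | _ | n
      · simp at h1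
      · simp
      · exact absurd (lt_of_lt_of_le (lt_self_pow₀ (Fact.out : p.Prime).one_lt (by omega : 1 < n + 2)) le_rfl) hbig
    have hst : Stable T A B := Or.inr fun x z hx hz => commute_transvection hP (hAe.cj x) (hq.cj x) hx
      (hBat.cj z) hz (by rw [card_cj, hBp])
    obtain ⟨k, L, hc⟩ := exists_minC hP hAT hBA hBne hst
    obtain ⟨E0', g', hsp'⟩ := hc.split hP (hAe.cj k) (hq.cj k) (hBat.cj k) (cj_mono hBA) hc.BQ
    have hsp := hsp'.pull
    obtain ⟨E0, hE0⟩ : ∃ E0, E0 = cj k⁻¹ E0' := ⟨_, rfl⟩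
    obtain ⟨g, hg⟩ : ∃ g, g = k⁻¹ * g' * k := ⟨_, rfl⟩
    rw [← hE0, ← hg] at hsp
    have hcov : Covers actV act π E0 := fun u hu => by
      obtain ⟨c, hc1, d, hd, rfl⟩ := AddSubgroup.mem_sup.1 (hsp.cover hu)
      obtain ⟨v1, hv1, e1⟩ := hAc c hc1
      obtain ⟨v2, hv2, e2⟩ := hAc _ ((mem_fix_conj act).1 hd)
      refine ⟨v1 + actV g v2, add_mem (fix_anti actV hsp.le hv1) fun e he => ?_,
        by rw [map_add, h.equiv, e1, e2, OffSL2.act_inv']⟩
      rw [← OffSL2.act_mul, show e * g = g * (g⁻¹ * e * g) by group, OffSL2.act_mul,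
        hv2 _ (hsp.le (hsp.norm e he))]
    have hE0A : E0 ≠ A := fun e => hBne (by rw [← inf_eq_right.2 hBA, ← e]; exact hsp.disj)
    by_cases h0 : E0 = ⊥
    · exact hBne' (by rw [← hsp.gen, h0, bot_sup_eq])
    · exact absurd (h.meas_of hsp.ex hcov fun v hv => fix_anti actV hsp.le (hAk v hv))
        (not_le.2 (hmin E0 hsp.le hE0A h0))
  exact heq ▸ hBat

/-- A fixed vector of `T` outside the kernel. -/
theorem Lift.exists_fixed (h : Lift p actV act π) (hP : PMod p act T M y)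
    (hoff : ∃ A, El p A ∧ A ≠ ⊥ ∧ A ≤ T ∧ Nat.card V ≤ meas actV A) :
    ∃ v ∈ fix actV T, π v ≠ 0 := by
  classical
  obtain ⟨A, ⟨hA, hne, hAT, hm⟩, hAmin⟩ := Set.exists_min_image
    {A | El p A ∧ A ≠ ⊥ ∧ A ≤ T ∧ Nat.card V ≤ meas actV A} (fun A => Nat.card A) (Set.toFinite _) hoff
  obtain ⟨hat, hAc, hAk⟩ := h.atom_of_min hP hA hne hAT hm fun D hD hD1 hD2 => not_le.1 fun hc =>
    hD1 (eq_of_le_of_card_ge hD (hAmin D ⟨hA.mono hD, hD2, hD.trans hAT, hc⟩))
  obtain ⟨N, hN⟩ : ∃ N, N = T ⊓ normalizer (A : Set P) := ⟨_, rfl⟩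
  have hNp : IsPGroup p N := hP.syl.pgr.to_le (hN ▸ inf_le_left)
  have hAn : ∀ n ∈ N, ∀ a ∈ A, n * a * n⁻¹ ∈ A := fun n hn a ha => by
    rw [hN] at hn; exact (mem_normalizer_iff.1 hn.2 a).1 ha
  -- an element of `A` fixed by `N`
  obtain ⟨a, ha, ha1, han⟩ : ∃ a ∈ A, a ≠ 1 ∧ ∀ n ∈ N, n * a = a * n := by
    letI : MulAction N A :=
      { smul := fun x d => ⟨(x : P) * d * (x : P)⁻¹, hAn x x.2 d d.2⟩
        one_smul := fun d => Subtype.ext (show (1 : P) * d * (1 : P)⁻¹ = d by group)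
        mul_smul := fun x z d => Subtype.ext
          (show (x * z : P) * d * (x * z : P)⁻¹ = x * (z * d * (z : P)⁻¹) * (x : P)⁻¹ by group) }
    have h1 : (1 : A) ∈ MulAction.fixedPoints N A := fun x => Subtype.ext (show (x : P) * 1 * (x : P)⁻¹ = 1 by group)
    have hdvd : p ∣ Nat.card A := by
      obtain ⟨n, hn⟩ := IsPGroup.iff_card.1 hA.isPGroup
      rw [hn]
      refine dvd_pow_self p fun h0 => hne ?_
      rw [h0, pow_zero] at hn
      exact Subgroup.eq_bot_of_card_eq A hn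
    obtain ⟨f, hf, hf1⟩ := hNp.exists_fixed_point_of_prime_dvd_card_of_fixed_point A hdvd h1
    refine ⟨f, f.2, fun e => hf1 (Subtype.ext e.symm), fun n hn => ?_⟩
    exact mul_inv_eq_iff_eq_mul.1 (congrArg Subtype.val (hf ⟨n, hn⟩) : n * (f : P) * n⁻¹ = f)
  obtain ⟨I, hI⟩ : ∃ I : AddSubgroup V, I = (dif (actV a)).range :=
    ⟨_, rfl⟩
  have hImem : ∀ v ∈ I, ∃ u, v = actV a u - u := fun v hv => by
    rw [hI] at hv; obtain ⟨u, rfl⟩ := hv; exact ⟨u, rfl⟩
  have hInj : ∀ u, π (actV a u - u) = 0 → actV a u - u = 0 := fun u hu => by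
    rw [map_sub, h.equiv, sub_eq_zero] at hu
    obtain ⟨c, hc, e⟩ := hAc _ (atom_fix_elem hP hat ha ha1 hu)
    have h2 := hAk (u - c) (by rw [map_sub, e, sub_self]) a ha
    rw [map_sub, hc a ha, sub_left_inj] at h2
    rw [h2, sub_self]
  have hIN : ∀ n ∈ N, ∀ v ∈ I, actV n v ∈ I := fun n hn v hv => by
    obtain ⟨u, rfl⟩ := hImem v hv
    rw [map_sub, ← OffSL2.act_mul, han n hn, OffSL2.act_mul, hI]
    exact ⟨actV n u, rfl⟩
  obtain ⟨v0, hv0I, hv0, hv0N⟩ : ∃ v0 ∈ I, v0 ≠ 0 ∧ ∀ n ∈ N, actV n v0 = v0 := by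
    letI : MulAction N I :=
      { smul := fun x v => ⟨actV (x : P) v, hIN x x.2 v v.2⟩
        one_smul := fun v => Subtype.ext (OffSL2.act_one actV (v : V))
        mul_smul := fun x z v => Subtype.ext (OffSL2.act_mul actV (x : P) z (v : V)) }
    have h1 : (0 : I) ∈ MulAction.fixedPoints N I := fun x => Subtype.ext (map_zero (actV (x : P)))
    have hdvd : p ∣ Nat.card I := by
      haveI : Nontrivial I := by
        obtain ⟨u, hu⟩ : ∃ u, actV a u ≠ u := by
          by_contra hall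
          push Not at hall
          exact ha1 (h.injV (by rw [map_one]; exact AddMonoidHom.ext hall))
        exact ⟨⟨⟨actV a u - u, hI ▸ ⟨u, rfl⟩⟩, 0, fun e => hu (sub_eq_zero.1 (congrArg Subtype.val e))⟩⟩
      obtain ⟨x, hx⟩ := exists_ne (0 : I)
      have : addOrderOf x = p := addOrderOf_eq_prime (Subtype.ext (by simpa using h.hpV x)) hx
      exact this ▸ addOrderOf_dvd_natCard x
    obtain ⟨f, hf, hf1⟩ := hNp.exists_fixed_point_of_prime_dvd_card_of_fixed_point I hdvd h1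
    exact ⟨f, f.2, fun e => hf1 (Subtype.ext e.symm), fun n hn => congrArg Subtype.val (hf ⟨n, hn⟩)⟩
  -- the sum over the orbit
  obtain ⟨S, hS⟩ : ∃ S : Finset (Subgroup P), ∀ X, X ∈ S ↔ ∃ t ∈ T, cj t A = X :=
    ⟨(Set.toFinite ((fun t => cj t A) '' (T : Set P))).toFinset, fun X => by
      rw [Set.Finite.mem_toFinset]; exact Iff.rfl⟩
  have hrep : ∀ X : Subgroup P, ∃ t : P, X ∈ S → t ∈ T ∧ cj t A = X := fun X => by
    by_cases hX : X ∈ S
    · obtain ⟨t, ht, e⟩ := (hS X).1 hX; exact ⟨t, fun _ => ⟨ht, e⟩⟩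
    · exact ⟨1, fun h' => absurd h' hX⟩
  choose r hr using hrep
  obtain ⟨w, hw⟩ : ∃ w : Subgroup P → V, w = fun X => actV (r X) v0 := ⟨_, rfl⟩
  have hwell : ∀ t ∈ T, w (cj t A) = actV t v0 := by
    intro t ht
    obtain ⟨hrT, hre⟩ := hr (cj t A) ((hS _).2 ⟨t, ht, rfl⟩)
    obtain ⟨n, hn⟩ : ∃ n, n = t⁻¹ * r (cj t A) := ⟨_, rfl⟩
    have hnN : n ∈ N := by
      rw [hN]
      refine ⟨hn ▸ T.mul_mem (T.inv_mem ht) hrT, mem_normalizer_of_conj fun b hb => ?_⟩
      have : n * b * n⁻¹ ∈ cj t⁻¹ (cj (r (cj t A)) A) := by rw [cj_cj, ← hn]; exact conj_mem_cj hb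
      rwa [hre, cj_cj, inv_mul_cancel, cj_one] at this
    rw [hw]
    show actV (r (cj t A)) v0 = _
    conv_rhs => rw [← hv0N n hnN, ← OffSL2.act_mul, hn, mul_inv_cancel_left]
  refine ⟨∑ X ∈ S, w X, fun t ht => ?_, ?_⟩
  · rw [map_sum]
    refine Finset.sum_nbij (fun X => cj t X) (fun X hX => ?_) (fun X _ X' _ e => ?_) (fun X hX => ?_) (fun X hX => ?_)
    · obtain ⟨s, hs, rfl⟩ := (hS X).1 hX
      exact (hS _).2 ⟨t * s, T.mul_mem ht hs, (cj_cj t s A).symm⟩
    · have := congrArg (cj t⁻¹) e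
      rwa [cj_cj, cj_cj, inv_mul_cancel, cj_one, cj_one] at this
    · obtain ⟨s, hs, rfl⟩ := (hS X).1 (by simpa using hX)
      exact ⟨cj t⁻¹ (cj s A), by simpa using (hS _).2 ⟨t⁻¹ * s, T.mul_mem (T.inv_mem ht) hs, (cj_cj t⁻¹ s A).symm⟩,
        by show cj t (cj t⁻¹ (cj s A)) = _; rw [cj_cj, mul_inv_cancel, cj_one]⟩
    · obtain ⟨s, hs, rfl⟩ := (hS X).1 hX
      rw [cj_cj, hwell (t * s) (T.mul_mem ht hs), hwell s hs, OffSL2.act_mul]
  · obtain ⟨u0, hu0⟩ := hImem v0 hv0I
    rw [map_sum]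
    refine sum_ne_zero hP S ⟨cj 1 A, (hS _).2 ⟨1, T.one_mem, rfl⟩⟩ id Function.injective_id.injOn
      (fun X hX => ?_) (fun X hX => ?_) (fun X hX X' hX' => ?_) (fun X => π (w X)) (fun X hX => ?_) (fun X hX => ?_)
    · obtain ⟨t, ht, rfl⟩ := (hS X).1 hX; exact hat.cj t
    · obtain ⟨t, ht, rfl⟩ := (hS X).1 hX; exact cj_le_of_mem ht hAT
    · obtain ⟨t, ht, rfl⟩ := (hS X).1 hX
      obtain ⟨t', ht', rfl⟩ := (hS X').1 hX'
      exact atoms_commute hP (hat.cj t) (hat.cj t') (by simp only [id, card_cj]) (cj_le_of_mem ht hAT)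
        (cj_le_of_mem ht' hAT)
    · obtain ⟨t, ht, rfl⟩ := (hS X).1 hX
      refine ⟨t * a * t⁻¹, conj_mem_cj ha, act t (π u0), ?_⟩
      rw [hwell t ht, h.equiv, hu0, map_sub, h.equiv, ← OffSL2.act_mul act (t * a * t⁻¹) t,
        show t * a * t⁻¹ * t = t * a by group, OffSL2.act_mul, ← map_sub]
    · obtain ⟨t, ht, rfl⟩ := (hS X).1 hX
      show π (w (cj t A)) ≠ 0
      rw [hwell t ht, h.equiv]
      intro e
      refine hv0 ?_
      rw [hu0] at e ⊢
      exact hInj u0 (OffSL2.act_injective act t (e.trans (map_zero _).symm))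

end CfsgLib.LocalEven.PMinFF
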