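import Cfsg.Agent.Lib.LocalEven.PMinFF.Block
import Cfsg.Agent.Lib.LocalEven.PMinFF.Lift

/-!
# The blocks of atoms of order at least three

Each atom lies in exactly one of the pairs of the atoms in `T`; these pairs are the blocks.
-/

set_option autoImplicit false
set_option linter.all false

namespace CfsgLib.LocalEven.PMinFF

open Subgroup CfsgLib.LocalEven.OffSL2

variable {P : Type*} [Group P] [Finite P] {p : ℕ} [Fact p.Prime]
variable {U : Type*} [AddCommGroup U] [Finite U]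
variable {act : P →* AddMonoid.End U} {T M : Subgroup P} {y : U} {q : ℕ}

theorem exists_cval (hP : PMod p act T M y) {D : Subgroup P} (hD : Atom p act D) : ∃ v, CVal act D v := by
  obtain ⟨b, hb, hb1⟩ := (Subgroup.bot_or_exists_ne_one D).resolve_left hD.ne
  by_contra hall
  push Not at hall
  refine hb1 (hP.inj ?_)
  rw [map_one]
  refine AddMonoidHom.ext fun u => ?_
  show act b u = u
  by_contra hu
  exact hall (act b u - u) ⟨⟨b, hb, u, rfl⟩, sub_ne_zero.2 hu⟩

theorem Pair.eq_of_commute {B L : Subgroup P} (h : Pair act M B L) (hB : El p B) {l : P} (hl : l ∈ L)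
    (hc : ∀ a ∈ cj l B, ∀ b ∈ B, a * b = b * a) : cj l B = B := by
  by_contra hne
  obtain ⟨l', hl', hne'⟩ := h.moves
  refine hne' (cj_eq_self ?_)
  have hle : B ⊔ cj l B ≤ Subgroup.normalizer (B : Set P) := sup_le le_normalizer fun a ha =>
    mem_normalizer_of_conj fun b hb => by rw [hc a ha b hb, mul_inv_cancel_right]; exact hb
  rw [h.gen2 l hl hne] at hle
  exact hle hl'

/-- The choice of a pair for each atom in `T`. -/
structure Pairs (p : ℕ) (act : P →* AddMonoid.End U) (T M : Subgroup P) (q : ℕ) (L : Subgroup P → Subgroup P) : Prop where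
  pair : ∀ B ∈ sig p act T q, Pair act M B (L B)
  other : ∀ B ∈ sig p act T q, ∀ D ∈ sig p act T q, D ≠ B →
    (∀ d ∈ D, ∀ l ∈ L B, d * l = l * d) ∧ ∀ d ∈ D, ∀ u, act d u - u ∈ fix act (L B)

variable (hP : PMod p act T M y)
include hP

theorem exists_pairs : ∃ L, Pairs p act T M q L := by
  classical
  refine ⟨fun B => if h : B ∈ sig p act T q then (exists_pair hP h).choose else ⊥, fun B hB => ?_, fun B hB => ?_⟩
  · rw [dif_pos hB]; exact (exists_pair hP hB).choose_spec.1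
  · rw [dif_pos hB]; exact (exists_pair hP hB).choose_spec.2

/-- For `q ≥ 3` the atoms of order `q` inside `M` are those in `T`. -/
theorem atom_M_mem_sig {L : Subgroup P → Subgroup P} (hL : Pairs p act T M q L) (hq : 3 ≤ q) {Z : Subgroup P}
    (hZ : AtQ p act q Z) (hZM : Z ≤ M) : Z ∈ sig p act T q := by
  classical
  obtain ⟨k, hk, hkT⟩ := (hP.syl.mono (L' := M) hP.TM le_top).exists_conj hZ.1.el.isPGroup hZM
  obtain ⟨D, hD⟩ : ∃ D, D = cj k Z := ⟨_, rfl⟩
  have hDs : D ∈ sig p act T q := hD ▸ ⟨hZ.cj k, hkT⟩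
  obtain ⟨s, hs⟩ : ∃ s : Finset (Subgroup P), ∀ X, X ∈ s ↔ X ∈ sig p act T q :=
    ⟨(Set.toFinite (sig p act T q)).toFinset, fun X => Set.Finite.mem_toFinset _⟩
  refine mem_sig_of_commute hP hZ fun B hB => ?_
  have hgood : ∀ c : Subgroup P → U, (∀ X ∈ s, CVal act X (c X)) → act k⁻¹ (∑ X ∈ s, c X) ∈ fix act B := by
    intro c hc
    have hst := stab_sum_le hP hs ⟨B, hB⟩ c hc
    obtain ⟨v, hv⟩ : ∃ v, v = ∑ X ∈ s, c X := ⟨_, rfl⟩
    rw [← hv] at hst ⊢
    obtain ⟨l, hl, hfix⟩ := (hL.pair B hB).cover (act k⁻¹ v)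
    by_cases hlB : cj l B = B
    · rwa [hlB] at hfix
    exfalso
    refine (hL.pair B hB).notM ((hL.pair B hB).gen2 l hl hlB ▸ sup_le (hB.2.trans hP.TM) fun a ha => ?_)
    have h1 := hfix a ha
    have h2 : k * a * k⁻¹ ∈ M := hst (show act (k * a * k⁻¹) v = v by
      rw [OffSL2.act_mul, OffSL2.act_mul, h1, OffSL2.act_inv'])
    simpa [mul_assoc] using M.mul_mem (M.mul_mem (M.inv_mem hk) h2) hk
  have himg : ∀ z ∈ Z, ∀ u, act z u - u ∈ fix act B := by
    intro z hz u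
    obtain ⟨b, hb⟩ : ∃ b, b = k * z * k⁻¹ := ⟨_, rfl⟩
    have hbD : b ∈ D := hD ▸ hb ▸ conj_mem_cj hz
    obtain ⟨d, hd⟩ : ∃ d, d = act b (act k u) - act k u := ⟨_, rfl⟩
    have hzu : act z u - u = act k⁻¹ d := by
      rw [hd, map_sub, ← OffSL2.act_mul, ← OffSL2.act_mul, hb, show k⁻¹ * (k * z * k⁻¹) * k = z by group,
        OffSL2.act_inv]
    rw [hzu]
    by_cases hd0 : d = 0
    · rw [hd0, map_zero]; exact zero_mem _
    have hb1 : b ≠ 1 := fun e => hd0 (by rw [hd, e, OffSL2.act_one, sub_self])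
    -- the commutators of `b` form a group of order `q`
    have hcard : 3 ≤ Nat.card (dif (act b)).range := by
      have hker : (dif (act b)).ker = fix act D := by
        ext v
        rw [AddMonoidHom.mem_ker]
        show act b v - v = 0 ↔ _
        rw [sub_eq_zero]
        exact ⟨fun hv => atom_fix_elem hP hDs.1.1 hbD hb1 hv, fun hv => hv b hbD⟩
      have h1 := hDs.1.1.eq
      rw [meas, AddSubgroup.card_eq_card_quotient_mul_card_addSubgroup (dif (act b)).ker,
        Nat.card_congr (QuotientAddGroup.quotientKerEquivRange _).toEquiv, hker] at h1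
      rw [← Nat.eq_of_mul_eq_mul_right Nat.card_pos h1, hDs.1.2]
      exact hq
    obtain ⟨c1, hc10, hc1d⟩ : ∃ c1 : (dif (act b)).range, (c1 : U) ≠ 0 ∧ (c1 : U) + d ≠ 0 := by
      by_contra hall
      push Not at hall
      have h2 : Nat.card (dif (act b)).range ≤ 2 := by
        refine le_trans (Nat.card_le_card_of_injective (fun c : (dif (act b)).range => decide ((c : U) = 0)) ?_)
          (by simp)
        intro c c' e
        simp only [decide_eq_decide] at e
        by_cases hc : (c : U) = 0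
        · exact Subtype.ext (hc.trans (e.1 hc).symm)
        · exact Subtype.ext (add_right_cancel ((hall c hc).trans (hall c' fun h => hc (e.2 h)).symm))
      omega
    have hval : ∀ w ∈ (dif (act b)).range, w ≠ 0 → CVal act D w := by
      rintro _ ⟨u', rfl⟩ hw
      exact ⟨⟨b, hbD, u', rfl⟩, hw⟩
    choose c0 hc0 using fun X : Subgroup P => show ∃ v : U, X ∈ s → CVal act X v from
      if h : X ∈ s then (exists_cval hP ((hs X).1 h).1.1).imp fun v hv _ => hv else ⟨0, fun h' => absurd h' h⟩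
    have hupd : ∀ w ∈ (dif (act b)).range, w ≠ 0 →
        act k⁻¹ (w + ∑ X ∈ s.erase D, c0 X) ∈ fix act B := by
      intro w hw hw0
      have h2 := hgood (Function.update c0 D w) fun X hX => by
        rw [Function.update_apply]
        split_ifs with e
        · exact e ▸ hval w hw hw0
        · exact hc0 X hX
      rwa [← Finset.add_sum_erase s _ ((hs D).2 hDs), Function.update_self, Finset.sum_congr rfl
        fun X hX => Function.update_of_ne (Finset.mem_erase.1 hX).1 _ _] at h2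
    have h3 := sub_mem (hupd ((c1 : U) + d) (add_mem c1.2 (hd ▸ ⟨act k u, rfl⟩)) hc1d) (hupd c1 c1.2 hc10)
    rwa [← map_sub, show ((c1 : U) + d + ∑ X ∈ s.erase D, c0 X) - ((c1 : U) + ∑ X ∈ s.erase D, c0 X) = d by abel] at h3
  refine commute_in_pgroup hP hZ hB.1 ?_
  exact hZ.1.el.isPGroup.to_sup_of_normal_right' hB.1.1.el.isPGroup
    (le_normalizer_iff.2 fun a ha b hb => (mem_normalizer_iff.1 (normalizes_of_img hP hB.1.1 (himg a ha)) b).1 hb)

/-- Every Sylow class meets every pair. -/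
theorem exists_meet {L : Subgroup P → Subgroup P} (hL : Pairs p act T M q L) (hq : 3 ≤ q) {B : Subgroup P}
    (hB : B ∈ sig p act T q) (g : P) : ∃ l ∈ L B, cj g⁻¹ (cj l B) ∈ sig p act T q := by
  classical
  obtain ⟨s, hs⟩ : ∃ s : Finset (Subgroup P), ∀ X, X ∈ s ↔ X ∈ sig p act T q :=
    ⟨(Set.toFinite (sig p act T q)).toFinset, fun X => Set.Finite.mem_toFinset _⟩
  choose c0 hc0 using fun X : Subgroup P => show ∃ v : U, X ∈ s → CVal act X v from
    if h : X ∈ s then (exists_cval hP ((hs X).1 h).1.1).imp fun v hv _ => hv else ⟨0, fun h' => absurd h' h⟩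
  have hst := stab_sum_le hP hs ⟨B, hB⟩ c0 hc0
  obtain ⟨v, hv⟩ : ∃ v, v = ∑ X ∈ s, c0 X := ⟨_, rfl⟩
  rw [← hv] at hst
  obtain ⟨l, hl, hfix⟩ := (hL.pair B hB).cover (act g v)
  refine ⟨l, hl, atom_M_mem_sig hP hL hq ((hB.1.cj l).cj g⁻¹) fun a ha => hst ?_⟩
  rw [mem_cj, inv_inv] at ha
  show act a v = v
  have h1 := congrArg (act g⁻¹) (hfix _ ha)
  rwa [← OffSL2.act_mul, show g⁻¹ * (g * a * g⁻¹) = a * g⁻¹ by group, OffSL2.act_mul, OffSL2.act_inv] at h1

theorem pairs_unique {L : Subgroup P → Subgroup P} (hL : Pairs p act T M q L) {B D : Subgroup P}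
    (hB : B ∈ sig p act T q) (hD : D ∈ sig p act T q) {l l' : P} (hl : l ∈ L B) (hl' : l' ∈ L D)
    (he : cj l B = cj l' D) : B = D := by
  by_contra hne
  have hc : ∀ a ∈ cj l B, ∀ b ∈ B, a * b = b * a := fun a ha b hb => by
    rw [he] at ha
    exact ((hL.other D hD B hB hne).1 b hb a (cj_le_of_mem hl' (hL.pair D hD).le ha)).symm
  rw [(hL.pair B hB).eq_of_commute hB.1.1.el hl hc] at he
  have hc' : ∀ a ∈ cj l' D, ∀ b ∈ D, a * b = b * a := fun a ha b hb => by
    rw [← he] at ha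
    exact sig_comm hP B hB D hD a ha b hb
  exact hne (he.trans ((hL.pair D hD).eq_of_commute hD.1.1.el hl' hc'))

theorem exists_mem_pairs {L : Subgroup P → Subgroup P} (hL : Pairs p act T M q L) (hq : 3 ≤ q) {Z : Subgroup P}
    (hZ : AtQ p act q Z) : ∃ B ∈ sig p act T q, ∃ l ∈ L B, cj l B = Z := by
  obtain ⟨k, hk⟩ := exists_into_T hP hZ.1.el.isPGroup
  choose f hf hfs using fun B : sig p act T q => exists_meet hP hL hq B.2 k⁻¹
  have hinj : Function.Injective fun B : sig p act T q => (⟨_, hfs B⟩ : sig p act T q) := by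
    intro B B' e
    have h1 := congrArg (fun X : sig p act T q => cj k⁻¹ (X : Subgroup P)) e
    simp only at h1
    rw [cj_cj k⁻¹, cj_cj k⁻¹, inv_inv, inv_mul_cancel, cj_one, cj_one] at h1
    exact Subtype.ext (pairs_unique hP hL B.2 B'.2 (hf B) (hf B') h1)
  obtain ⟨B, hB⟩ := (Finite.injective_iff_surjective.1 hinj) ⟨cj k Z, ⟨hZ.cj k, hk⟩⟩
  refine ⟨B, B.2, f B, hf B, ?_⟩
  have h2 := congrArg (fun X : sig p act T q => cj k⁻¹ (X : Subgroup P)) hB
  simp only at h2
  rwa [cj_cj k⁻¹, cj_cj k⁻¹, inv_inv, inv_mul_cancel, cj_one, cj_one] at h2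

/-- A pair permutes the atoms of another pair. -/
theorem pairs_permute {L : Subgroup P → Subgroup P} (hL : Pairs p act T M q L) (hq : 3 ≤ q) {B D : Subgroup P}
    (hB : B ∈ sig p act T q) (hD : D ∈ sig p act T q) (hne : D ≠ B) {l l' : P} (hl : l ∈ L B) (hl' : l' ∈ L D) :
    ∃ l'' ∈ L D, cj l'' D = cj l (cj l' D) := by
  obtain ⟨X, hX, m, hm, he⟩ := exists_mem_pairs hP hL hq ((hD.1.cj l').cj l)
  by_cases hXD : X = D
  · subst hXD; exact ⟨m, hm, he⟩
  have hfixD : cj l D = D := cj_eq_self (mem_normalizer_of_conj fun d hd => by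
    rw [← (hL.other B hB D hD hne).1 d hd l hl, mul_inv_cancel_right]; exact hd)
  have hc : ∀ a ∈ cj l' D, ∀ b ∈ D, a * b = b * a := by
    intro a ha b hb
    have h1 : l * a * l⁻¹ ∈ L X := cj_le_of_mem hm (hL.pair X hX).le (by rw [he]; exact conj_mem_cj ha)
    have h2 : l * b * l⁻¹ ∈ D := hfixD.le (conj_mem_cj hb)
    have h3 := (hL.other X hX D hD (Ne.symm hXD)).1 _ h2 _ h1
    simpa [mul_assoc] using (congrArg (fun z => l⁻¹ * z * l) h3).symm
  exact ⟨1, (L D).one_mem, by rw [cj_one, (hL.pair D hD).eq_of_commute hD.1.1.el hl' hc, hfixD]⟩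

theorem pairs_commute {L : Subgroup P → Subgroup P} (hL : Pairs p act T M q L) (hq : 3 ≤ q) {B D : Subgroup P}
    (hB : B ∈ sig p act T q) (hD : D ∈ sig p act T q) (hne : D ≠ B) {l l' : P} (hl : l ∈ L B) (hl' : l' ∈ L D) :
    ∀ a ∈ cj l B, ∀ b ∈ cj l' D, a * b = b * a := by
  obtain ⟨m, hm, he⟩ := pairs_permute hP hL hq hB hD hne ((L B).inv_mem hl) hl'
  have hfixB : cj m B = B := cj_eq_self (mem_normalizer_of_conj fun b hb => by
    rw [← (hL.other D hD B hB (Ne.symm hne)).1 b hb m hm, mul_inv_cancel_right]; exact hb)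
  have h1 : cj (l * m) B = cj l B := by rw [← cj_cj, hfixB]
  have h2 : cj (l * m) D = cj l' D := by
    rw [← cj_cj, he, cj_cj l, mul_inv_cancel, cj_one]
  intro a ha b hb
  rw [← h1, mem_cj] at ha
  rw [← h2, mem_cj] at hb
  have h3 := sig_comm hP B hB D hD _ ha _ hb
  simpa [mul_assoc] using congrArg (fun z => (l * m) * z * (l * m)⁻¹) h3

omit hP in
theorem Pair.eq_sSup {B L : Subgroup P} (h : Pair act M B L) {l l' : P} (hl : l ∈ L) (hl' : l' ∈ L)
    (hne : cj l B ≠ cj l' B) : cj l B ⊔ cj l' B = L := by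
  have h1 := h.gen2 (l⁻¹ * l') (L.mul_mem (L.inv_mem hl) hl') fun e => hne (by
    rw [← cj_cj] at e
    have := congrArg (PMinFF.cj l) e
    rw [cj_cj, mul_inv_cancel, cj_one] at this
    exact this.symm)
  have h2 := congrArg (PMinFF.cj l) h1
  rw [PMinFF.cj, Subgroup.map_sup] at h2
  have h3 : PMinFF.cj l (PMinFF.cj (l⁻¹ * l') B) = PMinFF.cj l' B := by rw [cj_cj, mul_inv_cancel_left]
  rw [← h3]
  refine h2.trans (eq_of_le_of_card_ge ?_ (card_cj l L).ge)
  exact cj_le_of_mem hl le_rfl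

/-- The block system of atoms of order `q ≥ 3`. -/
theorem big_blocks (hq : 3 ≤ q) (hne : (sig p act T q).Nonempty) :
    ∃ bl : Subgroup P → Prop, Blocks p act M q bl ∧ (∃ E, bl E) ∧
      ∀ E, bl E → ∃ B, AtQ p act q B ∧ Pair act M B E := by
  obtain ⟨L, hL⟩ := exists_pairs (q := q) hP
  have hcase : ∀ {B D : Subgroup P}, B ∈ sig p act T q → D ∈ sig p act T q → L B = L D → B = D := by
    intro B D hB hD e
    by_contra hne'
    obtain ⟨l, hl, hlB⟩ := (hL.pair B hB).moves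
    have hc : ∀ a ∈ cj l B, ∀ b ∈ B, a * b = b * a := fun a ha b hb =>
      ((hL.other D hD B hB hne').1 b hb a (e ▸ cj_le_of_mem hl (hL.pair B hB).le ha)).symm
    exact hlB ((hL.pair B hB).eq_of_commute hB.1.1.el hl hc)
  refine ⟨fun E => ∃ B ∈ sig p act T q, L B = E, ⟨fun Z hZ => ?_, ?_, ?_, ?_, ?_, ?_⟩, ⟨L hne.some, _, hne.some_mem, rfl⟩, ?_⟩
  · obtain ⟨B, hB, l, hl, rfl⟩ := exists_mem_pairs hP hL hq hZ
    exact ⟨L B, ⟨B, hB, rfl⟩, cj_le_of_mem hl (hL.pair B hB).le⟩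
  · rintro _ ⟨B, hB, rfl⟩
    obtain ⟨l, hl, hne'⟩ := (hL.pair B hB).moves
    conv_lhs => rw [← (hL.pair B hB).gen2 l hl hne']
    exact sup_le (le_sSup ⟨hB.1, (hL.pair B hB).le⟩) (le_sSup ⟨hB.1.cj l, cj_le_of_mem hl (hL.pair B hB).le⟩)
  · rintro _ ⟨B, hB, rfl⟩ x
    obtain ⟨l, hl, hne'⟩ := (hL.pair B hB).moves
    obtain ⟨D, hD, a, ha, hae⟩ := exists_mem_pairs hP hL hq (hB.1.cj x)
    obtain ⟨D', hD', a', ha', hae'⟩ := exists_mem_pairs hP hL hq ((hB.1.cj l).cj x)
    have hDD : D' = D := by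
      by_contra hne''
      refine hne' ((hL.pair B hB).eq_of_commute hB.1.1.el hl fun u hu v hv => ?_)
      have h1 := pairs_commute hP hL hq hD hD' hne'' ha ha' _ (hae ▸ conj_mem_cj (x := x) hv) _
        (hae' ▸ conj_mem_cj (x := x) hu)
      simpa [mul_assoc] using (congrArg (fun z => x⁻¹ * z * x) h1).symm
    subst hDD
    refine ⟨D', hD', ?_⟩
    have hne2 : cj a D' ≠ cj a' D' := fun e => hne' (by
      rw [hae, hae'] at e
      have h2 := congrArg (cj x⁻¹) e
      rw [cj_cj x⁻¹, cj_cj x⁻¹, inv_mul_cancel, cj_one, cj_one] at h2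
      exact h2.symm)
    rw [← (hL.pair D' hD').eq_sSup ha ha' hne2, hae, hae']
    conv_rhs => rw [← (hL.pair B hB).gen2 l hl hne']
    exact (Subgroup.map_sup _ _ _).symm
  · rintro _ _ ⟨B, hB, rfl⟩ ⟨D, hD, rfl⟩ hne' a ha b hb
    have hBD : D ≠ B := fun e => hne' (by rw [e])
    obtain ⟨l, hl, hlB⟩ := (hL.pair B hB).moves
    obtain ⟨l', hl', hlD⟩ := (hL.pair D hD).moves
    have hmem : ∀ m ∈ L B, cj m B ≤ Subgroup.centralizer (L D : Set P) := fun m hm u hu => by
      have hD2 : D ⊔ cj l' D ≤ Subgroup.centralizer {u} := sup_le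
        (fun v hv => mem_centralizer_singleton_iff.2
          (pairs_commute hP hL hq hB hD hBD hm (L D).one_mem u hu v (by rw [cj_one]; exact hv)).symm)
        (fun v hv => mem_centralizer_singleton_iff.2 (pairs_commute hP hL hq hB hD hBD hm hl' u hu v hv).symm)
      rw [(hL.pair D hD).gen2 l' hl' hlD] at hD2
      exact mem_centralizer_iff.2 fun v hv => mem_centralizer_singleton_iff.1 (hD2 hv)
    have hLB : L B ≤ Subgroup.centralizer (L D : Set P) := by
      conv_lhs => rw [← (hL.pair B hB).gen2 l hl hlB]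
      exact sup_le (by simpa [cj_one] using hmem 1 (L B).one_mem) (hmem l hl)
    exact (mem_centralizer_iff.1 (hLB ha) b hb).symm
  · rintro _ ⟨B, hB, rfl⟩; exact (hL.pair B hB).notM
  · rintro _ ⟨B, hB, rfl⟩ v
    obtain ⟨F, iF, iFF, ψ, ρ, -, hρ, hψ, hker, heq⟩ := (hL.pair B hB).nat
    by_cases hv : ψ v = 0
    · exact ⟨0, zero_mem _, by rw [sub_zero]; exact (hker v).1 hv⟩
    obtain ⟨x, hx, hxv⟩ : ∃ x : Fin 2 → F, x ≠ 0 ∧ x + ψ v ≠ 0 := by
      have hne1 : (![1, 0] : Fin 2 → F) ≠ 0 := fun e => one_ne_zero (congrFun e 0)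
      have hne2 : (![0, 1] : Fin 2 → F) ≠ 0 := fun e => one_ne_zero (congrFun e 1)
      by_cases h1 : ![1, 0] + ψ v = 0
      · refine ⟨![0, 1], hne2, fun h2 => ?_⟩
        have h4 : (![0, 1] : Fin 2 → F) = ![1, 0] := add_right_cancel (h2.trans h1.symm)
        exact zero_ne_one (congrFun h4 0)
      · exact ⟨![1, 0], hne1, h1⟩
    obtain ⟨σ, hσ⟩ := sl2_exists_mulVec hxv
    obtain ⟨σ', hσ'⟩ := sl2_exists_mulVec hx
    obtain ⟨l, hl⟩ := hρ.2 (σ * σ'⁻¹)
    obtain ⟨u, hu⟩ := hψ x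
    refine ⟨act (l : P) u - u, mem_img l.2 u, (hker _).1 ?_⟩
    rw [map_sub, map_sub, heq, hu, hl, ← hσ', ← mv_mul, inv_mul_cancel_right, show mv σ' ![1, 0] = x from hσ',
      show mv σ ![1, 0] = x + ψ v from hσ]
    abel
  · rintro _ ⟨B, hB, rfl⟩
    exact ⟨B, hB.1, hL.pair B hB⟩

end CfsgLib.LocalEven.PMinFF
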