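import Cfsg.Agent.Lib.LocalEven.PMinFF.Weak

/-!
# Block systems

Pairwise commuting conjugation-closed subgroups generated by atoms, none inside `M`, form a `T`-transitive
direct product `J` with `JT = P` and split the module.
-/

set_option autoImplicit false
set_option linter.all false

namespace CfsgLib.LocalEven.PMinFF

open Subgroup CfsgLib.LocalEven.OffSL2

variable {P : Type*} [Group P] [Finite P] {p : ℕ} [Fact p.Prime]
variable {U : Type*} [AddCommGroup U] [Finite U]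
variable {act : P →* AddMonoid.End U} {T M : Subgroup P} {y : U}

/-- `[U, E]`. -/
def img (act : P →* AddMonoid.End U) (E : Subgroup P) : AddSubgroup U :=
  AddSubgroup.closure {v | ∃ e ∈ E, ∃ u, v = act e u - u}

omit [Finite P] [Finite U] in
theorem mem_img {E : Subgroup P} {e : P} (he : e ∈ E) (u : U) : act e u - u ∈ img act E :=
  AddSubgroup.subset_closure ⟨e, he, u, rfl⟩

/-- A block system for the atoms of order `q`. -/
structure Blocks (p : ℕ) (act : P →* AddMonoid.End U) (M : Subgroup P) (q : ℕ) (bl : Subgroup P → Prop) : Prop where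
  mem : ∀ Z, AtQ p act q Z → ∃ E, bl E ∧ Z ≤ E
  gen : ∀ E, bl E → E ≤ sSup {Z | AtQ p act q Z ∧ Z ≤ E}
  conj : ∀ E, bl E → ∀ x : P, bl (cj x E)
  comm : ∀ E E', bl E → bl E' → E ≠ E' → ∀ a ∈ E, ∀ b ∈ E', a * b = b * a
  notM : ∀ E, bl E → ¬ E ≤ M
  cover : ∀ E, bl E → ∀ v : U, ∃ w ∈ img act E, v - w ∈ fix act E

theorem no_central (hP : PMod p act T M y) {q : ℕ} {Z : Subgroup P} (hZ : AtQ p act q Z)
    (hc : ∀ X, AtQ p act q X → ∀ a ∈ Z, ∀ b ∈ X, a * b = b * a) : False := by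
  obtain ⟨N, hN⟩ : ∃ N, N = sSup (Set.range fun x : P => cj x Z) := ⟨_, rfl⟩
  have hel : El p N := by
    rw [hN]
    refine (exact_sSup hP ?_ ?_).1.el
    · rintro _ ⟨x, rfl⟩; exact hZ.1.cj x
    · rintro _ ⟨x, rfl⟩ _ ⟨z, rfl⟩ a ha b hb
      rw [mem_cj] at ha
      have h := hc (cj (x⁻¹ * z) Z) (hZ.cj _) _ ha (x⁻¹ * b * x) (by
        rw [← cj_cj]; simpa using conj_mem_cj (x := x⁻¹) hb)
      simpa [mul_assoc] using congrArg (fun w => x * w * x⁻¹) h
  have hbot := hP.nop N hel.isPGroup fun g n hn => by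
    have : N ≤ N.comap (MulAut.conj g).toMonoidHom := by
      conv_lhs => rw [hN]
      refine sSup_le ?_
      rintro _ ⟨x, rfl⟩
      refine map_le_iff_le_comap.1 ?_
      rw [hN]
      exact le_sSup_of_le ⟨g * x, rfl⟩ (cj_cj g x Z).le
    exact this hn
  exact hZ.1.ne (le_bot_iff.1 (hbot ▸ hN ▸ le_sSup ⟨1, cj_one Z⟩))

namespace Blocks

variable {q : ℕ} {bl : Subgroup P → Prop} (h : Blocks p act M q bl) (hP : PMod p act T M y)
include h hP

theorem atom_unique {Z E E' : Subgroup P} (hZ : AtQ p act q Z) (hE : bl E) (hE' : bl E') (h1 : Z ≤ E)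
    (h2 : Z ≤ E') : E = E' := by
  by_contra hne
  refine no_central hP hZ fun X hX a ha b hb => ?_
  obtain ⟨E'', hE'', hXE⟩ := h.mem X hX
  by_cases e : E = E''
  · exact h.comm E' E'' hE' hE'' (fun e' => hne (e.trans e'.symm)) a (h2 ha) b (hXE hb)
  · exact h.comm E E'' hE hE'' e a (h1 ha) b (hXE hb)

theorem img_le_fix {E E' : Subgroup P} (hE : bl E) (hE' : bl E') (hne : E ≠ E') : img act E ≤ fix act E' := by
  let K : Subgroup P :=
    { carrier := {e | ∀ u, act e u - u ∈ fix act E'}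
      one_mem' := fun u => by rw [OffSL2.act_one, sub_self]; exact zero_mem _
      mul_mem' := fun {a b} ha hb u => by
        rw [OffSL2.act_mul, show act a (act b u) - u = (act a (act b u) - act b u) + (act b u - u) by abel]
        exact add_mem (ha _) (hb _)
      inv_mem' := fun {a} ha u => by
        have := neg_mem (ha (act a⁻¹ u))
        rwa [OffSL2.act_inv', neg_sub] at this }
  have hK : E ≤ K := by
    refine (h.gen E hE).trans (sSup_le ?_)
    rintro Z ⟨hZ, hZE⟩ a ha u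
    have hsup : E' ≤ stabV act (act a u - u) := by
      refine (h.gen E' hE').trans (sSup_le ?_)
      rintro Z' ⟨hZ', hZE'⟩ b hb
      obtain ⟨-, hq⟩ := exact_sSup hP (S := {Z, Z'}) (by rintro X (rfl | rfl); exacts [hZ.1, hZ'.1]) (by
        rintro X (rfl | rfl) X' (rfl | rfl)
        · exact hZ.1.el.comm
        · exact fun a ha b hb => h.comm E E' hE hE' hne a (hZE ha) b (hZE' hb)
        · exact fun a ha b hb => (h.comm E E' hE hE' hne b (hZE hb) a (hZE' ha)).symm
        · exact hZ'.1.el.comm)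
      exact hq a (le_sSup (show Z ∈ ({Z, Z'} : Set (Subgroup P)) from Or.inl rfl) ha) u b
        (le_sSup (show Z' ∈ ({Z, Z'} : Set (Subgroup P)) from Or.inr rfl) hb)
    exact fun e he => hsup he
  refine (AddSubgroup.closure_le _).2 ?_
  rintro _ ⟨e, he, u, rfl⟩
  exact hK he u

theorem disjoint' {E : Subgroup P} (hE : bl E) : E ⊓ sSup {E' | bl E' ∧ E' ≠ E} = ⊥ := by
  rw [eq_bot_iff]
  rintro x ⟨hxE, hx⟩
  refine mem_bot.2 (hP.inj (AddMonoidHom.ext fun v => ?_))
  show act x v = act 1 v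
  obtain ⟨w, hw, hvw⟩ := h.cover E hE v
  have h1 : sSup {E' | bl E' ∧ E' ≠ E} ≤ stabV act w :=
    sSup_le fun E' hE' e he => h.img_le_fix hP hE hE'.1 (Ne.symm hE'.2) hw e he
  have h2 : act x w = w := h1 hx
  have h3 : act x (v - w) = v - w := hvw x hxE
  rw [map_sub, h2, sub_left_inj] at h3
  rw [h3, OffSL2.act_one]

theorem orbit_sup_top {E0 : Subgroup P} (hE0 : bl E0) :
    sSup {X | ∃ t ∈ T, cj t E0 = X} ⊔ T = ⊤ := by
  by_contra hne
  exact h.notM E0 hE0 ((le_sSup (show E0 ∈ {X | ∃ t ∈ T, cj t E0 = X} from ⟨1, T.one_mem, cj_one E0⟩)).trans (le_sup_left.trans (hP.pmin _ le_sup_right hne)))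

theorem exists_conj_T {E0 E' : Subgroup P} (hE0 : bl E0) (hE' : bl E') : ∃ t ∈ T, cj t E0 = E' := by
  by_contra hne
  push Not at hne
  obtain ⟨J, hJ⟩ : ∃ J, J = sSup {X | ∃ t ∈ T, cj t E0 = X} := ⟨_, rfl⟩
  have hJc : ∀ a ∈ E', ∀ j ∈ J, a * j = j * a := by
    intro a ha j hj
    have : J ≤ Subgroup.centralizer {a} := by
      rw [hJ]
      refine sSup_le ?_
      rintro _ ⟨t, ht, rfl⟩ z hz
      exact mem_centralizer_singleton_iff.2
        (h.comm _ _ hE' (h.conj E0 hE0 t) (Ne.symm (hne t ht)) a ha z hz).symm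
    exact (mem_centralizer_singleton_iff.1 (this hj)).symm
  have hTn : T ≤ Subgroup.normalizer (J : Set P) := fun t ht => mem_normalizer_of_conj fun j hj => by
    have : J ≤ J.comap (MulAut.conj t).toMonoidHom := by
      conv_lhs => rw [hJ]
      refine sSup_le ?_
      rintro _ ⟨s, hs, rfl⟩
      refine map_le_iff_le_comap.1 ?_
      rw [hJ]
      exact le_sSup_of_le ⟨t * s, T.mul_mem ht hs, rfl⟩ (cj_cj t s E0).le
    exact this hj
  have hatT : ∀ Z, AtQ p act q Z → Z ≤ E' → Z ≤ T := by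
    intro Z hZ hZE
    obtain ⟨k, hk⟩ := exists_into_T hP hZ.1.el.isPGroup
    have hkm : k ∈ T ⊔ J := by rw [sup_comm, hJ, h.orbit_sup_top hP hE0]; exact mem_top k
    rw [← SetLike.mem_coe, coe_mul_of_left_le_normalizer_right T J hTn] at hkm
    obtain ⟨t, ht, j, hj, rfl⟩ := hkm
    intro a ha
    have h1 := hk (conj_mem_cj (x := t * j) ha)
    rw [show t * j * a * (t * j)⁻¹ = t * (j * a * j⁻¹) * t⁻¹ by group, ← hJc a (hZE ha) j hj, mul_inv_cancel_right] at h1
    simpa [mul_assoc] using T.mul_mem (T.mul_mem (T.inv_mem ht) h1) ht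
  obtain ⟨Z, hZ, hZE⟩ : ∃ Z, AtQ p act q Z ∧ Z ≤ E' := by
    by_contra hnone
    push Not at hnone
    exact h.notM E' hE' ((h.gen E' hE').trans (sSup_le fun Z hZ => absurd hZ.2 (hnone Z hZ.1)))
  refine no_central hP hZ fun X hX a ha b hb => ?_
  obtain ⟨E'', hE'', hXE⟩ := h.mem X hX
  by_cases e : E' = E''
  · exact atoms_commute hP hZ.1 hX.1 (hZ.2.trans hX.2.symm) (hatT Z hZ hZE) (hatT X hX (e ▸ hXE)) a ha b hb
  · exact h.comm E' E'' hE' hE'' e a (hZE ha) b (hXE hb)

theorem sup_top {E0 : Subgroup P} (hE0 : bl E0) : sSup {E | bl E} ⊔ T = ⊤ := by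
  refine eq_top_iff.2 ((h.orbit_sup_top hP hE0).ge.trans (sup_le_sup_right (sSup_le ?_) T))
  rintro _ ⟨t, -, rfl⟩
  exact le_sSup (h.conj E0 hE0 t)

theorem decomp (v : U) : ∃ w ∈ ⨆ E ∈ {E | bl E}, img act E, v - w ∈ fix act (sSup {E | bl E}) := by
  suffices ∀ S : Set (Subgroup P), S ⊆ {E | bl E} →
      ∃ w ∈ ⨆ E ∈ S, img act E, ∀ E ∈ S, v - w ∈ fix act E by
    obtain ⟨w, hw, hall⟩ := this _ le_rfl
    exact ⟨w, hw, fun x hx => (sSup_le fun E hE e he => hall E hE e he : sSup {E | bl E} ≤ stabV act (v - w)) hx⟩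
  intro S hS
  induction S, Set.toFinite S using Set.Finite.induction_on with
  | empty => exact ⟨0, zero_mem _, fun E hE => absurd hE (Set.notMem_empty E)⟩
  | @insert E S hES _ ih =>
    obtain ⟨w, hw, hall⟩ := ih (fun X hX => hS (Set.mem_insert_of_mem E hX))
    have hE : bl E := hS (Set.mem_insert E S)
    obtain ⟨w', hw', hwE⟩ := h.cover E hE (v - w)
    refine ⟨w + w', add_mem ?_ ?_, fun X hX => ?_⟩
    · exact (iSup₂_le fun X hX => le_iSup₂_of_le X (Set.mem_insert_of_mem E hX) le_rfl :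
        ⨆ X ∈ S, img act X ≤ ⨆ X ∈ insert E S, img act X) hw
    · exact (le_iSup₂_of_le E (Set.mem_insert E S) le_rfl : img act E ≤ ⨆ X ∈ insert E S, img act X) hw'
    · rw [← sub_sub]
      rcases hX with rfl | hX
      · exact hwE
      · exact sub_mem (hall X hX) (h.img_le_fix hP hE (hS (Set.mem_insert_of_mem E hX))
          (fun e => hES (e ▸ hX)) hw')

end Blocks

end CfsgLib.LocalEven.PMinFF
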