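import Cfsg.Agent.Lib.LocalEven.PMinFF.Basic

/-!
# Minimal candidate subgroups

For `A ≤ T` and a marker `B ≤ A` a candidate is a subgroup `L` not contained in `M`, with `T ⊓ L` a Sylow
subgroup lying in a unique maximal subgroup, containing a conjugate of `A` in `T` whose marker is not in
`O_p(L)`. In a smallest candidate the conjugate and any translate of it off `M` generate `L`.
-/

set_option autoImplicit false
set_option linter.all false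

namespace CfsgLib.LocalEven.PMinFF

open Subgroup CfsgLib.LocalEven.OffSL2

variable {P : Type*} [Group P] [Finite P] {p : ℕ} [Fact p.Prime]
variable {U : Type*} [AddCommGroup U] [Finite U]

/-- The standing hypotheses. -/
structure PMod (p : ℕ) (act : P →* AddMonoid.End U) (T M : Subgroup P) (y : U) : Prop where
  inj : Function.Injective act
  hpU : ∀ u : U, p • u = 0
  syl : MaxP p T ⊤
  pmin : ∀ X : Subgroup P, T ≤ X → X ≠ ⊤ → X ≤ M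
  TM : T ≤ M
  Mne : M ≠ ⊤
  nop : ∀ N : Subgroup P, IsPGroup p N → (∀ g : P, ∀ n ∈ N, g * n * g⁻¹ ∈ N) → N = ⊥
  hy : y ∈ fix act T
  stab : stabV act y ≤ M

variable {act : P →* AddMonoid.End U} {T M : Subgroup P} {y : U}

/-- Marker condition: conjugates of `A` in `T` commute with conjugates of the marker in `T`, or the marker is `A`. -/
def Stable (T A B : Subgroup P) : Prop :=
  A = B ∨ ∀ x z : P, cj x A ≤ T → cj z B ≤ T → ∀ a ∈ cj x A, ∀ b ∈ cj z B, a * b = b * a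

omit [Finite P] in
theorem Stable.cj {A B : Subgroup P} (h : Stable T A B) (h0 : P) : Stable T (cj h0 A) (cj h0 B) := by
  rcases h with rfl | h
  · exact Or.inl rfl
  · refine Or.inr fun x z hx hz => ?_
    rw [cj_cj] at hx hz ⊢
    rw [cj_cj]
    exact h _ _ hx hz

omit [Finite P] in
theorem marker_conj {Q L B : Subgroup P} (hQ : ∀ l ∈ L, ∀ q ∈ Q, l * q * l⁻¹ ∈ Q) {x z : P} (hx : x ∈ L)
    (h : ¬ cj z B ≤ Q) : ¬ cj (x * z) B ≤ Q := by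
  refine fun hc => h (cj_le.2 fun b hb => ?_)
  have h1 := hQ x⁻¹ (L.inv_mem hx) _ (hc (conj_mem_cj hb))
  rwa [show x⁻¹ * (x * z * b * (x * z)⁻¹) * x⁻¹⁻¹ = z * b * z⁻¹ by group] at h1

/-- A candidate for `A` with marker `B`. -/
def IsCand (p : ℕ) (T M A B L : Subgroup P) : Prop :=
  ¬ L ≤ M ∧ MaxP p (T ⊓ L) L ∧ (∀ X : Subgroup P, T ⊓ L ≤ X → X ≤ L → X ≠ L → X ≤ M) ∧
    ∃ h : P, cj h A ≤ T ⊓ L ∧ ¬ cj h B ≤ opc p L

/-- A smallest candidate, rebased at its conjugate of `A`. -/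
structure MinC (p : ℕ) (T M A B L : Subgroup P) : Prop where
  notLM : ¬ L ≤ M
  maxp : MaxP p (T ⊓ L) L
  pmin : ∀ X : Subgroup P, T ⊓ L ≤ X → X ≤ L → X ≠ L → X ≤ M
  AT : A ≤ T ⊓ L
  BA : B ≤ A
  BQ : ¬ B ≤ opc p L
  gen : ∀ k ∈ L, k ∉ M → A ⊔ cj k A = L

theorem small (h : PMod p act T M y) {A B L : Subgroup P} (hBA : B ≤ A) (hst : Stable T A B)
    (hL : MaxP p (T ⊓ L) L) (hpm : ∀ X : Subgroup P, T ⊓ L ≤ X → X ≤ L → X ≠ L → X ≤ M)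
    (hLmin : ∀ L' : Subgroup P, L' ≤ L → IsCand p T M A B L' → Nat.card L ≤ Nat.card L')
    {R : Subgroup P} (hR : R ≤ L) (hRL : R ≠ L) (hRM : ¬ R ≤ M) {x : P}
    (hxA : cj x A ≤ T ⊓ R) (hxB : ¬ cj x B ≤ opc p L) : False := by
  classical
  obtain ⟨S, hS⟩ : ∃ S : Set (Subgroup P), S = {R | R ≤ L ∧ R ≠ L ∧ ¬ R ≤ M ∧
      ∃ x, cj x A ≤ T ⊓ R ∧ ¬ cj x B ≤ opc p L} := ⟨_, rfl⟩
  have hQ : ∀ l ∈ L, ∀ q ∈ opc p L, l * q * l⁻¹ ∈ opc p L := fun l hl q hq => opc_conj hl hq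
  obtain ⟨R1, hR1S, hR1max⟩ := Set.exists_max_image S (fun R => Nat.card ↥(T ⊓ R)) (Set.toFinite S)
    ⟨R, hS ▸ ⟨hR, hRL, hRM, x, hxA, hxB⟩⟩
  obtain ⟨R0, ⟨hR0S, hR0card⟩, hR0min⟩ := Set.exists_min_image
    {X | X ∈ S ∧ Nat.card ↥(T ⊓ X) = Nat.card ↥(T ⊓ R1)} (fun R => Nat.card R) (Set.toFinite _)
    ⟨R1, hR1S, rfl⟩
  have hmax : ∀ X ∈ S, Nat.card ↥(T ⊓ X) ≤ Nat.card ↥(T ⊓ R0) := fun X hX => hR0card ▸ hR1max X hX
  obtain ⟨T1, hT1⟩ : ∃ T1, T1 = T ⊓ R0 := ⟨_, rfl⟩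
  rw [← hT1] at hmax
  obtain ⟨hR0L, hR0ne, hR0M, x0, hx0A, hx0B⟩ := (hS ▸ hR0S : R0 ∈ {R | R ≤ L ∧ R ≠ L ∧ ¬ R ≤ M ∧
      ∃ x, cj x A ≤ T ⊓ R ∧ ¬ cj x B ≤ opc p L})
  rw [← hT1] at hx0A
  have hT1R : T1 ≤ R0 := hT1 ▸ inf_le_right
  have hT1T : T1 ≤ T := hT1 ▸ inf_le_left
  have hT1L : T1 ≤ T ⊓ L := le_inf hT1T (hT1R.trans hR0L)
  have hp1 : IsPGroup p T1 := h.syl.pgr.to_le hT1T
  -- `T1` is maximal in `R0 ⊓ M`
  have hRMmax : MaxP p T1 (R0 ⊓ M) := by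
    obtain ⟨S0, hTS0, hS0⟩ := exists_maxP (L := R0 ⊓ M) hp1 (le_inf hT1R (hT1T.trans h.TM))
    obtain ⟨k, hk, hkle⟩ := (hL.mono (L' := L ⊓ M) (le_inf inf_le_right (inf_le_left.trans h.TM))
      inf_le_left).exists_conj hS0.pgr (hS0.le.trans (inf_le_inf_right M hR0L))
    have hmem : cj k R0 ∈ S := by
      rw [hS]
      refine ⟨cj_le_of_mem hk.1 hR0L, fun e => hR0ne (eq_of_le_of_card_ge hR0L (by
        conv_lhs => rw [← e]
        rw [card_cj])), fun hc => hR0M fun r hr => ?_, k * x0, ?_, marker_conj hQ hk.1 hx0B⟩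
      · have := M.mul_mem (M.mul_mem (M.inv_mem hk.2) (hc (conj_mem_cj hr))) hk.2
        rwa [show k⁻¹ * (k * r * k⁻¹) * k = r by group] at this
      · rw [← cj_cj]
        exact le_inf ((cj_mono (hx0A.trans hTS0)).trans (hkle.trans inf_le_left)) (cj_mono (hx0A.trans hT1R))
    have h1 : Nat.card S0 ≤ Nat.card T1 := by
      refine le_trans ?_ (hmax _ hmem)
      rw [← card_cj k S0]
      exact card_le_of_le (le_inf (hkle.trans inf_le_left) (cj_mono (hS0.le.trans inf_le_left)))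
    rwa [← eq_of_le_of_card_ge hTS0 h1] at hS0
  have hTlt : T1 < T ⊓ L := lt_of_le_of_ne hT1L fun e =>
    hR0M (hpm R0 (e ▸ hT1R) hR0L hR0ne)
  obtain ⟨N0, hN0⟩ : ∃ N0, N0 = (T ⊓ L) ⊓ Subgroup.normalizer (T1 : Set P) := ⟨_, rfl⟩
  have hTN : T1 < N0 := hN0 ▸ CfsgLib.Transfer.lt_inf_normalizer hL.pgr hTlt
  -- `T1` is maximal in `R0`
  have hR0max : MaxP p T1 R0 := by
    refine ⟨hT1R, hp1, fun S1 h1 h2 h3 => ?_⟩
    by_contra hne
    have hlt := CfsgLib.Transfer.lt_inf_normalizer h3 (lt_of_le_of_ne h1 (Ne.symm hne))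
    have hnotM : ¬ S1 ⊓ Subgroup.normalizer (T1 : Set P) ≤ M := fun hc =>
      hlt.ne (hRMmax.max _ hlt.le (le_inf (inf_le_left.trans h2) hc) (h3.to_le inf_le_left)).symm
    have hmem : L ⊓ Subgroup.normalizer (T1 : Set P) ∈ S := by
      rw [hS]
      refine ⟨inf_le_left, fun e => ?_, fun hc => hnotM ((le_inf (inf_le_left.trans (h2.trans hR0L))
        inf_le_right).trans hc), x0, hx0A.trans (le_inf hT1T (le_inf (hT1R.trans hR0L) le_normalizer)), hx0B⟩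
      refine hx0B ((cj_mono hBA).trans (hx0A.trans (le_opc (hT1R.trans hR0L) hp1 fun l hl n hn => ?_)))
      exact (mem_normalizer_iff.1 ((e.ge hl).2) n).1 hn
    have h4 := hmax _ hmem
    have h5 : N0 ≤ T ⊓ (L ⊓ Subgroup.normalizer (T1 : Set P)) := hN0 ▸ (inf_assoc _ _ _).le
    have h6 : Nat.card N0 ≤ Nat.card T1 := (card_le_of_le h5).trans h4
    exact hTN.ne (eq_of_le_of_card_ge hTN.le h6)
  have hR0pm : ∀ X : Subgroup P, T1 ≤ X → X ≤ R0 → X ≠ R0 → X ≤ M := by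
    intro X h1 h2 h3
    by_contra hXM
    have hTX : T ⊓ X = T1 := le_antisymm (hT1 ▸ inf_le_inf_left T h2) (le_inf hT1T h1)
    have hXS : X ∈ S := by
      rw [hS]
      exact ⟨h2.trans hR0L, fun e => hR0ne (le_antisymm hR0L (e ▸ h2)), hXM, x0, hTX.symm ▸ hx0A, hx0B⟩
    exact h3 (eq_of_le_of_card_ge h2 (hR0min X ⟨hXS, by rw [hTX, hT1]; exact hR0card⟩))
  -- all markers of `R0` lie in `O_p(R0)`
  have hall : ∀ z : P, cj z A ≤ T1 → cj z B ≤ opc p R0 := by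
    intro z hz
    by_contra hc
    have h1 : IsCand p T M A B R0 := ⟨hR0M, hT1 ▸ hR0max, hT1 ▸ hR0pm, z, hT1 ▸ hz, hc⟩
    exact hR0ne (eq_of_le_of_card_ge hR0L (hLmin R0 hR0L h1))
  obtain ⟨Θ, hΘ⟩ : ∃ Θ : Set P, Θ = {w | ∃ z, cj z A ≤ T1 ∧ ¬ cj z B ≤ opc p L ∧ w ∈ cj z B} := ⟨_, rfl⟩
  have hΘmem : ∀ w, w ∈ Θ ↔ ∃ z, cj z A ≤ T1 ∧ ¬ cj z B ≤ opc p L ∧ w ∈ cj z B := fun w => by rw [hΘ]; rfl
  have hΘQ : Θ ⊆ opc p R0 := fun w hw => by
    obtain ⟨z, h1, -, h3⟩ := (hΘmem w).1 hw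
    exact hall z h1 h3
  have hΘT : Θ ⊆ T1 := fun w hw => opc_le_maxP hR0max (hΘQ hw)
  -- `R0` permutes the markers
  have hΘR : ∀ r ∈ R0, ∀ w ∈ Θ, r * w * r⁻¹ ∈ Θ := by
    have hT : ∀ t ∈ T1, ∀ w ∈ Θ, t * w * t⁻¹ ∈ Θ := fun t ht w hw => by
      obtain ⟨z, h1, h2, h3⟩ := (hΘmem w).1 hw
      refine (hΘmem _).2 ⟨t * z, ?_, marker_conj hQ (hR0L (hT1R ht)) h2, ?_⟩
      · rw [← cj_cj]; exact cj_le_of_mem ht h1
      · rw [← cj_cj]; exact conj_mem_cj h3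
    rcases hst with rfl | hst
    · intro r hr w hw
      obtain ⟨z, h1, h2, h3⟩ := (hΘmem w).1 hw
      refine (hΘmem _).2 ⟨r * z, ?_, marker_conj hQ (hR0L hr) h2, ?_⟩
      · rw [← cj_cj]
        exact cj_le.2 fun a ha => opc_le_maxP hR0max (opc_conj hr (hall z h1 ha))
      · rw [← cj_cj]; exact conj_mem_cj h3
    obtain ⟨C, hC⟩ : ∃ C : Subgroup P,
        C = R0 ⊓ Subgroup.centralizer {v | ∃ r ∈ R0, ∃ w ∈ Θ, v = r * w * r⁻¹} := ⟨_, rfl⟩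
    have hAC : ∀ z, cj z A ≤ T1 → cj z A ≤ C := fun z hz => by
      rw [hC]
      refine le_inf (hz.trans hT1R) fun a ha => mem_centralizer_iff.2 ?_
      rintro _ ⟨r, hr, w, hw, rfl⟩
      obtain ⟨z', h1', -, h3'⟩ := (hΘmem w).1 hw
      refine (hst z (r * z') (hz.trans hT1T) ?_ a ha _ ?_).symm
      · rw [← cj_cj]
        exact cj_le.2 fun b hb => hT1T (opc_le_maxP hR0max (opc_conj hr (hall z' h1' hb)))
      · rw [← cj_cj]; exact conj_mem_cj h3'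
    have hCR : C ≤ R0 := hC ▸ inf_le_left
    have hCn : ∀ l ∈ R0, ∀ c ∈ C, l * c * l⁻¹ ∈ C := by
      intro l hl c hc
      rw [hC] at hc ⊢
      refine ⟨R0.mul_mem (R0.mul_mem hl hc.1) (R0.inv_mem hl), mem_centralizer_iff.2 ?_⟩
      rintro _ ⟨r, hr, w, hw, rfl⟩
      have h2 := mem_centralizer_iff.1 hc.2 _ ⟨l⁻¹ * r, R0.mul_mem (R0.inv_mem hl) hr, w, hw, rfl⟩
      calc r * w * r⁻¹ * (l * c * l⁻¹) = l * ((l⁻¹ * r) * w * (l⁻¹ * r)⁻¹ * c) * l⁻¹ := by group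
        _ = l * (c * ((l⁻¹ * r) * w * (l⁻¹ * r)⁻¹)) * l⁻¹ := by rw [h2]
        _ = l * c * l⁻¹ * (r * w * r⁻¹) := by group
    have hnorm : T1 ≤ Subgroup.normalizer (C : Set P) := fun t ht =>
      mem_normalizer_of_conj fun c hc => hCn t (hT1R ht) c hc
    have hdec : ∀ r ∈ C ⊔ T1, ∃ c ∈ C, ∃ t ∈ T1, c * t = r := fun r hr => by
      rw [← SetLike.mem_coe, coe_mul_of_right_le_normalizer_left C T1 hnorm] at hr
      exact hr
    by_cases htop : C ⊔ T1 = R0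
    · intro r hr w hw
      obtain ⟨c, hc, t, ht, rfl⟩ := hdec r (htop.symm ▸ hr)
      have h2 := hT t ht w hw
      rw [hC] at hc
      have h3 := mem_centralizer_iff.1 hc.2 (t * w * t⁻¹) ⟨1, R0.one_mem, _, h2, by simp⟩
      rwa [show c * t * w * (c * t)⁻¹ = c * (t * w * t⁻¹) * c⁻¹ by group, ← h3, mul_inv_cancel_right]
    · have hCM : C ≤ M := le_sup_left.trans (hR0pm _ le_sup_right (sup_le hCR hT1R) htop)
      obtain ⟨D, hDdef⟩ : ∃ D, D = T1 ⊓ C := ⟨_, rfl⟩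
      have hDQ : D ≤ opc p R0 := by
        obtain ⟨N, hN⟩ : ∃ N, N = R0 ⊓ Subgroup.normalizer (D : Set P) := ⟨_, rfl⟩
        have hDn : ∀ t ∈ T1, ∀ d ∈ D, t * d * t⁻¹ ∈ D := fun t ht d hd => by
          rw [hDdef] at hd ⊢
          exact ⟨T1.mul_mem (T1.mul_mem ht hd.1) (T1.inv_mem ht), hCn t (hT1R ht) d hd.2⟩
        have hTN' : T1 ≤ N := hN ▸ le_inf hT1R fun t ht => mem_normalizer_of_conj (hDn t ht)
        by_cases hNR : N = R0
        · exact le_opc (hDdef ▸ inf_le_left.trans hT1R) (hp1.to_le (hDdef ▸ inf_le_left)) fun l hl n hn =>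
            (mem_normalizer_iff.1 ((hN ▸ hNR).ge hl).2 n).1 hn
        exfalso
        refine hR0M fun l hl => ?_
        have hNM := hR0pm N hTN' (hN ▸ inf_le_left) hNR
        have hmx : MaxP p D C := by
          refine ⟨hDdef ▸ inf_le_right, hp1.to_le (hDdef ▸ inf_le_left), fun X h1 h2 h3 => ?_⟩
          obtain ⟨k, hk, hkX⟩ := hR0max.exists_conj h3 (h2.trans hCR)
          have hkD : cj k X ≤ D := hDdef ▸ le_inf hkX (cj_le.2 fun a ha => hCn k hk a (h2 ha))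
          exact (eq_of_le_of_card_ge h1 ((card_cj k X).ge.trans (card_le_of_le hkD))).symm
        obtain ⟨c, hc, hcD⟩ := hmx.exists_conj (isPGroup_cj (x := l) hmx.pgr)
          (cj_le.2 fun d hd => hCn l hl d (hmx.le hd))
        rw [cj_cj] at hcD
        have : c * l ∈ N := hN ▸ ⟨R0.mul_mem (hCR hc) hl, mem_normalizer_of_conj (cj_le.1 hcD)⟩
        simpa [← mul_assoc] using M.mul_mem (M.inv_mem (hCM hc)) (hNM this)
      intro r hr w hw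
      obtain ⟨z, h1, h2, h3⟩ := (hΘmem w).1 hw
      refine (hΘmem _).2 ⟨r * z, ?_, marker_conj hQ (hR0L hr) h2, ?_⟩
      · rw [← cj_cj]
        exact cj_le.2 fun a ha => opc_le_maxP hR0max (opc_conj hr
          (hDQ (hDdef ▸ ⟨h1 ha, hAC z h1 ha⟩)))
      · rw [← cj_cj]; exact conj_mem_cj h3
  obtain ⟨E0, hE0⟩ : ∃ E0, E0 = Subgroup.closure Θ := ⟨_, rfl⟩
  have hEn : ∀ {g : P}, (∀ w ∈ Θ, g * w * g⁻¹ ∈ Θ) → g ∈ Subgroup.normalizer (E0 : Set P) := fun {g} hg => by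
    refine mem_normalizer_of_conj fun e he => ?_
    have : E0 ≤ E0.comap (MulAut.conj g).toMonoidHom := by
      conv_lhs => rw [hE0]
      rw [closure_le]
      exact fun w hw => hE0 ▸ subset_closure (hg w hw)
    exact this he
  have hNn : ∀ n ∈ N0, ∀ w ∈ Θ, n * w * n⁻¹ ∈ Θ := by
    intro n hn w hw
    rw [hN0] at hn
    obtain ⟨z, h1, h2, h3⟩ := (hΘmem w).1 hw
    refine (hΘmem _).2 ⟨n * z, ?_, marker_conj hQ hn.1.2 h2, ?_⟩
    · rw [← cj_cj]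
      exact (cj_mono h1).trans (cj_eq_self hn.2).le
    · rw [← cj_cj]; exact conj_mem_cj h3
  have hmem : L ⊓ Subgroup.normalizer (E0 : Set P) ∈ S := by
    rw [hS]
    refine ⟨inf_le_left, fun e => ?_, fun hc => hR0M fun r hr =>
      hc ⟨hR0L hr, hEn (hΘR r hr)⟩, x0,
      hx0A.trans (le_inf hT1T fun t ht => ⟨hR0L (hT1R ht), hEn (hΘR t (hT1R ht))⟩), hx0B⟩
    have hET : E0 ≤ T1 := hE0 ▸ (closure_le _).2 hΘT
    have hEQ : E0 ≤ opc p L := le_opc (hET.trans (hT1R.trans hR0L)) (hp1.to_le hET) fun l hl n hn =>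
      (mem_normalizer_iff.1 ((e.ge hl).2) n).1 hn
    exact hx0B fun w hw => hEQ (hE0 ▸ subset_closure ((hΘmem w).2 ⟨x0, hx0A, hx0B, hw⟩))
  have h4 := hmax _ hmem
  have h5 : N0 ≤ T ⊓ (L ⊓ Subgroup.normalizer (E0 : Set P)) := fun n hn => by
    have hn' := hN0 ▸ hn
    exact ⟨hn'.1.1, hn'.1.2, hEn (hNn n hn)⟩
  exact hTN.ne (eq_of_le_of_card_ge hTN.le ((card_le_of_le h5).trans h4))

theorem isCand_top (h : PMod p act T M y) {A B : Subgroup P} (hAT : A ≤ T) (hB : B ≠ ⊥) :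
    IsCand p T M A B ⊤ := by
  refine ⟨fun hc => h.Mne (top_le_iff.1 hc), by rw [inf_top_eq]; exact h.syl, fun X h1 _ h3 =>
    h.pmin X (by rwa [inf_top_eq] at h1) h3, 1, by rw [cj_one, inf_top_eq]; exact hAT, fun hc => hB ?_⟩
  have := h.nop (opc p ⊤) (isPGroup_opc p ⊤) fun g n hn => opc_conj (mem_top g) hn
  rw [this, cj_one, le_bot_iff] at hc
  exact hc

/-- Every candidate contains a smallest one, generated by two conjugates. -/
theorem exists_minC_le (h : PMod p act T M y) {A B Lb : Subgroup P} (hBA : B ≤ A) (hst : Stable T A B)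
    (hb : IsCand p T M A B Lb) : ∃ (h0 : P) (L : Subgroup P), L ≤ Lb ∧ MinC p T M (cj h0 A) (cj h0 B) L := by
  obtain ⟨L, ⟨hLc, hLb⟩, hLmin'⟩ := Set.exists_min_image {L | IsCand p T M A B L ∧ L ≤ Lb} (fun L => Nat.card L)
    (Set.toFinite _) ⟨Lb, hb, le_rfl⟩
  have hLmin : ∀ L' : Subgroup P, L' ≤ L → IsCand p T M A B L' → Nat.card L ≤ Nat.card L' :=
    fun L' h1 h2 => hLmin' L' ⟨h2, h1.trans hLb⟩
  obtain ⟨hLM, hmx, hpm, h0, hA0, hB0⟩ := hLc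
  refine ⟨h0, L, hLb, hLM, hmx, hpm, hA0, cj_mono hBA, hB0, fun k hk hkM => ?_⟩
  by_contra hne
  have hsm : ∀ {R : Subgroup P}, R ≤ L → R ≠ L → ¬ R ≤ M → ∀ {x : P}, cj x A ≤ T ⊓ R →
      ¬ cj x B ≤ opc p L → False := by
    intro R h1 h2 h3 x h4 h5
    exact small h hBA hst hmx hpm hLmin h1 h2 h3 h4 h5
  have hQ : ∀ l ∈ L, ∀ q ∈ opc p L, l * q * l⁻¹ ∈ opc p L := fun l hl q hq => opc_conj hl hq
  obtain ⟨A', hA'⟩ : ∃ A', A' = cj h0 A := ⟨_, rfl⟩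
  rw [← hA'] at hne hA0
  have hkA : cj k A' ≤ L := cj_le_of_mem hk (hA0.trans inf_le_right)
  by_cases hL1 : A' ⊔ cj k A' ≤ M
  swap
  · exact hsm (sup_le (hA0.trans inf_le_right) hkA) hne hL1 (x := h0)
      (hA' ▸ le_inf (hA0.trans inf_le_left) le_sup_left) hB0
  have hpA : IsPGroup p A' := hmx.pgr.to_le hA0
  obtain ⟨m, hm, hmle⟩ := (hmx.mono (L' := L ⊓ M) (le_inf inf_le_right (inf_le_left.trans h.TM))
    inf_le_left).exists_conj (isPGroup_cj (x := k) hpA) (le_inf hkA (le_sup_right.trans hL1))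
  rw [cj_cj] at hmle
  obtain ⟨T1, hT1⟩ : ∃ T1, T1 = T ⊓ L := ⟨_, rfl⟩
  rw [← hT1] at hmle hA0
  obtain ⟨S, hS⟩ : ∃ S : Set P, S = {x | x ∈ L ∧ x ∉ M ∧
      ∃ z, cj z A ≤ T1 ⊓ cj x T1 ∧ ¬ cj z B ≤ opc p L} := ⟨_, rfl⟩
  have hxS : m * k ∈ S := by
    rw [hS]
    refine ⟨L.mul_mem hm.1 hk, fun hc => hkM (by simpa [← mul_assoc] using M.mul_mem (M.inv_mem hm.2) hc),
      m * k * h0, ?_, marker_conj hQ (L.mul_mem hm.1 hk) hB0⟩
    rw [← cj_cj, ← hA']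
    exact le_inf hmle (cj_mono hA0)
  obtain ⟨x, hxS', hxmax⟩ := Set.exists_max_image S (fun x => Nat.card ↥(T1 ⊓ cj x T1)) (Set.toFinite S) ⟨_, hxS⟩
  rw [hS] at hxS'
  obtain ⟨hxL, hxM, z, hz, hzB⟩ := hxS'
  obtain ⟨D, hD⟩ : ∃ D, D = T1 ⊓ cj x T1 := ⟨_, rfl⟩
  rw [← hD] at hz
  have hT1L : T1 ≤ L := hT1 ▸ inf_le_right
  have hxT1 : cj x T1 ≤ L := cj_le_of_mem hxL hT1L
  have hDT : D ≤ T1 := hD ▸ inf_le_left
  have hpT1 : IsPGroup p T1 := hT1 ▸ hmx.pgr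
  have hDlt : D < cj x T1 := by
    refine lt_of_le_of_ne (hD ▸ inf_le_right) fun e => ?_
    have he : cj x T1 = T1 := eq_of_le_of_card_ge (e ▸ hDT) (card_cj x T1).ge
    obtain ⟨R, hR⟩ : ∃ R, R = L ⊓ Subgroup.normalizer (T1 : Set P) := ⟨_, rfl⟩
    have hxR : x ∈ R := hR ▸ ⟨hxL, mem_normalizer_of_conj fun a ha => he ▸ conj_mem_cj ha⟩
    by_cases hRL : R = L
    · exact hzB ((cj_mono hBA).trans (hz.trans (hDT.trans (le_opc hT1L hpT1 fun l hl n hn =>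
        (mem_normalizer_iff.1 ((hR ▸ hRL).ge hl).2 n).1 hn))))
    · exact hxM (hpm R (hT1 ▸ hR ▸ le_inf hT1L le_normalizer) (hR ▸ inf_le_left) hRL hxR)
  obtain ⟨N, hN⟩ : ∃ N, N = L ⊓ Subgroup.normalizer (D : Set P) := ⟨_, rfl⟩
  by_cases hNM : N ≤ M
  swap
  · refine hsm (hN ▸ inf_le_left) (fun e => hzB ((cj_mono hBA).trans (hz.trans (le_opc
      (hDT.trans hT1L) (hpT1.to_le hDT) fun l hl n hn =>
        (mem_normalizer_iff.1 ((hN ▸ e).ge hl).2 n).1 hn)))) hNM (x := z) ?_ hzB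
    exact le_inf (hz.trans (hDT.trans (hT1 ▸ inf_le_left)))
      (hN ▸ le_inf (hz.trans (hDT.trans hT1L)) (hz.trans le_normalizer))
  have hlt := CfsgLib.Transfer.lt_inf_normalizer (isPGroup_cj (x := x) hpT1) hDlt
  obtain ⟨D2, hD2⟩ : ∃ D2, D2 = cj x T1 ⊓ Subgroup.normalizer (D : Set P) := ⟨_, rfl⟩
  rw [← hD2] at hlt
  have hD2N : D2 ≤ N := hD2 ▸ hN ▸ inf_le_inf_right _ hxT1
  obtain ⟨m', hm', hm'le⟩ := (hmx.mono (L' := L ⊓ M) (le_inf inf_le_right (inf_le_left.trans h.TM))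
    inf_le_left).exists_conj (S := D2) ((isPGroup_cj (x := x) hpT1).to_le (hD2 ▸ inf_le_left))
    (le_inf ((hD2 ▸ inf_le_left : D2 ≤ cj x T1).trans hxT1) (hD2N.trans hNM))
  rw [← hT1] at hm'le
  have hsub : cj m' D2 ≤ T1 ⊓ cj (m' * x) T1 := le_inf hm'le (by
    rw [← cj_cj]; exact cj_mono (hD2 ▸ inf_le_left))
  have hmem : m' * x ∈ S := by
    rw [hS]
    refine ⟨L.mul_mem hm'.1 hxL, fun hc => hxM (by simpa [← mul_assoc] using M.mul_mem (M.inv_mem hm'.2) hc),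
      m' * z, ?_, marker_conj hQ hm'.1 hzB⟩
    rw [← cj_cj]
    exact (cj_mono (hz.trans hlt.le)).trans hsub
  have h1 := hxmax _ hmem
  rw [← hD] at h1
  have h2 : Nat.card D2 ≤ Nat.card D := by
    rw [← card_cj m' D2]; exact (card_le_of_le hsub).trans h1
  exact hlt.ne (eq_of_le_of_card_ge hlt.le h2)

/-- A smallest candidate exists. -/
theorem exists_minC (h : PMod p act T M y) {A B : Subgroup P} (hAT : A ≤ T) (hBA : B ≤ A) (hB : B ≠ ⊥)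
    (hst : Stable T A B) : ∃ (h0 : P) (L : Subgroup P), MinC p T M (cj h0 A) (cj h0 B) L := by
  obtain ⟨h0, L, -, hc⟩ := exists_minC_le h hBA hst (isCand_top h hAT hB)
  exact ⟨h0, L, hc⟩

end CfsgLib.LocalEven.PMinFF
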