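import Cfsg.Agent.Lib.LocalEven.PMinFF.Split

/-!
# Independence of commuting atoms; offenders centralise transvections

The centres of commuting atoms are independent, and an exact quadratic subgroup of `T` centralises every atom
of order `p` in `T`.
-/

set_option autoImplicit false
set_option linter.all false

namespace CfsgLib.LocalEven.PMinFF

open Subgroup CfsgLib.LocalEven.OffSL2

variable {P : Type*} [Group P] [Finite P] {p : ℕ} [Fact p.Prime]
variable {U : Type*} [AddCommGroup U] [Finite U]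
variable {act : P →* AddMonoid.End U} {T M : Subgroup P} {y : U}

/-- Nonzero commutators of distinct commuting atoms do not sum to zero. -/
theorem sum_ne_zero (hP : PMod p act T M y) {ι : Type*} (s : Finset ι) (hs : s.Nonempty) (D : ι → Subgroup P)
    (hinj : Set.InjOn D s) (hD : ∀ i ∈ s, Atom p act (D i)) (hT : ∀ i ∈ s, D i ≤ T)
    (hc : ∀ i ∈ s, ∀ j ∈ s, ∀ a ∈ D i, ∀ b ∈ D j, a * b = b * a) (c : ι → U)
    (hcD : ∀ i ∈ s, ∃ b ∈ D i, ∃ u, c i = act b u - u) (hne : ∀ i ∈ s, c i ≠ 0) : ∑ i ∈ s, c i ≠ 0 := by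
  classical
  obtain ⟨S, hS⟩ : ∃ S : Set (Subgroup P), S = D '' s := ⟨_, rfl⟩
  have hmem : ∀ X ∈ S, ∃ i ∈ s, D i = X := fun X hX => by rw [hS] at hX; exact hX
  have hSatom : ∀ X ∈ S, Atom p act X := fun X hX => by obtain ⟨i, hi, rfl⟩ := hmem X hX; exact hD i hi
  obtain ⟨hE, hq⟩ := exact_sSup hP hSatom fun X hX Y hY => by
    obtain ⟨i, hi, rfl⟩ := hmem X hX
    obtain ⟨j, hj, rfl⟩ := hmem Y hY
    exact hc i hi j hj
  obtain ⟨i0, hi0⟩ := hs
  obtain ⟨B, hB, E0, g, hsp⟩ := exists_split hP hSatom hE hq ⟨D i0, hS ▸ ⟨i0, hi0, rfl⟩⟩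
    (sSup_le fun X hX => by obtain ⟨i, hi, rfl⟩ := hmem X hX; exact hT i hi)
  obtain ⟨j, hj, rfl⟩ := hmem B hB
  intro h0
  obtain ⟨C0, hC0⟩ : ∃ C0, C0 = fix act (D j) ⊓ fix act (cj g (D j)) := ⟨_, rfl⟩
  have hrest : ∑ i ∈ s.erase j, c i ∈ C0 := by
    refine AddSubgroup.sum_mem _ fun i hi => ?_
    obtain ⟨hne', hi'⟩ := Finset.mem_erase.1 hi
    obtain ⟨b, hb, u, e⟩ := hcD i hi'
    rw [e, hC0]
    exact hsp.c0 b (hsp.atom_le hP hE (hD j hj) (hD i hi') (le_sSup (hS ▸ ⟨i, hi', rfl⟩))
      (fun e => hne' (hinj hi' hj e)) hb) u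
  rw [← Finset.add_sum_erase s c hj, add_eq_zero_iff_eq_neg] at h0
  obtain ⟨b, hb, u, e⟩ := hcD j hj
  have hb1 : b ≠ 1 := fun h => hne j hj (by rw [e, h, OffSL2.act_one, sub_self])
  refine hne j hj (e.trans (sub_eq_zero.2 (hsp.sep b hb hb1 u ?_)))
  rw [← e, ← hC0, h0]
  exact neg_mem hrest

/-- An atom of order `p` fixed by a `p`-subgroup is centralised by it. -/
theorem commute_of_normalizes {A D : Subgroup P} (hA : IsPGroup p A) (hD : Nat.card D = p)
    (hn : ∀ a ∈ A, ∀ d ∈ D, a * d * a⁻¹ ∈ D) : ∀ a ∈ A, ∀ d ∈ D, a * d = d * a := by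
  classical
  intro a ha
  haveI : IsCyclic D := isCyclic_of_prime_card hD
  obtain ⟨⟨d0, hd0⟩, hgen⟩ := IsCyclic.exists_generator (α := D)
  letI : MulAction A D :=
    { smul := fun x d => ⟨(x : P) * d * (x : P)⁻¹, hn x x.2 d d.2⟩
      one_smul := fun d => Subtype.ext (show (1 : P) * d * (1 : P)⁻¹ = d by group)
      mul_smul := fun x z d => Subtype.ext (show (x * z : P) * d * (x * z : P)⁻¹ = x * (z * d * (z : P)⁻¹) * (x : P)⁻¹ by group) }
  have h1 : (1 : D) ∈ MulAction.fixedPoints A D := fun x => Subtype.ext (show (x : P) * 1 * (x : P)⁻¹ = 1 by group)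
  obtain ⟨f, hf, hf1⟩ := hA.exists_fixed_point_of_prime_dvd_card_of_fixed_point D (by rw [hD]) h1
  intro d hd
  obtain ⟨k, hk⟩ := mem_zpowers_iff.1 (mem_zpowers_of_prime_card hD (g := f) (g' := ⟨d, hd⟩) (Ne.symm hf1))
  have h2 : Commute a (f : P) := by
    have : a * (f : P) * a⁻¹ = f := congrArg Subtype.val (hf ⟨a, ha⟩)
    exact mul_inv_eq_iff_eq_mul.1 this
  have h3 := h2.zpow_right k
  rw [show (f : P) ^ k = d from congrArg Subtype.val hk] at h3
  exact h3

/-- An exact quadratic subgroup of `T` centralises the atoms of order `p` in `T`. -/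
theorem commute_transvection (hP : PMod p act T M y) {X D : Subgroup P} (hX : Exact p act X) (hXq : Quad act X)
    (hXT : X ≤ T) (hD : Atom p act D) (hDT : D ≤ T) (hDp : Nat.card D = p) :
    ∀ a ∈ X, ∀ d ∈ D, a * d = d * a := by
  classical
  refine commute_of_normalizes hX.el.isPGroup hDp fun a ha => ?_
  by_contra hmoved
  have hne : cj a D ≠ D := fun e => hmoved fun d hd => e ▸ conj_mem_cj hd
  have hcjT : ∀ z ∈ X, cj z D ≤ T := fun z hz => cj_le_of_mem (hXT hz) hDT
  have hcomm : ∀ z ∈ X, ∀ w ∈ X, ∀ s ∈ cj z D, ∀ t ∈ cj w D, s * t = t * s := fun z hz w hw =>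
    atoms_commute hP (hD.cj z) (hD.cj w) (by rw [card_cj, card_cj]) (hcjT z hz) (hcjT w hw)
  obtain ⟨b, hb, hb1⟩ := (Subgroup.bot_or_exists_ne_one D).resolve_left hD.ne
  obtain ⟨u0, hu0⟩ : ∃ u, act b u ≠ u := by
    by_contra hall
    push Not at hall
    exact hb1 (hP.inj (by rw [map_one]; exact AddMonoidHom.ext hall))
  obtain ⟨c, hc⟩ : ∃ c, c = act b u0 - u0 := ⟨_, rfl⟩
  have hc0 : c ≠ 0 := hc ▸ sub_ne_zero.2 hu0
  have hcz : ∀ z : P, ∀ k : ℤ, ∃ t ∈ cj z D, ∃ u, k • act z c = act t u - u := fun z k => by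
    refine ⟨z * b * z⁻¹, conj_mem_cj hb, k • act z u0, ?_⟩
    rw [map_zsmul, ← OffSL2.act_mul, show z * b * z⁻¹ * z = z * b by group, OffSL2.act_mul, ← smul_sub, ← map_sub, hc]
  have hczne : ∀ z : P, act z c ≠ 0 := fun z h => hc0 (OffSL2.act_injective act z (h.trans (map_zero _).symm))
  -- quadratic relation
  have hrel : ∀ z ∈ X, ∀ w ∈ X, act (w * z) c - act w c - act z c + c = 0 := fun z hz w hw => by
    have := hXq z hz c w hw
    rw [map_sub, ← OffSL2.act_mul] at this
    rw [this]; abel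
  by_cases hp2 : p = 2
  swap
  · have h2 : cj (a * a) D ≠ D := fun e => hne <| by
      have hpa : a ^ p = 1 := hX.el.exp a ha
      obtain ⟨m, hm⟩ := (Fact.out : p.Prime).odd_of_ne_two hp2
      have hN : a * a ∈ normalizer (D : Set P) := mem_normalizer_of_conj fun d hd => e ▸ conj_mem_cj hd
      refine cj_eq_self ?_
      have : a = (a * a) ^ (m + 1) := by
        rw [← pow_two, ← pow_mul, show 2 * (m + 1) = p + 1 by omega, pow_succ, hpa, one_mul]
      rw [this]; exact pow_mem hN _
    have h3 : cj (a * a) D ≠ cj a D := fun e => hne <| by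
      have := congrArg (cj a⁻¹) e
      rwa [cj_cj, cj_cj, inv_mul_cancel_left, inv_mul_cancel, cj_one] at this
    let zf : Fin 3 → P := ![1, a, a * a]
    let kf : Fin 3 → ℤ := ![1, -2, 1]
    have hz : ∀ i, zf i ∈ X := by
      intro i; fin_cases i
      exacts [X.one_mem, ha, X.mul_mem ha ha]
    have hinj : Function.Injective fun i => cj (zf i) D := by
      intro i j hij
      fin_cases i <;> fin_cases j <;> simp [zf, cj_one] at hij ⊢
      all_goals first
        | exact h2 hij | exact h2 hij.symm | exact h3 hij | exact h3 hij.symm | exact hne hij | exact hne hij.symm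
    refine sum_ne_zero hP Finset.univ Finset.univ_nonempty (fun i => cj (zf i) D) hinj.injOn (fun i _ => hD.cj _)
      (fun i _ => hcjT _ (hz i)) (fun i _ j _ => hcomm _ (hz i) _ (hz j)) (fun i => kf i • act (zf i) c)
      (fun i _ => hcz _ _) (fun i _ => ?_) ?_
    · have h2c : ∀ v : U, v ≠ 0 → (2 : ℤ) • v ≠ 0 := fun v hv h => hv <| by
        obtain ⟨m, hm⟩ := (Fact.out : p.Prime).odd_of_ne_two hp2
        have h4 := hP.hpU v
        rw [hm, succ_nsmul, mul_nsmul, show (2 : ℕ) • v = 0 by exact_mod_cast h, smul_zero, zero_add] at h4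
        exact h4
      fin_cases i
      · simpa [kf, zf] using hczne 1
      · simpa [kf, zf] using h2c _ (hczne a)
      · simpa [kf, zf] using hczne (a * a)
    · rw [Fin.sum_univ_three]
      simp only [zf, kf, Matrix.cons_val_zero, Matrix.cons_val_one, Matrix.cons_val]
      rw [OffSL2.act_one, one_smul, one_smul, ← hrel a ha a ha, neg_smul, two_zsmul]
      abel
  subst hp2
  have hsq : ∀ z ∈ X, z * z = 1 := fun z hz => by rw [← pow_two]; exact hX.el.exp z hz
  have horb : ∀ z ∈ X, cj z D = D ∨ cj z D = cj a D := by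
    intro z hz
    by_contra hcon
    push Not at hcon
    obtain ⟨hz1, hz2⟩ := hcon
    have hza : z * a = a * z := hX.el.comm z hz a ha
    have e1 : cj (a * z) D ≠ D := fun e => hz2 <| by
      have := congrArg (cj a) e
      rwa [cj_cj, ← mul_assoc, hsq a ha, one_mul] at this
    have e2 : cj (a * z) D ≠ cj a D := fun e => hz1 <| by
      have := congrArg (cj a) e
      rwa [cj_cj, cj_cj, ← mul_assoc, hsq a ha, one_mul, cj_one] at this
    have e3 : cj (a * z) D ≠ cj z D := fun e => hne <| by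
      have := congrArg (cj z) e
      rwa [cj_cj, cj_cj, show z * (a * z) = a by rw [← mul_assoc, hza, mul_assoc, hsq z hz, mul_one],
        hsq z hz, cj_one] at this
    let zf : Fin 4 → P := ![1, a, z, a * z]
    have hzf : ∀ i, zf i ∈ X := by
      intro i; fin_cases i
      exacts [X.one_mem, ha, hz, X.mul_mem ha hz]
    have hinj : Function.Injective fun i => cj (zf i) D := by
      intro i j hij
      fin_cases i <;> fin_cases j <;> simp [zf, cj_one] at hij ⊢
      all_goals first
        | exact hne hij | exact hne hij.symm | exact hz1 hij | exact hz1 hij.symm | exact hz2 hij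
        | exact hz2 hij.symm | exact e1 hij | exact e1 hij.symm | exact e2 hij | exact e2 hij.symm
        | exact e3 hij | exact e3 hij.symm
    refine sum_ne_zero hP Finset.univ Finset.univ_nonempty (fun i => cj (zf i) D) hinj.injOn (fun i _ => hD.cj _)
      (fun i _ => hcjT _ (hzf i)) (fun i _ j _ => hcomm _ (hzf i) _ (hzf j)) (fun i => act (zf i) c)
      (fun i _ => by simpa using hcz (zf i) 1) (fun i _ => hczne _) ?_
    have hneg : ∀ v : U, -v = v := fun v => by
      rw [neg_eq_iff_add_eq_zero, ← two_nsmul]; exact hP.hpU v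
    rw [Fin.sum_univ_four]
    simp only [zf, Matrix.cons_val_zero, Matrix.cons_val_one, Matrix.cons_val]
    rw [OffSL2.act_one, ← hrel z hz a ha, sub_eq_add_neg, sub_eq_add_neg, hneg, hneg]
    abel
  -- the pair
  obtain ⟨E, hEdef⟩ : ∃ E, E = sSup {D, cj a D} := ⟨_, rfl⟩
  have hpair : ∀ Z ∈ ({D, cj a D} : Set (Subgroup P)), ∃ z ∈ X, Z = cj z D := by
    rintro Z (rfl | rfl)
    exacts [⟨1, X.one_mem, (cj_one _).symm⟩, ⟨a, ha, rfl⟩]
  obtain ⟨hE, hEq⟩ := exact_sSup hP (S := {D, cj a D})
    (fun Z hZ => by obtain ⟨z, -, rfl⟩ := hpair Z hZ; exact hD.cj z)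
    (fun Z hZ Z' hZ' => by
      obtain ⟨z, hz, rfl⟩ := hpair Z hZ
      obtain ⟨w, hw, rfl⟩ := hpair Z' hZ'
      exact hcomm z hz w hw)
  rw [← hEdef] at hE hEq
  have hEsup : E = D ⊔ cj a D := by rw [hEdef, sSup_pair]
  obtain ⟨b2, hb2⟩ : ∃ b2, b2 = a * b * a⁻¹ := ⟨_, rfl⟩
  have hb2D : b2 ∈ cj a D := hb2 ▸ conj_mem_cj hb
  have hb21 : b2 ≠ 1 := hb2 ▸ fun e => hb1 (conj_eq_one_iff.1 e)
  have hainv : a⁻¹ = a := inv_eq_of_mul_eq_one_right (hsq a ha)
  have hDel : ∀ d ∈ D, d = 1 ∨ d = b := fun d hd => by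
    by_contra hcon
    push Not at hcon
    have h3 : ({1, b, d} : Set P).ncard ≤ Nat.card D := by
      rw [← Nat.card_coe_set_eq]
      exact Nat.card_le_card_of_injective (fun x => (⟨x.1, by
        rcases x.2 with h | h | h <;> rw [h]
        exacts [D.one_mem, hb, hd]⟩ : D)) (fun x z h => Subtype.ext (congrArg Subtype.val h :))
    rw [hDp, Set.ncard_insert_of_notMem (by simp [hb1.symm, hcon.1.symm]), Set.ncard_pair hcon.2.symm] at h3
    omega
  have hD2el : ∀ d ∈ cj a D, d = 1 ∨ d = b2 := by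
    rintro _ ⟨d, hd, rfl⟩
    rcases hDel d hd with rfl | rfl
    · exact Or.inl (map_one _)
    · exact Or.inr hb2.symm
  have hbb2 : b * b2 = b2 * b := by
    have := hcomm 1 X.one_mem a ha b (by rw [cj_one]; exact hb) b2 hb2D
    exact this
  have hEmem : ∀ e ∈ E, e = 1 ∨ e = b ∨ e = b2 ∨ e = b * b2 := by
    intro e he
    have hn : D ≤ normalizer ((cj a D : Subgroup P) : Set P) := le_normalizer_iff.2 fun x hx z hz => by
      rw [show x * z = z * x from hcomm 1 X.one_mem a ha x (by rw [cj_one]; exact hx) z hz, mul_inv_cancel_right]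
      exact hz
    rw [hEsup, ← SetLike.mem_coe, coe_mul_of_left_le_normalizer_right D (cj a D) hn] at he
    obtain ⟨x, hx, z, hz, rfl⟩ := he
    rcases hDel x hx with rfl | rfl <;> rcases hD2el z hz with rfl | rfl <;> simp
  have hbX : b ∉ X := fun h => hne (cj_eq_self (mem_normalizer_of_conj fun d hd => by
    rcases hDel d hd with rfl | rfl
    · simpa using D.one_mem
    · rw [hX.el.comm a ha d h, mul_inv_cancel_right]; exact hb))
  have hb2X : b2 ∉ X := fun h => hbX <| by
    have := X.mul_mem (X.mul_mem (X.inv_mem ha) h) ha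
    rwa [hb2, show a⁻¹ * (a * b * a⁻¹) * a = b by group] at this
  -- the fixed points
  obtain ⟨F2, hF2⟩ : ∃ F2, F2 = fix act E := ⟨_, rfl⟩
  have hfixE : F2 = fix act D ⊓ fix act (cj a D) := by rw [hF2, hEsup, fix_sup]
  have hcval : ∀ u, act b u - u = 0 ∨ act b u - u = c := by
    intro u
    by_contra hcon
    push Not at hcon
    have hidx : (fix act D).index = 2 := by
      have h4 := AddSubgroup.index_mul_card (fix act D)
      rw [← hD.eq, meas, hDp] at h4
      exact Nat.eq_of_mul_eq_mul_right Nat.card_pos h4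
    have h1 : u ∉ fix act D := fun h => hcon.1 (sub_eq_zero.2 (h b hb))
    have h2 : u0 ∉ fix act D := fun h => hu0 (h b hb)
    have h3 := ((AddSubgroup.add_mem_iff_of_index_two hidx).2 (iff_of_false h1 h2)) b hb
    rw [map_add] at h3
    have h5 : (act b u - u) + c = 0 := by rw [hc, ← sub_eq_zero.2 h3]; abel
    refine hcon.2 ?_
    rw [add_eq_zero_iff_eq_neg] at h5
    rw [h5, neg_eq_iff_add_eq_zero, ← two_nsmul]
    exact hP.hpU c
  have hboth : ∀ v ∈ fix act X, v ∈ fix act D → v ∈ F2 := fun v hvX hvD => by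
    rw [hfixE]
    exact ⟨hvD, (mem_fix_conj act).2 (by rw [hvX _ (X.inv_mem ha)]; exact hvD)⟩
  have hbfix : ∀ v, act b v = v → v ∈ fix act D := fun v hv => atom_fix_elem hP hD hb hb1 hv
  obtain ⟨C, hC⟩ : ∃ C, C = fix act X ⊓ F2 := ⟨_, rfl⟩
  obtain ⟨i, hi2, hiE⟩ : ∃ i, i * Nat.card (fix act X) ≤ 2 * Nat.card C ∧ Nat.card ↥(X ⊓ E) ≤ i := by
    by_cases hs : b * b2 ∈ X
    · refine ⟨2, ?_, ?_⟩
      · have : fix act X ≤ C := by
          intro v hv
          rw [hC]
          refine ⟨hv, ?_⟩
          have h1 : act b (act b2 v) = v := by rw [← OffSL2.act_mul]; exact hv _ hs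
          by_contra hF
          have hvD : act b v ≠ v := fun e => hF (hboth v hv (hbfix v e))
          have hbv : act b2 v ≠ v := fun e => hvD (by rwa [e] at h1)
          refine sum_ne_zero hP (ι := Fin 2) Finset.univ Finset.univ_nonempty ![D, cj a D] ?_ ?_ ?_ ?_
            ![act b (act b2 v) - act b2 v, act b2 v - v] ?_ ?_ ?_
          · intro i _ j _ hij
            fin_cases i <;> fin_cases j <;> simp at hij ⊢
            exacts [hne hij.symm, hne hij]
          · intro i _; fin_cases i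
            exacts [hD, hD.cj a]
          · intro i _; fin_cases i
            exacts [hDT, hcjT a ha]
          · intro i _ j _
            fin_cases i <;> fin_cases j
            · exact hD.el.comm
            · simpa [cj_one] using hcomm 1 X.one_mem a ha
            · simpa [cj_one] using hcomm a ha 1 X.one_mem
            · exact (hD.cj a).el.comm
          · intro i _; fin_cases i
            exacts [⟨b, hb, _, rfl⟩, ⟨b2, hb2D, _, rfl⟩]
          · intro i _; fin_cases i
            · show act b (act b2 v) - act b2 v ≠ 0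
              rw [h1, sub_ne_zero]; exact hbv.symm
            · exact sub_ne_zero.2 hbv
          · rw [Fin.sum_univ_two]
            show act b (act b2 v) - act b2 v + (act b2 v - v) = 0
            rw [h1]; abel
        exact Nat.mul_le_mul_left _ (Nat.card_le_card_of_injective _ (AddSubgroup.inclusion_injective this))
      · have : ((X ⊓ E : Subgroup P) : Set P) ⊆ {1, b * b2} := fun e he => by
          rcases hEmem e he.2 with h | h | h | h
          exacts [Or.inl h, absurd (h ▸ he.1) hbX, absurd (h ▸ he.1) hb2X, Or.inr h]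
        calc Nat.card ↥(X ⊓ E) = ((X ⊓ E : Subgroup P) : Set P).ncard := (Nat.card_coe_set_eq _)
          _ ≤ ({1, b * b2} : Set P).ncard := Set.ncard_le_ncard this
          _ ≤ 2 := (Set.ncard_insert_le _ _).trans (by simp)
    · refine ⟨1, ?_, ?_⟩
      · rw [one_mul]
        by_cases hall : ∀ v ∈ fix act X, v ∈ fix act D
        · have : fix act X ≤ C := fun v hv => hC ▸ ⟨hv, hboth v hv (hall v hv)⟩
          have := Nat.card_le_card_of_injective _ (AddSubgroup.inclusion_injective this)
          omega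
        push Not at hall
        obtain ⟨v0, hv0, hv0D⟩ := hall
        have hcover : ∀ v ∈ fix act X, v ∈ C ∨ v - v0 ∈ C := fun v hv => by
          rcases hcval v with h | h
          · exact Or.inl (hC ▸ ⟨hv, hboth v hv (hbfix v (sub_eq_zero.1 h))⟩)
          · refine Or.inr (?_ : v - v0 ∈ C)
            rw [hC]
            refine ⟨(fix act X).sub_mem hv hv0, hboth _ ((fix act X).sub_mem hv hv0) (hbfix _ ?_)⟩
            have h' := (hcval v0).resolve_left fun e => hv0D (hbfix v0 (sub_eq_zero.1 e))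
            rw [map_sub]
            rw [← h'] at h
            exact sub_eq_sub_iff_sub_eq_sub.1 h
        let g : fix act X → Bool × C := fun v =>
          if h : (v : U) ∈ C then (true, ⟨v, h⟩) else (false, ⟨(v : U) - v0, (hcover v v.2).resolve_left h⟩)
        have hg : Function.Injective g := by
          intro v w hvw
          simp only [g] at hvw
          split_ifs at hvw <;> simp only [Prod.mk.injEq, Subtype.mk.injEq, reduceCtorEq, false_and, true_and, sub_left_inj] at hvw
          · exact Subtype.ext hvw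
          · exact Subtype.ext hvw
        have h5 := Nat.card_le_card_of_injective g hg
        rw [Nat.card_prod, show Nat.card Bool = 2 by simp] at h5
        exact h5
      · have : ((X ⊓ E : Subgroup P) : Set P) ⊆ {1} := fun e he => by
          rcases hEmem e he.2 with h | h | h | h
          exacts [h, absurd (h ▸ he.1) hbX, absurd (h ▸ he.1) hb2X, absurd (h ▸ he.1) hs]
        calc Nat.card ↥(X ⊓ E) = ((X ⊓ E : Subgroup P) : Set P).ncard := (Nat.card_coe_set_eq _)
          _ ≤ ({1} : Set P).ncard := Set.ncard_le_ncard this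
          _ = 1 := Set.ncard_singleton 1
  -- the stabiliser of the pair
  obtain ⟨X1, hX1⟩ : ∃ X1, X1 = X ⊓ normalizer (D : Set P) := ⟨_, rfl⟩
  have hX1X : X1 ≤ X := hX1 ▸ inf_le_left
  have hX1D : ∀ x ∈ X1, ∀ d ∈ D, x * d = d * x := by
    refine commute_of_normalizes (hX.el.mono hX1X).isPGroup hDp fun x hx d hd => ?_
    rw [hX1] at hx
    exact (mem_normalizer_iff.1 hx.2 d).1 hd
  have hX1E : ∀ x ∈ X1, ∀ e ∈ E, x * e = e * x := by
    intro x hx
    have h1 : ∀ d ∈ cj a D, x * d = d * x := by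
      rintro _ ⟨d, hd, rfl⟩
      show x * (a * d * a⁻¹) = a * d * a⁻¹ * x
      have hxa : Commute x a := hX.el.comm x (hX1X hx) a ha
      exact (Commute.mul_right (hxa.mul_right (hX1D x hx d hd)) hxa.inv_right)
    have : E ≤ Subgroup.centralizer {x} := hEsup ▸ sup_le
      (fun d hd => mem_centralizer_singleton_iff.2 (hX1D x hx d hd).symm)
      (fun d hd => mem_centralizer_singleton_iff.2 (h1 d hd).symm)
    exact fun e he => (mem_centralizer_singleton_iff.1 (this he)).symm
  have hXle : Nat.card X ≤ 2 * Nat.card X1 := by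
    classical
    let g : X → Bool × X1 := fun x =>
      if h : (x : P) ∈ normalizer (D : Set P) then (true, ⟨x, hX1 ▸ ⟨x.2, h⟩⟩)
      else (false, ⟨a * x, hX1 ▸ ⟨X.mul_mem ha x.2, mem_normalizer_of_conj fun d hd => by
        have hx : cj (x : P) D = cj a D := (horb x x.2).resolve_left fun e => h (mem_normalizer_of_conj fun d hd => e ▸ conj_mem_cj hd)
        have := hx ▸ conj_mem_cj (x := (x : P)) hd
        have h2 := conj_mem_cj (x := a) this
        rw [cj_cj, hsq a ha, cj_one] at h2
        simpa [mul_assoc] using h2⟩⟩)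
    have hg : Function.Injective g := by
      intro v w hvw
      simp only [g] at hvw
      split_ifs at hvw <;> simp only [Prod.mk.injEq, Subtype.mk.injEq, reduceCtorEq, false_and, true_and, mul_right_inj] at hvw
      · exact Subtype.ext hvw
      · exact Subtype.ext hvw
    have h5 := Nat.card_le_card_of_injective g hg
    rwa [Nat.card_prod, show Nat.card Bool = 2 by simp] at h5
  -- `c` is a new fixed vector
  have hcF : c ∈ F2 := by
    rw [hfixE]
    refine ⟨hc ▸ hD.quad hP b hb u0, fun d hd => ?_⟩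
    rcases hD2el d hd with h1 | h1 <;> rw [h1]
    · exact OffSL2.act_one act c
    rcases hcval (act b2 u0) with h | h
    · exfalso
      refine hc0 ?_
      rw [← OffSL2.act_mul, hbb2, OffSL2.act_mul, ← map_sub, ← hc] at h
      exact OffSL2.act_injective act b2 (h.trans (map_zero _).symm)
    · rwa [← OffSL2.act_mul, hbb2, OffSL2.act_mul, ← map_sub, ← hc] at h
  have hcX1 : c ∈ fix act X1 := fun x hx => by
    have e : act x c = act b (act x u0) - act x u0 := by
      rw [hc, map_sub, ← OffSL2.act_mul, hX1E x hx b (hEsup ▸ mem_sup_left hb), OffSL2.act_mul]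
    rcases hcval (act x u0) with h | h
    · exact absurd (e.trans h) (hczne x)
    · exact e.trans h
  have hcX : c ∉ fix act X := fun h => by
    refine sum_ne_zero hP (ι := Fin 2) Finset.univ Finset.univ_nonempty ![D, cj a D] ?_ ?_ ?_ ?_ ![c, act a c] ?_ ?_ ?_
    · intro i _ j _ hij
      fin_cases i <;> fin_cases j <;> simp at hij ⊢
      exacts [hne hij.symm, hne hij]
    · intro i _; fin_cases i
      exacts [hD, hD.cj a]
    · intro i _; fin_cases i
      exacts [hDT, hcjT a ha]
    · intro i _ j _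
      fin_cases i <;> fin_cases j
      · exact hD.el.comm
      · simpa [cj_one] using hcomm 1 X.one_mem a ha
      · simpa [cj_one] using hcomm a ha 1 X.one_mem
      · exact (hD.cj a).el.comm
    · intro i _; fin_cases i
      · exact ⟨b, hb, u0, hc⟩
      · simpa using hcz a 1
    · intro i _; fin_cases i
      exacts [hc0, hczne a]
    · rw [Fin.sum_univ_two]
      show c + act a c = 0
      rw [h a ha, ← two_nsmul]; exact hP.hpU c
  obtain ⟨Y, hY⟩ : ∃ Y, Y = X1 ⊔ E := ⟨_, rfl⟩
  have hYel : El 2 Y := hY ▸ (hX.el.mono hX1X).sup hE.el hX1E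
  have hCY : C < fix act Y := by
    have hfY : fix act Y = fix act X1 ⊓ F2 := by rw [hY, fix_sup, hF2]
    rw [hfY, hC]
    refine lt_of_le_of_ne (inf_le_inf_right _ (fix_anti act hX1X)) fun e => hcX ?_
    exact (e.ge ⟨hcX1, hcF⟩).1
  have hC2 : 2 * Nat.card C ≤ Nat.card (fix act Y) := by
    have h1 := AddSubgroup.card_mul_index (C.addSubgroupOf (fix act Y))
    rw [Nat.card_congr (AddSubgroup.addSubgroupOfEquivOfLe hCY.le).toEquiv] at h1
    rw [← h1, mul_comm 2]
    refine Nat.mul_le_mul_left _ (Nat.succ_le_of_lt (Nat.one_lt_iff_ne_zero_and_ne_one.2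
      ⟨AddSubgroup.index_ne_zero_of_finite, fun e => hCY.not_ge ?_⟩))
    exact AddSubgroup.addSubgroupOf_eq_top.1 (AddSubgroup.index_eq_one.1 e)
  have p1 := CfsgLib.PLocal.card_sup_mul_card_inf X1 E (le_normalizer_iff.2 fun x hx e he => by
    rw [hX1E x hx e he, mul_inv_cancel_right]; exact he)
  rw [← hY] at p1
  have hE4 : 4 ≤ Nat.card E := by
    have h1 := hE.el
    have hdisj : D ⊓ cj a D = ⊥ := hD.inf_eq_bot hP (hD.cj a)
      (fun x hx z hz => hcomm 1 X.one_mem a ha x (by rw [cj_one]; exact hx) z hz) (Ne.symm hne)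
    have p2 := CfsgLib.PLocal.card_sup_mul_card_inf D (cj a D) (le_normalizer_iff.2 fun x hx z hz => by
      rw [show x * z = z * x from hcomm 1 X.one_mem a ha x (by rw [cj_one]; exact hx) z hz, mul_inv_cancel_right]
      exact hz)
    rw [hdisj, Subgroup.card_bot, mul_one, card_cj, hDp, ← hEsup] at p2
    omega
  have hXE : Nat.card ↥(X1 ⊓ E) ≤ i := le_trans (card_le_of_le (inf_le_inf_right _ hX1X)) hiE
  have hmY := meas_le_card hP hYel
  have hmX := hX.eq
  rw [meas] at hmY hmX
  have hpos : 0 < Nat.card U := Nat.card_pos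
  have k1 : 2 * Nat.card X ≤ i * Nat.card Y := by
    calc 2 * Nat.card X ≤ 2 * (2 * Nat.card X1) := Nat.mul_le_mul_left _ hXle
      _ ≤ Nat.card X1 * Nat.card E := by nlinarith
      _ = Nat.card Y * Nat.card ↥(X1 ⊓ E) := p1
      _ ≤ _ := by rw [mul_comm i]; exact Nat.mul_le_mul_left _ hXE
  have k2 : i * Nat.card (fix act X) ≤ Nat.card (fix act Y) := hi2.trans hC2
  have hipos : 0 < i := lt_of_lt_of_le Nat.card_pos hiE
  have : 2 * Nat.card U * i ≤ Nat.card U * i := by
    calc 2 * Nat.card U * i = (2 * Nat.card X) * (i * Nat.card (fix act X)) := by rw [← hmX]; ring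
      _ ≤ (i * Nat.card Y) * Nat.card (fix act Y) := Nat.mul_le_mul k1 k2
      _ = Nat.card Y * Nat.card (fix act Y) * i := by ring
      _ ≤ _ := Nat.mul_le_mul_right _ hmY
  nlinarith

end CfsgLib.LocalEven.PMinFF
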