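import Cfsg.Agent.Lib.LocalEven.PMinFF.Big

/-!
# Two atoms generating a natural module

A `p`-group centralising one atom and normalising the other acts trivially on the section, so it centralises both.
An exact group containing the first atom, whose translates of the second are translates by the first, peels.
-/

set_option autoImplicit false
set_option linter.all false

namespace CfsgLib.LocalEven.PMinFF

open Subgroup CfsgLib.LocalEven.OffSL2

variable {P : Type*} [Group P] [Finite P] {p : ℕ} [Fact p.Prime]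
variable {U : Type*} [AddCommGroup U] [Finite U]
variable {act : P →* AddMonoid.End U} {T M : Subgroup P} {y : U}

/-- Two atoms of the same order in general position. -/
structure Duo (p : ℕ) (act : P →* AddMonoid.End U) (B B1 : Subgroup P) : Prop where
  atom : Atom p act B
  atom' : Atom p act B1
  card : Nat.card B1 = Nat.card B
  free : ∀ b ∈ B, ∀ u, act b u - u ∈ fix act B1 → act b u = u
  free' : ∀ b ∈ B1, ∀ u, act b u - u ∈ fix act B → act b u = u
  top : fix act B ⊔ fix act B1 = ⊤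

variable {B B1 : Subgroup P}

theorem Duo.symm (h : Duo p act B B1) : Duo p act B1 B :=
  ⟨h.atom', h.atom, h.card.symm, h.free', h.free, by rw [sup_comm]; exact h.top⟩

theorem Duo.card_fix (h : Duo p act B B1) :
    Nat.card (fix act B1) = Nat.card (fix act B) ∧
      Nat.card (fix act B) = Nat.card B * Nat.card ↥(fix act B ⊓ fix act B1) := by
  have h1 := h.atom.eq
  have h2 := h.atom'.eq
  rw [meas] at h1 h2
  rw [h.card, ← h1] at h2
  have e := Nat.eq_of_mul_eq_mul_left Nat.card_pos h2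
  refine ⟨e, ?_⟩
  have h3 := card_sup_mul_inf (fix act B) (fix act B1)
  rw [h.top, AddSubgroup.card_top, ← h1, e] at h3
  exact (Nat.eq_of_mul_eq_mul_right (Nat.card_pos (α := fix act B)) (by rw [← h3]; ring))

theorem Duo.card_quot (h : Duo p act B B1) : Nat.card (U ⧸ fix act B1) = Nat.card B := by
  have h2 := h.atom'.eq
  rw [meas, h.card, AddSubgroup.card_eq_card_quotient_mul_card_addSubgroup (fix act B1)] at h2
  exact (Nat.eq_of_mul_eq_mul_right Nat.card_pos h2).symm

theorem Duo.exists_out (h : Duo p act B B1) : ∃ v ∈ fix act B1, v ∉ fix act B := by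
  by_contra hall
  push Not at hall
  have h1 := h.atom.eq
  have h2 := h.top
  rw [sup_eq_left.2 hall] at h2
  rw [meas, h2, AddSubgroup.card_top] at h1
  exact h.atom.ne (Subgroup.eq_bot_of_card_eq B (Nat.eq_of_mul_eq_mul_right Nat.card_pos (h1.trans (one_mul _).symm)))

variable (hP : PMod p act T M y)
include hP

theorem Duo.inj (h : Duo p act B B1) {v : U} (hv : v ∈ fix act B1) (hv' : v ∉ fix act B) {b b' : P}
    (hb : b ∈ B) (hb' : b' ∈ B) (he : act b v - act b' v ∈ fix act B1) : b = b' := by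
  obtain ⟨d, hd⟩ : ∃ d, d = b'⁻¹ * b := ⟨_, rfl⟩
  have hdB : d ∈ B := hd ▸ B.mul_mem (B.inv_mem hb') hb
  have hz : act d v - v ∈ fix act B := h.atom.quad hP d hdB v
  have e : act b v - act b' v = act d v - v := by
    rw [← hz b' hb', map_sub, ← OffSL2.act_mul, hd, mul_inv_cancel_left]
  rw [e] at he
  have hfix := h.free d hdB v he
  by_contra hne
  exact hv' (atom_fix_elem hP h.atom hdB (fun e' => hne (inv_mul_eq_one.1 (hd ▸ e')).symm) hfix)

theorem Duo.surj (h : Duo p act B B1) {v : U} (hv : v ∈ fix act B1) (hv' : v ∉ fix act B) (u : U) :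
    ∃ b ∈ B, act b v - v - u ∈ fix act B1 := by
  let f : B → U ⧸ fix act B1 := fun b => QuotientAddGroup.mk (act (b : P) v - v)
  have hinj : Function.Injective f := fun b b' e => Subtype.ext (h.inj hP hv hv' b.2 b'.2 (by
    have := (QuotientAddGroup.eq_iff_sub_mem.1 e)
    rwa [sub_sub_sub_cancel_right] at this))
  obtain ⟨b, hb⟩ := ((Nat.bijective_iff_injective_and_card f).2 ⟨hinj, h.card_quot.symm⟩).2 (QuotientAddGroup.mk u)
  exact ⟨b, b.2, QuotientAddGroup.eq_iff_sub_mem.1 hb⟩

/-- The key lemma: `K` is trivial on the section, so it centralises `B1` and fixes a complement of `fix B`. -/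
theorem Duo.central (h : Duo p act B B1) {K : Subgroup P} (hK : IsPGroup p K)
    (hc : ∀ k ∈ K, ∀ b ∈ B, k * b = b * k) (hn : ∀ k ∈ K, cj k B1 = B1) :
    (∀ k ∈ K, ∀ b ∈ B1, k * b = b * k) ∧ fix act K ⊔ fix act B = ⊤ := by
  have hsB : ∀ k ∈ K, ∀ u ∈ fix act B, act k u ∈ fix act B := fun k hk u hu b hb => by
    rw [← OffSL2.act_mul, ← hc k hk b hb, OffSL2.act_mul, hu b hb]
  have hsB1 : ∀ k ∈ K, ∀ u ∈ fix act B1, act k u ∈ fix act B1 := fun k hk u hu => by
    have := act_fix_cj (k := k) hu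
    rwa [hn k hk] at this
  -- a vector fixed modulo the intersection
  obtain ⟨v, hv, hv', hkv⟩ : ∃ v ∈ fix act B1, v ∉ fix act B ∧ ∀ k ∈ K, act k v - v ∈ fix act B := by
    letI : MulAction K (U ⧸ fix act B) :=
      { smul := fun k x => QuotientAddGroup.map (fix act B) (fix act B) (act (k : P)) (fun u hu => hsB k k.2 u hu) x
        one_smul := fun x => by
          induction x using QuotientAddGroup.induction_on with
          | _ u => exact congrArg QuotientAddGroup.mk (OffSL2.act_one act u)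
        mul_smul := fun k k' x => by
          induction x using QuotientAddGroup.induction_on with
          | _ u => exact congrArg QuotientAddGroup.mk (OffSL2.act_mul act (k : P) k' u) }
    have h0 : (0 : U ⧸ fix act B) ∈ MulAction.fixedPoints K (U ⧸ fix act B) := fun k =>
      map_zero (QuotientAddGroup.map (fix act B) (fix act B) (act (k : P)) (fun u hu => hsB k k.2 u hu))
    obtain ⟨x, hx⟩ := h.exists_out
    have hpx : p • (QuotientAddGroup.mk x : U ⧸ fix act B) = 0 := by
      rw [← QuotientAddGroup.mk_nsmul, hP.hpU]; rfl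
    have hdvd : p ∣ Nat.card (U ⧸ fix act B) :=
      (addOrderOf_eq_prime hpx (fun e => hx.2 ((QuotientAddGroup.eq_zero_iff x).1 e))) ▸
        addOrderOf_dvd_natCard (QuotientAddGroup.mk x : U ⧸ fix act B)
    obtain ⟨f, hf, hf0⟩ := hK.exists_fixed_point_of_prime_dvd_card_of_fixed_point (U ⧸ fix act B) hdvd h0
    obtain ⟨w, rfl⟩ := QuotientAddGroup.mk_surjective f
    obtain ⟨a, ha, v, hv, rfl⟩ := AddSubgroup.mem_sup.1 (h.top ▸ AddSubgroup.mem_top w)
    refine ⟨v, hv, fun hv' => hf0.symm ((QuotientAddGroup.eq_zero_iff _).2 (add_mem ha hv')), fun k hk => ?_⟩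
    have h1 : act k (a + v) - (a + v) ∈ fix act B := QuotientAddGroup.eq_iff_sub_mem.1 (hf ⟨k, hk⟩)
    have h2 : act k v - v = (act k (a + v) - (a + v)) - (act k a - a) := by rw [map_add]; abel
    rw [h2]
    exact sub_mem h1 (sub_mem (hsB k hk a ha) ha)
  have hkey : ∀ k ∈ K, ∀ b ∈ B, act k (act b v - v) = act b v - v := fun k hk b hb => by
    have h1 := hkv k hk b hb
    rw [map_sub, ← OffSL2.act_mul act b k, ← hc k hk b hb, OffSL2.act_mul] at h1
    rw [map_sub]
    exact sub_eq_sub_iff_sub_eq_sub.1 h1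
  have hB : ∀ k ∈ K, ∀ a ∈ fix act B, act k a - a ∈ fix act B ⊓ fix act B1 := fun k hk a ha => by
    obtain ⟨b, hb, hz⟩ := h.surj hP hv hv' a
    obtain ⟨z, hzdef⟩ : ∃ z, z = act b v - v - a := ⟨_, rfl⟩
    rw [← hzdef] at hz
    have e : act k a - a = -(act k z - z) := by
      rw [show a = (act b v - v) - z by rw [hzdef]; abel, map_sub, hkey k hk b hb]; abel
    rw [e]
    refine neg_mem (AddSubgroup.mem_inf.2 ⟨?_, sub_mem (hsB1 k hk z hz) hz⟩)
    have hzB : z ∈ fix act B := hzdef ▸ sub_mem (h.atom.quad hP b hb v) ha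
    exact sub_mem (hsB k hk z hzB) hzB
  have hB1 : ∀ k ∈ K, ∀ w ∈ fix act B1, act k w - w ∈ fix act B ⊓ fix act B1 := fun k hk w hw => by
    refine AddSubgroup.mem_inf.2 ⟨fun b hb => h.free b hb _ ?_, sub_mem (hsB1 k hk w hw) hw⟩
    have e : act b (act k w - w) - (act k w - w) = act k (act b w - w) - (act b w - w) := by
      rw [map_sub (act b), map_sub (act k), ← OffSL2.act_mul act b k, ← hc k hk b hb, OffSL2.act_mul]; abel
    rw [e]
    exact (hB k hk _ (h.atom.quad hP b hb w)).2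
  have htriv : ∀ k ∈ K, ∀ u, act k u - u ∈ fix act B ⊓ fix act B1 := fun k hk u => by
    obtain ⟨a, ha, w, hw, rfl⟩ := AddSubgroup.mem_sup.1 (h.top ▸ AddSubgroup.mem_top u)
    rw [show act k (a + w) - (a + w) = (act k a - a) + (act k w - w) by rw [map_add]; abel]
    exact add_mem (hB k hk a ha) (hB1 k hk w hw)
  have hcomm : ∀ k ∈ K, ∀ b ∈ B1, k * b = b * k := fun k hk b hb => by
    have hmem : k * b * k⁻¹ * b⁻¹ ∈ B1 := B1.mul_mem ((hn k hk).le (conj_mem_cj hb)) (B1.inv_mem hb)
    have h1 : k * b * k⁻¹ * b⁻¹ = 1 := by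
      refine hP.inj (AddMonoidHom.ext fun u => ?_)
      show act (k * b * k⁻¹ * b⁻¹) u = act 1 u
      rw [OffSL2.act_one]
      refine h.free' _ hmem u ?_
      obtain ⟨w, hw⟩ : ∃ w, w = act b⁻¹ u := ⟨_, rfl⟩
      obtain ⟨z, hz⟩ : ∃ z, z = act k⁻¹ w - w := ⟨_, rfl⟩
      have hzZ := hz ▸ htriv _ (K.inv_mem hk) w
      have e : act (k * b * k⁻¹ * b⁻¹) u - u = (act k (act b w) - act b w) + act k z := by
        rw [OffSL2.act_mul, OffSL2.act_mul, OffSL2.act_mul, ← hw, eq_add_of_sub_eq hz.symm, map_add, map_add,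
          hzZ.2 b hb, show act b w = u by rw [hw, OffSL2.act_inv']]
        abel
      rw [e]
      exact add_mem (htriv k hk _).1 (hsB k hk z hzZ.1)
    rwa [mul_inv_eq_one, mul_inv_eq_iff_eq_mul] at h1
  refine ⟨hcomm, eq_top_iff.2 fun u _ => ?_⟩
  obtain ⟨b0, hb0, hb01⟩ := (Subgroup.bot_or_exists_ne_one B).resolve_left h.atom.ne
  obtain ⟨c, hc0⟩ : ∃ c, c = act b0 v - v := ⟨_, rfl⟩
  have hcB : c ∈ fix act B := hc0 ▸ h.atom.quad hP b0 hb0 v
  have hcB1 : c ∉ fix act B1 := fun hcm => hb01 (h.inj hP hv hv' hb0 B.one_mem (by rw [OffSL2.act_one, ← hc0]; exact hcm))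
  obtain ⟨b1, hb1, hz⟩ := h.symm.surj hP hcB hcB1 u
  have hfix : act b1 c ∈ fix act K := fun k hk => by
    rw [← OffSL2.act_mul, hcomm k hk b1 hb1, OffSL2.act_mul, hc0, hkey k hk b0 hb0]
  rw [show u = act b1 c + (-(c) + -(act b1 c - c - u)) by abel]
  exact AddSubgroup.add_mem_sup hfix (add_mem (neg_mem hcB) (neg_mem hz))

/-- An exact group containing `B` and permuting `B1` through `B` is `B` times a smaller exact group. -/
theorem Duo.peel (h : Duo p act B B1) {X : Subgroup P} (hX : Exact p act X) (hBX : B ≤ X)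
    (hperm : ∀ x ∈ X, ∃ b ∈ B, cj (b * x) B1 = B1) :
    ∃ D, D ≤ X ∧ D ≠ X ∧ Exact p act D ∧ D ⊔ B = X := by
  obtain ⟨D, hD⟩ : ∃ D, D = X ⊓ Subgroup.normalizer (B1 : Set P) := ⟨_, rfl⟩
  have hDX : D ≤ X := hD ▸ inf_le_left
  have hsup : D ⊔ B = X := by
    refine le_antisymm (sup_le hDX hBX) fun x hx => ?_
    obtain ⟨b, hb, he⟩ := hperm x hx
    rw [show x = b⁻¹ * (b * x) by group]
    refine Subgroup.mul_mem _ (mem_sup_right (B.inv_mem hb)) (mem_sup_left ?_)
    rw [hD]
    exact ⟨X.mul_mem (hBX hb) hx, mem_normalizer_of_conj (cj_le.1 he.le)⟩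
  obtain ⟨hcomm, htop⟩ := h.central hP (hX.el.mono hDX).isPGroup
    (fun k hk b hb => hX.el.comm k (hDX hk) b (hBX hb))
    (fun k hk => cj_eq_self (hD ▸ hk : k ∈ X ⊓ Subgroup.normalizer (B1 : Set P)).2)
  refine ⟨D, hDX, fun e => ?_, ⟨hX.el.mono hDX, le_antisymm (meas_le_card hP (hX.el.mono hDX)) ?_⟩, hsup⟩
  · obtain ⟨v, hv, hv'⟩ := h.exists_out
    obtain ⟨b, hb, hb1⟩ := (Subgroup.bot_or_exists_ne_one B).resolve_left h.atom.ne
    have hbn : cj b B1 = B1 := cj_eq_self (hD ▸ e.ge (hBX hb) : b ∈ X ⊓ Subgroup.normalizer (B1 : Set P)).2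
    have hbv : act b v ∈ fix act B1 := by
      have := act_fix_cj (k := b) hv
      rwa [hbn] at this
    exact hv' (atom_fix_elem hP h.atom hb hb1 (h.free b hb v (sub_mem hbv hv)))
  · have hn : D ≤ Subgroup.normalizer (B : Set P) := le_normalizer_iff.2 fun a ha b hb => by
      rw [hX.el.comm a (hDX ha) b (hBX hb), mul_inv_cancel_right]; exact hb
    have p1 := CfsgLib.PLocal.card_sup_mul_card_inf D B hn
    have p2 := card_sup_mul_inf (fix act D) (fix act B)
    rw [htop, AddSubgroup.card_top, ← fix_sup, hsup] at p2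
    rw [hsup] at p1
    have hX' : Nat.card X ≤ Nat.card D * Nat.card B :=
      (Nat.le_mul_of_pos_right _ Nat.card_pos).trans p1.ge
    have h1 := h.atom.eq
    rw [meas] at h1
    rw [← h1, mul_right_comm] at p2
    have h2 := Nat.eq_of_mul_eq_mul_right Nat.card_pos p2
    rw [← hX.eq, meas, meas, ← h2, ← mul_assoc]
    exact Nat.mul_le_mul_right _ hX'

end CfsgLib.LocalEven.PMinFF
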