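import Cfsg.Agent.Lib.LocalEven.PMinFF.Cand

/-!
# The orbit module of a smallest candidate

In a smallest candidate `L` the span `W` of the `L`-orbit of the fixed vector is fixed by `O_p(L)`; an element
of `A` outside `O_p(L)` fixes in `W` only `C_W(A)`, and `|A : A ∩ O_p(L)| ≤ |W : C_W(A)|`. Consequently no
elementary abelian subgroup has measure above `|U|`.
-/

set_option autoImplicit false
set_option linter.all false

namespace CfsgLib.LocalEven.PMinFF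

open Subgroup CfsgLib.LocalEven.OffSL2

variable {P : Type*} [Group P] [Finite P] {p : ℕ} [Fact p.Prime]
variable {U : Type*} [AddCommGroup U] [Finite U]
variable {act : P →* AddMonoid.End U} {T M A B L : Subgroup P} {y : U}

/-- The span of the `L`-orbit of `y`. -/
def orbW (act : P →* AddMonoid.End U) (L : Subgroup P) (y : U) : AddSubgroup U :=
  AddSubgroup.closure (Set.range fun l : L => act (l : P) y)

omit [Finite P] [Finite U] in
theorem act_mem_orbW {l : P} (hl : l ∈ L) {u : U} (hu : u ∈ orbW act L y) : act l u ∈ orbW act L y := by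
  have : orbW act L y ≤ (orbW act L y).comap (act l) := by
    refine (AddSubgroup.closure_le _).2 ?_
    rintro _ ⟨k, rfl⟩
    exact AddSubgroup.subset_closure ⟨⟨l, hl⟩ * k, OffSL2.act_mul act l k y⟩
  exact this hu

omit [Finite P] [Finite U] in
theorem mem_orbW {l : P} (hl : l ∈ L) : act l y ∈ orbW act L y := AddSubgroup.subset_closure ⟨⟨l, hl⟩, rfl⟩

theorem inf_normal_le_opc {R T1 C : Subgroup P} (hR : MaxP p T1 R)
    (hpm : ∀ X : Subgroup P, T1 ≤ X → X ≤ R → X ≠ R → X ≤ M) (hRM : ¬ R ≤ M) (hCR : C ≤ R) (hCM : C ≤ M)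
    (hCn : ∀ l ∈ R, ∀ c ∈ C, l * c * l⁻¹ ∈ C) : T1 ⊓ C ≤ opc p R := by
  obtain ⟨D, hD⟩ : ∃ D, D = T1 ⊓ C := ⟨_, rfl⟩
  obtain ⟨N, hN⟩ : ∃ N, N = R ⊓ Subgroup.normalizer (D : Set P) := ⟨_, rfl⟩
  rw [← hD]
  have hDn : ∀ t ∈ T1, ∀ d ∈ D, t * d * t⁻¹ ∈ D := fun t ht d hd => by
    rw [hD] at hd ⊢
    exact ⟨T1.mul_mem (T1.mul_mem ht hd.1) (T1.inv_mem ht), hCn t (hR.le ht) d hd.2⟩
  have hTN : T1 ≤ N := hN ▸ le_inf hR.le fun t ht => mem_normalizer_of_conj (hDn t ht)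
  by_cases hNR : N = R
  · exact le_opc (hD ▸ inf_le_left.trans hR.le) (hR.pgr.to_le (hD ▸ inf_le_left)) fun l hl n hn =>
      (mem_normalizer_iff.1 ((hN ▸ hNR).ge hl).2 n).1 hn
  exfalso
  refine hRM fun l hl => ?_
  have hNM := hpm N hTN (hN ▸ inf_le_left) hNR
  have hmx : MaxP p D C := by
    refine ⟨hD ▸ inf_le_right, hR.pgr.to_le (hD ▸ inf_le_left), fun X h1 h2 h3 => ?_⟩
    obtain ⟨k, hk, hkX⟩ := hR.exists_conj h3 (h2.trans hCR)
    have hkD : cj k X ≤ D := hD ▸ le_inf hkX (cj_le.2 fun a ha => hCn k hk a (h2 ha))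
    exact (eq_of_le_of_card_ge h1 ((card_cj k X).ge.trans (card_le_of_le hkD))).symm
  obtain ⟨c, hc, hcD⟩ := hmx.exists_conj (isPGroup_cj (x := l) hmx.pgr)
    (cj_le.2 fun d hd => hCn l hl d (hmx.le hd))
  rw [cj_cj] at hcD
  have : c * l ∈ N := hN ▸ ⟨R.mul_mem (hCR hc) hl, mem_normalizer_of_conj (cj_le.1 hcD)⟩
  simpa [← mul_assoc] using M.mul_mem (M.inv_mem (hCM hc)) (hNM this)

namespace MinC

variable (hc : MinC p T M A B L)
include hc

theorem AL : A ≤ L := hc.AT.trans inf_le_right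

theorem fix_of_gen {k : P} (hk : k ∈ L) (hkM : k ∉ M) {v : U} (h1 : v ∈ fix act A)
    (h2 : act k⁻¹ v ∈ fix act A) : v ∈ fix act L := fun l hl => by
  have h3 : A ⊔ cj k A ≤ stabV act v :=
    sup_le (fun a ha => h1 a ha) fun a ha => (mem_fix_conj act).2 h2 a ha
  rw [hc.gen k hk hkM] at h3
  exact h3 hl

theorem exists_out : ∃ k ∈ L, k ∉ M := SetLike.not_le_iff_exists.1 hc.notLM

variable (hP : PMod p act T M y)
include hP

theorem y_fixA : y ∈ fix act A := fun a ha => hP.hy a (hc.AT ha).1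

theorem moved {k : P} (hk : k ∈ L) (hkM : k ∉ M) : act k y ∉ fix act A := by
  intro hm
  have h2 := hc.fix_of_gen hk hkM hm (by rw [OffSL2.act_inv]; exact hc.y_fixA hP)
  refine hkM (hP.stab ?_)
  show act k y = y
  have h3 := h2 k⁻¹ (L.inv_mem hk)
  rw [OffSL2.act_inv] at h3
  exact h3.symm

theorem core {a : P} (ha : a ∈ T ⊓ L) (hall : ∀ k ∈ L, k⁻¹ * a * k ∈ M) : a ∈ opc p L := by
  obtain ⟨C, hC⟩ : ∃ C : Subgroup P, C = Subgroup.closure {v | ∃ k ∈ L, v = k⁻¹ * a * k} := ⟨_, rfl⟩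
  have haC : a ∈ C := hC ▸ subset_closure ⟨1, L.one_mem, by simp⟩
  refine inf_normal_le_opc hc.maxp hc.pmin hc.notLM ?_ ?_ (fun l hl x hx => ?_) ⟨ha, haC⟩
  · rw [hC, closure_le]
    rintro _ ⟨k, hk, rfl⟩
    exact L.mul_mem (L.mul_mem (L.inv_mem hk) ha.2) hk
  · rw [hC, closure_le]
    rintro _ ⟨k, hk, rfl⟩
    exact hall k hk
  · have : C ≤ C.comap (MulAut.conj l).toMonoidHom := by
      conv_lhs => rw [hC]
      rw [closure_le]
      rintro _ ⟨k, hk, rfl⟩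
      exact hC ▸ subset_closure ⟨k * l⁻¹, L.mul_mem hk (L.inv_mem hl), by
        show l * (k⁻¹ * a * k) * l⁻¹ = _
        group⟩
    exact this hx

theorem opc_fix {q : P} (hq : q ∈ opc p L) {u : U} (hu : u ∈ orbW act L y) : act q u = u := by
  have h1 : orbW act L y ≤ fix act (Subgroup.zpowers q) := by
    refine (AddSubgroup.closure_le _).2 ?_
    rintro _ ⟨k, rfl⟩ b hb
    refine (zpowers_le.2 ?_ : Subgroup.zpowers q ≤ stabV act (act (k : P) y)) hb
    show act q (act (k : P) y) = act (k : P) y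
    rw [← OffSL2.act_mul, show q * (k : P) = k * ((k : P)⁻¹ * q * k) by group, OffSL2.act_mul]
    congr 1
    refine hP.hy _ (opc_le_maxP hc.maxp ?_).1
    have := opc_conj (L.inv_mem k.2) hq
    rwa [inv_inv] at this
  exact h1 hu q (mem_zpowers q)

variable (hq : Quad act A)
include hq

theorem decompose {g : P} (hg : g ∈ L) (hgM : g ∉ M) {u : U} (hu : u ∈ orbW act L y) :
    ∃ w x : U, w ∈ orbW act L y ∧ w ∈ fix act A ∧ x ∈ orbW act L y ∧ act g⁻¹ x ∈ fix act A ∧ w + x = u := by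
  obtain ⟨S, hS⟩ : ∃ S, S = (orbW act L y ⊓ fix act A) ⊔ (orbW act L y ⊓ fix act (cj g A)) := ⟨_, rfl⟩
  have hSU : S ≤ orbW act L y := hS ▸ sup_le inf_le_left inf_le_left
  have hA : A ≤ stabS act S := fun a ha s hs => by
    rw [← sub_add_cancel (act a s) s]
    exact add_mem (hS ▸ AddSubgroup.mem_sup_left (AddSubgroup.mem_inf.2
      ⟨sub_mem (act_mem_orbW (hc.AL ha) (hSU hs)) (hSU hs), hq a ha s⟩)) hs
  have hB : cj g A ≤ stabS act S := fun a ha s hs => by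
    rw [← sub_add_cancel (act a s) s]
    exact add_mem (hS ▸ AddSubgroup.mem_sup_right (AddSubgroup.mem_inf.2
      ⟨sub_mem (act_mem_orbW (cj_le_of_mem hg hc.AL ha) (hSU hs)) (hSU hs), hq.cj g a ha s⟩)) hs
  have htop : L ≤ stabS act S := (hc.gen g hg hgM).ge.trans (sup_le hA hB)
  have hyS : y ∈ S := hS ▸ AddSubgroup.mem_sup_left
    ⟨by simpa [OffSL2.act_one] using mem_orbW (act := act) (y := y) L.one_mem, hc.y_fixA hP⟩
  have hU : orbW act L y ≤ S := by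
    refine (AddSubgroup.closure_le _).2 ?_
    rintro _ ⟨k, rfl⟩
    exact htop k.2 y hyS
  obtain ⟨w, ⟨hw1, hw2⟩, x, ⟨hx1, hx2⟩, e⟩ := AddSubgroup.mem_sup.1 (hS ▸ hU hu)
  exact ⟨w, x, hw1, hw2, hx1, (mem_fix_conj act).1 hx2, e⟩

theorem shift {g : P} (hg : g ∈ L) {a : P} (ha : a ∈ A) (ha' : g⁻¹ * a * g ∉ M) {v : U}
    (hv : act g⁻¹ v ∈ fix act A) (hd : act a v - v ∈ fix act L) : v ∈ fix act L := by
  obtain ⟨z, hz⟩ : ∃ z, z = act a v - v := ⟨_, rfl⟩
  rw [← hz] at hd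
  have hLA : fix act L ≤ fix act A := fix_anti act hc.AL
  have haL : g⁻¹ * a * g ∈ L := L.mul_mem (L.mul_mem (L.inv_mem hg) (hc.AL ha)) hg
  have h1 : act (g⁻¹ * a * g)⁻¹ (act g⁻¹ v) = act g⁻¹ v - z := by
    rw [← OffSL2.act_mul, show (g⁻¹ * a * g)⁻¹ * g⁻¹ = g⁻¹ * a⁻¹ by group, OffSL2.act_mul]
    have : v = act a v - z := by rw [hz, sub_sub_cancel]
    conv_lhs => rw [this]
    rw [map_sub, map_sub, OffSL2.act_inv, hd _ (L.inv_mem (hc.AL ha)), hd _ (L.inv_mem hg)]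
  have h2 := hc.fix_of_gen haL ha' hv (by rw [h1]; exact sub_mem hv (hLA hd))
  intro k hk
  have h3 := h2 (g⁻¹ * k * g) (L.mul_mem (L.mul_mem (L.inv_mem hg) hk) hg)
  rw [← OffSL2.act_mul, mul_assoc, mul_inv_cancel, mul_one, OffSL2.act_mul] at h3
  exact OffSL2.act_injective act _ h3

theorem fixed {g : P} (hg : g ∈ L) {a : P} (ha : a ∈ A) (ha' : g⁻¹ * a * g ∉ M) {u : U}
    (hu : u ∈ orbW act L y) (hau : act a u = u) : u ∈ fix act A := by
  have hgM : g ∉ M := fun hgM => ha' (M.mul_mem (M.mul_mem (M.inv_mem hgM) (hP.TM (hc.AT ha).1)) hgM)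
  obtain ⟨w, x, -, hw, -, hx, rfl⟩ := hc.decompose hP hq hg hgM hu
  rw [map_add, hw a ha, add_right_inj] at hau
  exact add_mem hw (fix_anti act hc.AL (hc.shift hP hq hg ha ha' hx (by rw [hau, sub_self]; exact zero_mem _)))

theorem not_mem {a : P} (ha : a ∈ A) (haQ : a ∉ opc p L) {k : P} (hk : k ∈ L) (hkM : k ∉ M) :
    k⁻¹ * a * k ∉ M := by
  intro hd
  obtain ⟨g, hg, hgd⟩ : ∃ g ∈ L, g⁻¹ * a * g ∉ M := by
    by_contra hall
    push Not at hall
    exact haQ (hc.core hP (hc.AT ha) hall)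
  have hpa : IsPGroup p (Subgroup.zpowers (k⁻¹ * a * k)) :=
    (isPGroup_cj (x := k⁻¹) (hc.maxp.pgr.to_le hc.AT)).to_le
      (zpowers_le.2 (by simpa using conj_mem_cj (x := k⁻¹) ha))
  obtain ⟨m, hm, hmle⟩ := (hc.maxp.mono (L' := L ⊓ M) (le_inf inf_le_right (inf_le_left.trans hP.TM))
    inf_le_left).exists_conj hpa
      (zpowers_le.2 ⟨L.mul_mem (L.mul_mem (L.inv_mem hk) (hc.AL ha)) hk, hd⟩)
  have hd' : m * (k⁻¹ * a * k) * m⁻¹ ∈ T ⊓ L := hmle (conj_mem_cj (mem_zpowers _))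
  have hhM : k * m⁻¹ ∉ M := fun hc' => hkM (by simpa [mul_assoc] using M.mul_mem hc' hm.2)
  have hhL : k * m⁻¹ ∈ L := L.mul_mem hk (L.inv_mem hm.1)
  refine hc.moved hP hhL hhM (hc.fixed hP hq hg ha hgd (mem_orbW hhL) ?_)
  rw [← OffSL2.act_mul, show a * (k * m⁻¹) = (k * m⁻¹) * (m * (k⁻¹ * a * k) * m⁻¹) by group, OffSL2.act_mul,
    hP.hy _ hd'.1]

theorem fix_elem {a : P} (ha : a ∈ A) (haQ : a ∉ opc p L) {u : U} (hu : u ∈ orbW act L y)
    (hau : act a u = u) : u ∈ fix act A := by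
  obtain ⟨g, hg, hgM⟩ := hc.exists_out
  exact hc.fixed hP hq hg ha (hc.not_mem hP hq ha haQ hg hgM) hu hau

theorem free {g : P} (hg : g ∈ L) (hgM : g ∉ M) {a : P} (ha : a ∈ A) (haQ : a ∉ opc p L) {x : U}
    (hx : act g⁻¹ x ∈ fix act A) (hd : act a x - x ∈ fix act L) : x ∈ fix act L :=
  hc.shift hP hq hg ha (hc.not_mem hP hq ha haQ hg hgM) hx hd

theorem card_ineq : Nat.card A * Nat.card ↥(orbW act L y ⊓ fix act A) ≤
    Nat.card ↥(A ⊓ opc p L) * Nat.card (orbW act L y) := by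
  obtain ⟨g, hg, hgM⟩ := hc.exists_out
  obtain ⟨W, hW⟩ : ∃ W, W = orbW act L y := ⟨_, rfl⟩
  obtain ⟨X, hX⟩ : ∃ X, X = W ⊓ fix act (cj g A) := ⟨_, rfl⟩
  obtain ⟨C, hC⟩ : ∃ C, C = W ⊓ fix act A := ⟨_, rfl⟩
  obtain ⟨Z, hZ⟩ : ∃ Z, Z = W ⊓ fix act L := ⟨_, rfl⟩
  rw [← hW, ← hC]
  have hWs : ∀ l : P, l ∈ L → ∀ u : U, u ∈ W → act l u ∈ W := fun l hl u hu => by
    rw [hW] at hu ⊢; exact act_mem_orbW hl hu
  have hsum : C ⊔ X = W := by
    refine le_antisymm (hC ▸ hX ▸ sup_le inf_le_left inf_le_left) fun u hu => ?_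
    obtain ⟨w, x, hw1, hw2, hx1, hx2, rfl⟩ := hc.decompose hP hq hg hgM (hW ▸ hu)
    exact AddSubgroup.add_mem_sup (hC ▸ ⟨hW ▸ hw1, hw2⟩) (hX ▸ ⟨hW ▸ hx1, (mem_fix_conj act).2 hx2⟩)
  have hint : C ⊓ X = Z := by
    rw [hC, hX, hZ]
    refine le_antisymm (fun v hv => ⟨hv.1.1, hc.fix_of_gen hg hgM hv.1.2 ((mem_fix_conj act).1 hv.2.2)⟩) ?_
    exact le_inf (inf_le_inf_left _ (fix_anti act hc.AL))
      (inf_le_inf_left _ (fix_anti act (cj_le_of_mem hg hc.AL)))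
  have hXC : Nat.card X = Nat.card C := by
    rw [hX, hC]
    exact Nat.card_congr
      { toFun := fun v => ⟨act g⁻¹ v, hWs g⁻¹ (L.inv_mem hg) _ v.2.1, (mem_fix_conj act).1 v.2.2⟩
        invFun := fun v => ⟨act g v, hWs g hg _ v.2.1,
          (mem_fix_conj act).2 (by rw [OffSL2.act_inv]; exact v.2.2)⟩
        left_inv := fun v => Subtype.ext (OffSL2.act_inv' act g v)
        right_inv := fun v => Subtype.ext (OffSL2.act_inv act g v) }
  have e1 := card_sup_mul_inf C X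
  rw [hsum, hint, hXC] at e1
  obtain ⟨x, hx⟩ : ∃ x, x = act g y := ⟨_, rfl⟩
  have hxW : x ∈ W := hx ▸ hW ▸ mem_orbW hg
  have hxg : act g⁻¹ x ∈ fix act A := by rw [hx, OffSL2.act_inv]; exact hc.y_fixA hP
  have hxL : x ∉ fix act L := fun h => hc.moved hP hg hgM (fix_anti act hc.AL (hx ▸ h))
  let f : A → ↥C ⧸ Z.addSubgroupOf C := fun a => QuotientAddGroup.mk ⟨act a x - x,
    by rw [hC]; exact ⟨W.sub_mem (hWs _ (hc.AL a.2) _ hxW) hxW, hq a a.2 x⟩⟩
  have hkey : ∀ a b : A, f a = f b → (a : P)⁻¹ * b ∈ A ⊓ opc p L := by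
    intro a b hab
    refine ⟨A.mul_mem (A.inv_mem a.2) b.2, ?_⟩
    by_contra hQ
    have hz : -(act (a : P) x - x) + (act (b : P) x - x) ∈ Z := (QuotientAddGroup.eq.1 hab :)
    rw [neg_sub, sub_add_sub_cancel'] at hz
    have hzL : act (b : P) x - act (a : P) x ∈ fix act L := (hZ ▸ hz).2
    refine hxL (hc.free hP hq hg hgM (A.mul_mem (A.inv_mem a.2) b.2) hQ hxg ?_)
    rw [OffSL2.act_mul, show act (a : P)⁻¹ (act (b : P) x) - x =
      act (a : P)⁻¹ (act (b : P) x - act (a : P) x) by rw [map_sub, OffSL2.act_inv],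
      hzL _ (L.inv_mem (hc.AL a.2))]
    exact hzL
  obtain ⟨A0, hA0⟩ : ∃ A0, A0 = A ⊓ opc p L := ⟨_, rfl⟩
  rw [← hA0] at hkey ⊢
  have hA0A : A0 ≤ A := hA0 ▸ inf_le_left
  have hinj : Function.Injective fun q : A ⧸ A0.subgroupOf A => f q.out := fun q q' hqq => by
    rw [← QuotientGroup.out_eq' q, ← QuotientGroup.out_eq' q', QuotientGroup.eq]
    exact hkey _ _ hqq
  have h1 := Nat.card_le_card_of_injective _ hinj
  have hZC : Z ≤ C := hint ▸ inf_le_left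
  have hA : Nat.card A * Nat.card Z ≤ Nat.card A0 * Nat.card C := by
    rw [Subgroup.card_eq_card_quotient_mul_card_subgroup (A0.subgroupOf A),
      Nat.card_congr (Subgroup.subgroupOfEquivOfLe hA0A).toEquiv,
      AddSubgroup.card_eq_card_quotient_mul_card_addSubgroup (Z.addSubgroupOf C),
      Nat.card_congr (AddSubgroup.addSubgroupOfEquivOfLe hZC).toEquiv]
    calc _ ≤ Nat.card (↥C ⧸ Z.addSubgroupOf C) * Nat.card A0 * Nat.card Z :=
          Nat.mul_le_mul_right _ (Nat.mul_le_mul_right _ h1)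
      _ = _ := by ring
  refine Nat.le_of_mul_le_mul_right ?_ (Nat.card_pos : 0 < Nat.card C)
  calc Nat.card A * Nat.card C * Nat.card C = Nat.card A * (Nat.card W * Nat.card Z) := by rw [e1]; ring
    _ = Nat.card A * Nat.card Z * Nat.card W := by ring
    _ ≤ Nat.card A0 * Nat.card C * Nat.card W := Nat.mul_le_mul_right _ hA
    _ = _ := by ring

theorem sup_le_fix : orbW act L y ⊔ fix act A ≤ fix act (A ⊓ opc p L) :=
  sup_le (fun u hu q hq' => hc.opc_fix hP hq'.2 hu) (fix_anti act inf_le_left)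

theorem meas_le : meas act A ≤ Nat.card ↥(A ⊓ opc p L) * Nat.card ↥(orbW act L y ⊔ fix act A) := by
  have e := card_sup_mul_inf (orbW act L y) (fix act A)
  refine Nat.le_of_mul_le_mul_right ?_ (Nat.card_pos : 0 < Nat.card ↥(orbW act L y ⊓ fix act A))
  calc meas act A * _ = Nat.card A * Nat.card ↥(orbW act L y ⊓ fix act A) * Nat.card (fix act A) := by
        rw [meas]; ring
    _ ≤ Nat.card ↥(A ⊓ opc p L) * Nat.card (orbW act L y) * Nat.card (fix act A) :=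
        Nat.mul_le_mul_right _ (hc.card_ineq hP hq)
    _ = _ := by rw [mul_assoc, ← e]; ring

end MinC

/-- No elementary abelian subgroup has measure above `|U|`. -/
theorem meas_le_card (hP : PMod p act T M y) {A : Subgroup P} (hA : El p A) : meas act A ≤ Nat.card U := by
  induction hn : Nat.card A using Nat.strong_induction_on generalizing A with
  | _ n ih =>
  by_contra hlt
  push Not at hlt
  have hlow : ∀ B ≤ A, B ≠ A → meas act B ≤ Nat.card U := fun B hB hne =>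
    ih _ (hn ▸ lt_of_le_of_ne (card_le_of_le hB) fun e => hne (eq_of_le_of_card_ge hB e.ge))
      (hA.mono hB) rfl
  have hq : Quad act A := quad_of_min hP.hpU hA hlt.le fun B hB hne _ => (hlow B hB hne).trans_lt hlt
  have hne : A ≠ ⊥ := fun e => hlt.ne' (by rw [e, meas_bot])
  obtain ⟨k, -, hk⟩ := hP.syl.exists_conj hA.isPGroup le_top
  have hne' : cj k A ≠ ⊥ := fun e => hne ((map_eq_bot_iff_of_injective _ (MulAut.conj k).injective).1 e)
  obtain ⟨h0, L, hc⟩ := exists_minC hP hk le_rfl hne' (Or.inl rfl)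
  rw [cj_cj] at hc
  obtain ⟨A', hA'⟩ : ∃ A', A' = cj (h0 * k) A := ⟨_, rfl⟩
  rw [← hA'] at hc
  have hA0 : A' ⊓ opc p L ≠ A' := fun e => hc.BQ (inf_eq_left.1 e)
  have h1 := hc.meas_le hP (hA' ▸ hq.cj _)
  have h2 : meas act A' ≤ meas act (A' ⊓ opc p L) :=
    h1.trans (Nat.mul_le_mul_left _ (card_le_fix act (hc.sup_le_fix hP (hA' ▸ hq.cj _))))
  have hcard : Nat.card A' = n := by rw [hA', card_cj, hn]
  have h3 : meas act (A' ⊓ opc p L) ≤ Nat.card U :=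
    ih _ (hcard ▸ lt_of_le_of_ne (card_le_of_le inf_le_left) fun e => hA0 (eq_of_le_of_card_ge inf_le_left e.ge))
      ((hA' ▸ hA.cj _ : El p A').mono inf_le_left) rfl
  have h4 : meas act A' = meas act A := by rw [hA', meas_cj]
  omega

end CfsgLib.LocalEven.PMinFF
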