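import Mathlib.Algebra.BigOperators.Group.Finset.Basic
import Mathlib.Data.Fin.Tuple.Basic
import Mathlib.Data.Fin.VecNotation
import Mathlib.Algebra.Order.BigOperators.Group.Finset
import Mathlib.SetTheory.Cardinal.Finite
import Mathlib.Algebra.CharP.Two
import Mathlib.Data.ZMod.Basic
import Mathlib.Tactic.Abel
import Mathlib.Tactic.FinCases

/-!
# Transvection systems with independent commuting sets are transposition systems

`D` is a set of centres, `Φ d` the functional of the transvection with centre `d`. If the sum of a nonempty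
commuting set is never zero, every connected part of `D` is `{eᵢ + eⱼ}` for a family `e`.
-/

set_option autoImplicit false
set_option linter.all false

namespace CfsgLib.LocalEven.PMinFF

variable {U : Type*} [AddCommGroup U]

/-- A system of transvections over the field with two elements. -/
structure Sys (D : Set U) (Φ : U → U →+ ZMod 2) : Prop where
  two : ∀ u : U, u + u = 0
  self : ∀ a ∈ D, Φ a a = 0
  symm : ∀ a ∈ D, ∀ b ∈ D, Φ a b = Φ b a
  add : ∀ a ∈ D, ∀ b ∈ D, Φ a b = 1 → a + b ∈ D ∧ ∀ v, Φ (a + b) v = Φ a v + Φ b v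
  indep : ∀ s : Finset U, s.Nonempty → (∀ a ∈ s, a ∈ D) → (∀ a ∈ s, ∀ b ∈ s, Φ a b = 0) → ∑ a ∈ s, a ≠ 0

/-- `1` on the diagonal. -/
def dl {m : ℕ} (i j : Fin m) : ZMod 2 := if i = j then 1 else 0

/-- The vectors `eᵢ + eⱼ` are transpositions. -/
structure Star (D : Set U) (Φ : U → U →+ ZMod 2) {m : ℕ} (e : Fin m → U) : Prop where
  mem : ∀ i j, i ≠ j → e i + e j ∈ D
  gram : ∀ i j, i ≠ j → ∀ k l, Φ (e i + e j) (e k + e l) = dl i k + dl j k + dl i l + dl j l
  inj : ∀ i j k l, i ≠ j → k ≠ l → e i + e j = e k + e l → (i = k ∧ j = l) ∨ (i = l ∧ j = k)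

variable {D : Set U} {Φ : U → U →+ ZMod 2}

theorem zmod2_add_self (a : ZMod 2) : a + a = 0 := CharTwo.add_self_eq_zero a

theorem zmod2_ne {a b : ZMod 2} (h : a ≠ b) : a + b = 1 := by revert h; revert a b; decide

namespace Sys

variable (hS : Sys D Φ)
include hS

theorem ne_zero {a : U} (ha : a ∈ D) : a ≠ 0 := by
  have := hS.indep {a} ⟨a, Finset.mem_singleton_self a⟩ (fun b hb => Finset.mem_singleton.1 hb ▸ ha)
    (fun b hb c hc => by rw [Finset.mem_singleton.1 hb, Finset.mem_singleton.1 hc]; exact hS.self a ha)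
  simpa using this

theorem pair_split {m : ℕ} (e : Fin m → U) (i j k : Fin m) : e i + e j = (e i + e k) + (e k + e j) := by
  rw [show (e i + e k) + (e k + e j) = e i + e j + (e k + e k) by abel, hS.two, add_zero]

theorem star_three {a b : U} (ha : a ∈ D) (hb : b ∈ D) (hab : Φ a b = 1) : Star D Φ ![0, a, b] := by
  obtain ⟨hc, hadd⟩ := hS.add a ha b hb hab
  have hba : Φ b a = 1 := by rw [hS.symm b hb a ha, hab]
  have hneg : ∀ u : U, -u = u := fun u => neg_eq_iff_add_eq_zero.2 (hS.two u)
  have hne : a ≠ b := fun e => by rw [e, hS.self b hb] at hab; exact zero_ne_one hab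
  refine ⟨fun i j hij => ?_, fun i j hij k l => ?_, fun i j k l hij hkl e => ?_⟩
  · fin_cases i <;> fin_cases j <;> simp at hij ⊢
    all_goals first | exact ha | exact hb | exact hc | (rw [add_comm]; exact hc)
  · fin_cases i <;> fin_cases j <;> simp at hij ⊢ <;> fin_cases k <;> fin_cases l <;>
      simp [dl, hab, hba, hS.self a ha, hS.self b hb, hadd, add_comm b a, zmod2_add_self, hS.two] <;> decide
  · have h0a := hS.ne_zero ha
    have h0b := hS.ne_zero hb
    fin_cases i <;> fin_cases j <;> simp at hij <;> fin_cases k <;> fin_cases l <;>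
      simp at hkl e ⊢ <;> simp_all [add_comm b a]

end Sys

namespace Star

variable {m : ℕ} {e : Fin m → U} (hs : Star D Φ e) (hS : Sys D Φ)
include hs hS

theorem lin {i j k : Fin m} (hij : i ≠ j) (hik : i ≠ k) (hkj : k ≠ j) (v : U) :
    Φ (e i + e j) v = Φ (e i + e k) v + Φ (e k + e j) v := by
  have h1 : Φ (e i + e k) (e k + e j) = 1 := by
    rw [hs.gram i k hik]; simp [dl, hik.symm, hik, hkj, hij]
  obtain ⟨-, h2⟩ := hS.add _ (hs.mem i k hik) _ (hs.mem k j hkj) h1
  rw [hS.pair_split e i j k, h2]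

theorem exists_matching (I : Finset (Fin m)) (heven : Even I.card) :
    ∃ S : Finset U, ∑ a ∈ S, a = ∑ i ∈ I, e i ∧ (I.Nonempty → S.Nonempty) ∧ 2 * S.card = I.card ∧
      (∀ a ∈ S, ∃ i ∈ I, ∃ j ∈ I, i ≠ j ∧ a = e i + e j) ∧ ∀ a ∈ S, ∀ b ∈ S, Φ a b = 0 := by
  classical
  induction hn : I.card using Nat.strong_induction_on generalizing I with
  | _ n ih =>
  by_cases h0 : I = ∅
  · subst h0
    exact ⟨∅, by simp, fun h => absurd h Finset.not_nonempty_empty, by simp [← hn], by simp, by simp⟩
  obtain ⟨i, hi⟩ := Finset.nonempty_iff_ne_empty.2 h0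
  obtain ⟨j, hj⟩ : ∃ j, j ∈ I.erase i := by
    refine Finset.card_pos.1 ?_
    rw [Finset.card_erase_of_mem hi]
    obtain ⟨k, hk⟩ := heven
    have := Finset.card_pos.2 ⟨i, hi⟩
    omega
  obtain ⟨hji, hjI⟩ := Finset.mem_erase.1 hj
  obtain ⟨J, hJ⟩ : ∃ J, J = (I.erase i).erase j := ⟨_, rfl⟩
  have hJc : J.card + 2 = I.card := by
    rw [hJ, Finset.card_erase_of_mem hj, Finset.card_erase_of_mem hi]
    obtain ⟨k, hk⟩ := heven
    have := Finset.card_pos.2 ⟨i, hi⟩
    omega
  obtain ⟨S, hsum, -, hcard, hmem, horth⟩ := ih J.card (by omega) J (by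
    obtain ⟨k, hk⟩ := heven; exact ⟨k - 1, by omega⟩) rfl
  have hnotJ : i ∉ J ∧ j ∉ J := by rw [hJ]; simp
  have hnot : e i + e j ∉ S := fun h => by
    obtain ⟨k, hk, l, hl, hkl, he⟩ := hmem _ h
    rcases hs.inj i j k l hji.symm hkl he with ⟨rfl, -⟩ | ⟨rfl, -⟩
    exacts [hnotJ.1 hk, hnotJ.1 hl]
  refine ⟨insert (e i + e j) S, ?_, fun _ => Finset.insert_nonempty _ _, ?_, ?_, ?_⟩
  · rw [Finset.sum_insert hnot, hsum, ← Finset.add_sum_erase I e hi, ← Finset.add_sum_erase _ e hj, hJ, add_assoc]
  · rw [Finset.card_insert_of_notMem hnot]; omega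
  · intro a ha
    rcases Finset.mem_insert.1 ha with rfl | ha
    · exact ⟨i, hi, j, hjI, hji.symm, rfl⟩
    · obtain ⟨k, hk, l, hl, hkl, he⟩ := hmem a ha
      have hsub : J ⊆ I := hJ ▸ (Finset.erase_subset _ _).trans (Finset.erase_subset _ _)
      exact ⟨k, hsub hk, l, hsub hl, hkl, he⟩
  · have key : ∀ a ∈ S, Φ (e i + e j) a = 0 := by
      intro a ha
      obtain ⟨k, hk, l, hl, hkl, rfl⟩ := hmem a ha
      rw [hs.gram i j hji.symm]
      simp [dl, show i ≠ k from fun h => hnotJ.1 (h ▸ hk), show j ≠ k from fun h => hnotJ.2 (h ▸ hk),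
        show i ≠ l from fun h => hnotJ.1 (h ▸ hl), show j ≠ l from fun h => hnotJ.2 (h ▸ hl)]
    intro a ha b hb
    rcases Finset.mem_insert.1 ha with h1 | h1 <;> rcases Finset.mem_insert.1 hb with h2 | h2
    · rw [h1, h2]; exact hS.self _ (hs.mem i j hji.symm)
    · rw [h1]; exact key b h2
    · obtain ⟨k, -, l, -, hkl, he⟩ := hmem a h1
      rw [h2, hS.symm a (he ▸ hs.mem k l hkl) _ (hs.mem i j hji.symm)]; exact key a h1
    · exact horth a h1 b h2

theorem sum_ne_zero {I : Finset (Fin m)} (heven : Even I.card) (hne : I.Nonempty) : ∑ i ∈ I, e i ≠ 0 := by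
  obtain ⟨S, hsum, hSne, -, hmem, horth⟩ := hs.exists_matching hS I heven
  rw [← hsum]
  refine hS.indep S (hSne hne) (fun a ha => ?_) horth
  obtain ⟨i, -, j, -, hij, rfl⟩ := hmem a ha
  exact hs.mem i j hij

theorem injective : Function.Injective e := fun i j h => by
  by_contra hij
  exact hS.ne_zero (hs.mem i j hij) (by rw [h]; exact hS.two _)

theorem extend (hm : 3 ≤ m) {d : U} (hd : d ∈ D) (hnd : ∀ i j, i ≠ j → d ≠ e i + e j) {a : Fin m}
    (hφ : ∀ k l, Φ d (e k + e l) = dl a k + dl a l) : Star D Φ (Fin.snoc e (d + e a)) := by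
  classical
  obtain ⟨N, hN⟩ : ∃ N : Fin m → U, N = fun j => d + e a + e j := ⟨_, rfl⟩
  have hself : d + e a + e a = d := by rw [add_assoc, hS.two, add_zero]
  have hnew : ∀ j, N j ∈ D ∧ ∀ v, Φ (N j) v = Φ d v + (if a = j then 0 else Φ (e a + e j) v) := by
    intro j
    by_cases h : a = j
    · subst h
      rw [hN]
      exact ⟨by simpa [hself] using hd, fun v => by simp [hself]⟩
    · have h1 : Φ d (e a + e j) = 1 := by rw [hφ]; simp [dl, h]
      obtain ⟨h2, h3⟩ := hS.add d hd _ (hs.mem a j h) h1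
      rw [hN]
      refine ⟨by simpa [add_assoc] using h2, fun v => ?_⟩
      simp only [if_neg h]
      rw [add_assoc]
      exact h3 v
  have hval : ∀ j k l, Φ (N j) (e k + e l) = dl j k + dl j l := by
    intro j k l
    rw [(hnew j).2, hφ]
    split_ifs with h
    · rw [← h, add_zero]
    · rw [hs.gram a j h, show dl a k + dl a l + (dl a k + dl j k + dl a l + dl j l) =
        dl j k + dl j l + (dl a k + dl a k) + (dl a l + dl a l) by abel, zmod2_add_self, zmod2_add_self, add_zero,
        add_zero]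
  have hval' : ∀ j k, Φ (N j) (N k) = dl j k + 1 := by
    intro j k
    have hk : N k = d + (e a + e k) := by rw [hN]; exact add_assoc _ _ _
    rw [(hnew j).2, hk, map_add, hS.self d hd, hφ]
    split_ifs with h
    · subst h; simp [dl, add_comm]
    · rw [map_add, hS.symm _ (hs.mem a j h) d hd, hφ, hs.gram a j h]
      simp only [dl, if_pos rfl, if_neg h, if_neg (Ne.symm h)]
      by_cases h1 : a = k
      · subst h1; simp [Ne.symm h]; decide
      · by_cases h2 : j = k
        · subst h2; simp [h]; decide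
        · simp [h1, h2]; decide
  obtain ⟨e', he'⟩ : ∃ e' : Fin (m + 1) → U, e' = Fin.snoc e (d + e a) := ⟨_, rfl⟩
  have hel : e' (Fin.last m) = d + e a := by rw [he']; simp
  have hec : ∀ i : Fin m, e' (Fin.castSucc i) = e i := fun i => by rw [he']; simp
  rw [← he']
  have hlast : ∀ j, e' (Fin.last m) + e' (Fin.castSucc j) = N j := fun j => by rw [hel, hec, hN]
  have hlast' : ∀ j, e' (Fin.castSucc j) + e' (Fin.last m) = N j := fun j => by rw [add_comm, hlast]
  have hcs : ∀ i j : Fin m, dl (Fin.castSucc i) (Fin.castSucc j) = dl i j := fun i j => by simp [dl]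
  have hcl : ∀ i : Fin m, dl (Fin.castSucc i) (Fin.last m) = 0 := fun i => by simp [dl, Fin.castSucc_ne_last]
  have hlc : ∀ i : Fin m, dl (Fin.last m) (Fin.castSucc i) = 0 := fun i => by
    simp [dl, (Fin.castSucc_ne_last i).symm]
  have hll : dl (Fin.last m) (Fin.last m) = 1 := by simp [dl]
  have hloop : ∀ u : U, Φ (N a) (u + u) = 0 := fun u => by rw [hS.two, map_zero]
  refine ⟨fun i => ?_, fun i => ?_, fun i j k l => ?_⟩
  · induction i using Fin.lastCases with
    | last => intro j; induction j using Fin.lastCases with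
      | last => intro h; exact absurd rfl h
      | cast j => intro _; rw [hlast]; exact (hnew j).1
    | cast i => intro j; induction j using Fin.lastCases with
      | last => intro _; rw [hlast']; exact (hnew i).1
      | cast j => intro h; rw [hec, hec]; exact hs.mem i j fun e => h (e ▸ rfl)
  · induction i using Fin.lastCases with
    | last => intro j; induction j using Fin.lastCases with
      | last => intro h; exact absurd rfl h
      | cast j =>
        intro _ k l
        rw [hlast]
        induction k using Fin.lastCases with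
        | last => induction l using Fin.lastCases with
          | last => rw [hS.two, map_zero, hll, hcl]; decide
          | cast l => rw [hlast, hval', hll, hcl, hlc, hcs]; abel
        | cast k => induction l using Fin.lastCases with
          | last => rw [hlast', hval', hll, hcl, hlc, hcs]; abel
          | cast l => rw [hec, hec, hval, hlc, hlc, hcs, hcs, zero_add, add_zero]
    | cast i => intro j; induction j using Fin.lastCases with
      | last =>
        intro _ k l
        rw [hlast']
        induction k using Fin.lastCases with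
        | last => induction l using Fin.lastCases with
          | last => rw [hS.two, map_zero, hll, hcl]; decide
          | cast l => rw [hlast, hval', hll, hcl, hlc, hcs]; abel
        | cast k => induction l using Fin.lastCases with
          | last => rw [hlast', hval', hll, hcl, hlc, hcs]; abel
          | cast l => rw [hec, hec, hval, hlc, hlc, hcs, hcs, add_zero, add_zero]
      | cast j =>
        intro h k l
        have hij : i ≠ j := fun e => h (e ▸ rfl)
        rw [hec i, hec j]
        induction k using Fin.lastCases with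
        | last => induction l using Fin.lastCases with
          | last => rw [hS.two, map_zero, hcl, hcl]; decide
          | cast l =>
            rw [hlast, hS.symm _ (hs.mem i j hij) _ (hnew l).1, hval, hcl, hcl, hcs, hcs, zero_add, zero_add]
            simp [dl, eq_comm]
        | cast k => induction l using Fin.lastCases with
          | last =>
            rw [hlast', hS.symm _ (hs.mem i j hij) _ (hnew k).1, hval, hcl, hcl, hcs, hcs, add_zero, add_zero]
            simp [dl, eq_comm]
          | cast l => rw [hec, hec, hs.gram i j hij, hcs, hcs, hcs, hcs]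
  · have hNinj : ∀ p q, N p = N q → p = q := fun p q h => hs.injective hS (by rw [hN] at h; exact add_left_cancel h)
    have hmix : ∀ p q r, q ≠ r → N p ≠ e q + e r := by
      intro p q r hqr h
      have h1 : ∀ i, dl p i + dl p q = dl q i + dl r i + 1 := fun i => by
        have h2 := hval p i q
        rw [h, hs.gram q r hqr] at h2
        rw [← h2]
        simp only [dl, if_pos rfl, if_neg hqr.symm]; abel
      by_cases hout : ∃ i, i ≠ p ∧ i ≠ q ∧ i ≠ r
      · obtain ⟨i, hip, hiq, hir⟩ := hout
        have h4 := h1 i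
        have h3 : dl p i + dl p r = dl q i + dl r i + 1 := by
          have h2 := hval p i r
          rw [h, hs.gram q r hqr] at h2
          rw [← h2]
          simp only [dl, if_pos rfl, if_neg hqr]; abel
        simp only [dl, if_neg hip.symm, if_neg hiq.symm, if_neg hir.symm, zero_add] at h3 h4
        split_ifs at h3 h4 with hr hq
        · exact hqr (hq.symm.trans hr)
        all_goals exact zero_ne_one (by first | exact h3 | exact h4)
      push Not at hout
      have hpq : ∀ {s t : Fin m}, s ≠ t → a = s → d + e a + e p = e s + e t → False := by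
        intro s t hst has h'
        subst has
        have h5 : d + e p = e t := by
          have := congrArg (fun z => z + e a) h'
          skip
          rw [show d + e a + e p + e a = d + e p + (e a + e a) by abel, show e a + e t + e a = e t + (e a + e a) by abel,
            hS.two, add_zero, add_zero] at this
          exact this
        by_cases hpt : p = t
        · subst hpt
          exact hS.ne_zero hd (by simpa using h5)
        refine hnd t p (Ne.symm hpt) ?_
        rw [← h5, add_assoc, hS.two, add_zero]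
      rw [hN] at h
      by_cases hap : a = p
      · subst hap; exact hnd q r hqr (by rw [← h]; exact hself.symm)
      by_cases haq : a = q
      · exact hpq hqr haq h
      · exact hpq hqr.symm (hout a hap haq) (h.trans (add_comm _ _))
    have hold : ∀ (q r : Fin m), Fin.castSucc q ≠ Fin.castSucc r → q ≠ r := fun q r h e => h (e ▸ rfl)
    induction i using Fin.lastCases <;> induction j using Fin.lastCases <;> induction k using Fin.lastCases <;>
      induction l using Fin.lastCases <;> intro h1 h2 he <;>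
      first
      | exact absurd rfl h1 | exact absurd rfl h2
      | (rw [hlast, hlast] at he; exact Or.inl ⟨rfl, congrArg Fin.castSucc (hNinj _ _ he)⟩)
      | (rw [hlast, hlast'] at he; exact Or.inr ⟨rfl, congrArg Fin.castSucc (hNinj _ _ he)⟩)
      | (rw [hlast', hlast] at he; exact Or.inr ⟨congrArg Fin.castSucc (hNinj _ _ he), rfl⟩)
      | (rw [hlast', hlast'] at he; exact Or.inl ⟨congrArg Fin.castSucc (hNinj _ _ he), rfl⟩)
      | (rw [hlast, hec, hec] at he; exact absurd he (hmix _ _ _ (hold _ _ h2)))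
      | (rw [hlast', hec, hec] at he; exact absurd he (hmix _ _ _ (hold _ _ h2)))
      | (rw [hlast, hec, hec] at he; exact absurd he.symm (hmix _ _ _ (hold _ _ h1)))
      | (rw [hlast', hec, hec] at he; exact absurd he.symm (hmix _ _ _ (hold _ _ h1)))
      | (rw [hec, hec, hec, hec] at he
         rcases hs.inj _ _ _ _ (hold _ _ h1) (hold _ _ h2) he with ⟨e1, e2⟩ | ⟨e1, e2⟩
         · exact Or.inl ⟨congrArg _ e1, congrArg _ e2⟩
         · exact Or.inr ⟨congrArg _ e1, congrArg _ e2⟩)

/-- An element outside a star is orthogonal to it or extends it. -/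
theorem dichotomy (hm : 3 ≤ m) {d : U} (hd : d ∈ D) (hnd : ∀ i j, i ≠ j → d ≠ e i + e j) :
    (∀ i j, Φ d (e i + e j) = 0) ∨ ∃ a, ∀ k l, Φ d (e k + e l) = dl a k + dl a l := by
  classical
  haveI : NeZero m := ⟨by omega⟩
  obtain ⟨f, hf⟩ : ∃ f : Fin m → ZMod 2, f = fun i => Φ d (e i + e 0) := ⟨_, rfl⟩
  have hff : ∀ k l, Φ d (e k + e l) = f k + f l := fun k l => by
    rw [hS.pair_split e k l 0, map_add, hf, add_comm (e 0) (e l)]
  by_cases hconst : ∀ i j, f i = f j
  · exact Or.inl fun i j => by rw [hff, hconst i j, zmod2_add_self]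
  push Not at hconst
  obtain ⟨x, z, hxz⟩ := hconst
  by_cases ha : ∃ a, ∀ i, i ≠ a → f i ≠ f a
  · obtain ⟨a, ha⟩ := ha
    refine Or.inr ⟨a, fun k l => ?_⟩
    have hsplit : ∀ i, f i = f a + 1 + dl a i := fun i => by
      by_cases h : i = a
      · subst h; simp [dl]; rw [add_assoc]; exact (add_eq_left.2 (by decide)).symm
      · have h2 := zmod2_ne (ha i h)
        simp only [dl, if_neg (Ne.symm h), add_zero]
        rw [← h2, add_comm (f i), ← add_assoc, zmod2_add_self, zero_add]
    rw [hff, hsplit k, hsplit l,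
      show f a + 1 + dl a k + (f a + 1 + dl a l) = dl a k + dl a l + (f a + f a) + (1 + 1) by abel,
      zmod2_add_self, zmod2_add_self, add_zero, add_zero]
  exfalso
  push Not at ha
  obtain ⟨y, hyx, hy⟩ := ha x
  obtain ⟨w, hwz, hw⟩ := ha z
  have hxz' : x ≠ z := fun h => hxz (h ▸ rfl)
  have hxw : x ≠ w := fun h => hxz (by rw [h, hw])
  have hyz : y ≠ z := fun h => hxz (by rw [← hy, h])
  have hyw : y ≠ w := fun h => hxz (by rw [← hy, h, hw])
  have hxz1 : Φ d (e x + e z) = 1 := by rw [hff]; exact zmod2_ne hxz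
  have hyw1 : Φ d (e y + e w) = 1 := by rw [hff, hy, hw]; exact zmod2_ne hxz
  obtain ⟨hd1, hd1v⟩ := hS.add d hd _ (hs.mem x z hxz') hxz1
  have h12 : Φ (d + (e x + e z)) (e y + e w) = 1 := by
    rw [hd1v, hyw1, hs.gram x z hxz']; simp [dl, hyx.symm, hxw, hyz.symm, hwz.symm]
  obtain ⟨hd2, hd2v⟩ := hS.add _ hd1 _ (hs.mem y w hyw) h12
  obtain ⟨d', hd'⟩ : ∃ d', d' = d + (e x + e z) + (e y + e w) := ⟨_, rfl⟩
  rw [← hd'] at hd2 hd2v
  have hd'v : ∀ v, Φ d' v = Φ d v + Φ (e x + e z) v + Φ (e y + e w) v := fun v => by rw [hd2v, hd1v]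
  obtain ⟨P, hP⟩ : ∃ P, P = e x + e y := ⟨_, rfl⟩
  obtain ⟨Q, hQ⟩ : ∃ Q, Q = e z + e w := ⟨_, rfl⟩
  have hPD : P ∈ D := hP ▸ hs.mem x y hyx.symm
  have hQD : Q ∈ D := hQ ▸ hs.mem z w hwz.symm
  have hsum : d' = d + (P + Q) := by rw [hd', hP, hQ]; abel
  have hdP : Φ d P = 0 := by rw [hP, hff, hy, zmod2_add_self]
  have hdQ : Φ d Q = 0 := by rw [hQ, hff, hw, zmod2_add_self]
  have hPQ : Φ P Q = 0 := by
    rw [hP, hQ, hs.gram x y hyx.symm]; simp [dl, hxz', hyz, hxw, hyw]
  have hd'P : Φ d' P = 0 := by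
    rw [hd'v, hdP, hP, hs.gram x z hxz', hs.gram y w hyw]
    simp [dl, hyx, hyx.symm, hxz'.symm, hyz.symm, hxw.symm, hyw.symm]; decide
  have hd'Q : Φ d' Q = 0 := by
    rw [hd'v, hdQ, hQ, hs.gram x z hxz', hs.gram y w hyw]
    simp [dl, hwz, hwz.symm, hxz', hyz, hxw, hyw]; decide
  have hdd' : Φ d d' = 0 := by rw [hsum, map_add, map_add, hS.self d hd, hdP, hdQ]; simp
  have hdPne : d ≠ P := hP ▸ hnd x y hyx.symm
  have hdQne : d ≠ Q := hQ ▸ hnd z w hwz.symm
  have hPQne : P ≠ Q := fun h => by
    rcases hs.inj x y z w hyx.symm hwz.symm (hP ▸ hQ ▸ h) with ⟨h', -⟩ | ⟨h', -⟩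
    exacts [hxz' h', hxw h']
  have hd'd : d ≠ d' := fun h => hPQne <| by
    rw [hsum, left_eq_add] at h
    exact (eq_neg_of_add_eq_zero_left h).trans (neg_eq_iff_add_eq_zero.2 (hS.two Q))
  have hd'P' : d' ≠ P := fun h => hdQne <| by
    calc d = d + (P + P) + (Q + Q) := by rw [hS.two, hS.two, add_zero, add_zero]
      _ = d + (P + Q) + P + Q := by abel
      _ = Q := by rw [← hsum, h, hS.two, zero_add]
  have hd'Q' : d' ≠ Q := fun h => hdPne <| by
    calc d = d + (P + P) + (Q + Q) := by rw [hS.two, hS.two, add_zero, add_zero]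
      _ = d + (P + Q) + Q + P := by abel
      _ = P := by rw [← hsum, h, hS.two, zero_add]
  refine hS.indep {d, P, d', Q} ⟨d, by simp⟩ ?_ ?_ ?_
  · intro u hu
    simp only [Finset.mem_insert, Finset.mem_singleton] at hu
    rcases hu with rfl | rfl | rfl | rfl <;> assumption
  · intro u hu v hv
    simp only [Finset.mem_insert, Finset.mem_singleton] at hu hv
    rcases hu with rfl | rfl | rfl | rfl <;> rcases hv with rfl | rfl | rfl | rfl <;>
      first
      | exact hS.self _ (by assumption) | assumption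
      | (rw [hS.symm _ (by assumption) _ (by assumption)]; assumption)
  · rw [Finset.sum_insert (by simp [hdPne, hd'd, hdQne]), Finset.sum_insert (by simp [hd'P'.symm, hPQne]),
      Finset.sum_insert (by simp [hd'Q']), Finset.sum_singleton, hsum]
    calc d + (P + (d + (P + Q) + Q)) = (d + d) + (P + P) + (Q + Q) := by abel
      _ = 0 := by simp [hS.two]

end Star

/-- Every adjacent pair lies in a closed star. -/
theorem Sys.exists_closed_star [Finite U] (hS : Sys D Φ) {a b : U} (ha : a ∈ D) (hb : b ∈ D) (hab : Φ a b = 1) :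
    ∃ (m : ℕ) (e : Fin m → U), Star D Φ e ∧ 3 ≤ m ∧ (∃ i j, i ≠ j ∧ a = e i + e j) ∧
      ∀ d ∈ D, (∃ i j, i ≠ j ∧ d = e i + e j) ∨ ∀ i j, Φ d (e i + e j) = 0 := by
  suffices ∀ k, ∀ (m : ℕ) (e : Fin m → U), Star D Φ e → 3 ≤ m → (∃ i j, i ≠ j ∧ a = e i + e j) →
      Nat.card U ≤ m + k → ∃ (m : ℕ) (e : Fin m → U), Star D Φ e ∧ 3 ≤ m ∧ (∃ i j, i ≠ j ∧ a = e i + e j) ∧
        ∀ d ∈ D, (∃ i j, i ≠ j ∧ d = e i + e j) ∨ ∀ i j, Φ d (e i + e j) = 0 from
    this (Nat.card U) 3 _ (hS.star_three ha hb hab) le_rfl ⟨0, 1, by decide, by simp⟩ (by omega)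
  intro k
  induction k with
  | zero =>
    intro m e hs hm ha' hle
    refine ⟨m, e, hs, hm, ha', fun d hd => ?_⟩
    by_contra hcon
    push Not at hcon
    obtain ⟨hnd, hne⟩ := hcon
    rcases hs.dichotomy hS hm hd hnd with h | ⟨c, hc⟩
    · obtain ⟨i, j, hij⟩ := hne; exact hij (h i j)
    · have h2 := Nat.card_le_card_of_injective _ ((hs.extend hS hm hd hnd hc).injective hS)
      rw [Nat.card_fin] at h2
      omega
  | succ k ih =>
    intro m e hs hm ha' hle
    by_cases hcl : ∀ d ∈ D, (∃ i j, i ≠ j ∧ d = e i + e j) ∨ ∀ i j, Φ d (e i + e j) = 0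
    · exact ⟨m, e, hs, hm, ha', hcl⟩
    push Not at hcl
    obtain ⟨d, hd, hnd, hne⟩ := hcl
    rcases hs.dichotomy hS hm hd hnd with h | ⟨c, hc⟩
    · obtain ⟨i, j, hij⟩ := hne; exact absurd (h i j) hij
    · obtain ⟨i, j, hij, hae⟩ := ha'
      exact ih (m + 1) _ (hs.extend hS hm hd hnd hc) (by omega)
        ⟨Fin.castSucc i, Fin.castSucc j, fun h => hij (Fin.castSucc_injective m h),
          by rw [Fin.snoc_castSucc, Fin.snoc_castSucc]; exact hae⟩ (by omega)

end CfsgLib.LocalEven.PMinFF
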