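import Cfsg.Agent.Lib.LocalEven.PMinFF.Atoms

/-!
# Atoms have equal orders and are conjugate within normal subgroups

A smaller atom in `T` would centralise every pair, hence the normal subgroup that covers `P` over `T`.
-/

set_option autoImplicit false
set_option linter.all false

namespace CfsgLib.LocalEven.PMinFF

open Subgroup CfsgLib.LocalEven.OffSL2

variable {P : Type*} [Group P] [Finite P] {p : ℕ} [Fact p.Prime]
variable {U : Type*} [AddCommGroup U] [Finite U]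
variable {act : P →* AddMonoid.End U} {T M : Subgroup P} {y : U} {q : ℕ}

variable (hP : PMod p act T M y)
include hP

/-- A subgroup covering `P` over `T` has no nontrivial `p`-group centralising it. -/
theorem eq_bot_of_central {N Y : Subgroup P} (hTn : T ≤ normalizer (N : Set P)) (hN : N ⊔ T = ⊤) (hY : IsPGroup p Y)
    (hc : ∀ a ∈ Y, ∀ n ∈ N, a * n = n * a) : Y = ⊥ := by
  have hdec : ∀ g : P, ∃ t ∈ T, cj g Y = cj t Y := fun g => by
    have hg : g ∈ T ⊔ N := by rw [sup_comm, hN]; exact mem_top g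
    rw [← SetLike.mem_coe, coe_mul_of_left_le_normalizer_right T N hTn] at hg
    obtain ⟨t, ht, n, hn, rfl⟩ := hg
    refine ⟨t, ht, ?_⟩
    have h1 : cj n Y = Y := cj_eq_self (mem_normalizer_of_conj fun a ha => by
      rw [← hc a ha n hn, mul_inv_cancel_right]; exact ha)
    show cj (t * n) Y = cj t Y
    rw [← cj_cj, h1]
  obtain ⟨k, hk⟩ := exists_into_T hP hY
  obtain ⟨t, ht, he⟩ := hdec k
  rw [he] at hk
  have hYT : Y ≤ T := fun a ha => by
    have := T.mul_mem (T.mul_mem (T.inv_mem ht) (hk (conj_mem_cj ha))) ht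
    simpa [mul_assoc] using this
  obtain ⟨K, hK⟩ : ∃ K, K = sSup (Set.range fun g : P => cj g Y) := ⟨_, rfl⟩
  have hKT : K ≤ T := by
    rw [hK]
    refine sSup_le ?_
    rintro _ ⟨g, rfl⟩
    obtain ⟨s, hs, he'⟩ := hdec g
    exact he'.le.trans (cj_le_of_mem hs hYT)
  have hbot := hP.nop K (hP.syl.pgr.to_le hKT) fun g n hn => by
    have : K ≤ K.comap (MulAut.conj g).toMonoidHom := by
      conv_lhs => rw [hK]
      refine sSup_le ?_
      rintro _ ⟨x, rfl⟩
      refine map_le_iff_le_comap.1 ?_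
      rw [hK]
      exact le_sSup_of_le ⟨g * x, rfl⟩ (cj_cj g x Y).le
    exact this hn
  exact le_bot_iff.1 (hbot ▸ hK ▸ le_sSup ⟨1, cj_one Y⟩)

/-- A normal subgroup with a nontrivial `p`-subgroup covers `P` over `T`. -/
theorem normal_sup_top {N X : Subgroup P} (hN : ∀ g : P, ∀ n ∈ N, g * n * g⁻¹ ∈ N) (hX : IsPGroup p X)
    (hXN : X ≤ N) (hne : X ≠ ⊥) : N ⊔ T = ⊤ := by
  by_contra htop
  have hNM : N ≤ M := le_sup_left.trans (hP.pmin _ le_sup_right htop)
  have hcjN : ∀ g : P, ∀ S ≤ N, cj g S ≤ N := fun g S hS => cj_le.2 fun a ha => hN g a (hS ha)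
  obtain ⟨S0, hS0⟩ : ∃ S0, S0 = T ⊓ N := ⟨_, rfl⟩
  have hmax : MaxP p S0 N := by
    refine ⟨hS0 ▸ inf_le_right, hP.syl.pgr.to_le (hS0 ▸ inf_le_left), fun S h1 h2 h3 => ?_⟩
    obtain ⟨k, hk⟩ := exists_into_T hP h3
    exact (eq_of_le_of_card_ge h1 ((card_cj k S).ge.trans (card_le_of_le (hS0 ▸ le_inf hk (hcjN k S h2))))).symm
  have hTn : T ≤ normalizer (S0 : Set P) := fun t ht => mem_normalizer_of_conj fun a ha => by
    rw [hS0] at ha ⊢
    exact ⟨T.mul_mem (T.mul_mem ht ha.1) (T.inv_mem ht), hN t a ha.2⟩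
  by_cases hnorm : normalizer (S0 : Set P) = ⊤
  · have h0 := hP.nop S0 hmax.pgr fun g n hn => (mem_normalizer_iff.1 (hnorm.ge (mem_top g)) n).1 hn
    obtain ⟨k, hk⟩ := exists_into_T hP hX
    refine hne ((map_eq_bot_iff_of_injective (f := (MulAut.conj k).toMonoidHom) _ (MulAut.conj k).injective).1 (le_bot_iff.1 ?_))
    rw [← h0, hS0]
    exact le_inf hk (hcjN k X hXN)
  have hM := hP.pmin _ hTn hnorm
  refine hP.Mne (eq_top_iff.2 fun g _ => ?_)
  obtain ⟨n, hn, hle⟩ := hmax.exists_conj (isPGroup_cj (x := g) hmax.pgr) (hcjN g S0 hmax.le)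
  rw [cj_cj] at hle
  have := M.mul_mem (M.inv_mem (hNM hn)) (hM (mem_normalizer_of_conj (cj_le.1 hle) : n * g ∈ _))
  simpa [← mul_assoc] using this

/-- In `T` a smaller atom normalises a larger one. -/
theorem smaller_normalizes {X Y : Subgroup P} (hX : Atom p act X) (hY : Atom p act Y)
    (hcard : Nat.card Y ≤ Nat.card X) (hXT : X ≤ T) (hYT : Y ≤ T) : ∀ s ∈ Y, cj s X = X := by
  intro s hs
  by_contra hne
  obtain ⟨X', hX'def⟩ : ∃ X', X' = cj s X := ⟨_, rfl⟩
  have hX' : Atom p act X' := hX'def ▸ hX.cj s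
  have hX'T : X' ≤ T := hX'def ▸ cj_le_of_mem (hYT hs) hXT
  rw [← hX'def] at hne
  have hcX : Nat.card X = Nat.card X' := by rw [hX'def, card_cj]
  have hcomm := atoms_commute hP hX hX' hcX hXT hX'T
  obtain ⟨-, -, h3⟩ := hX.toExact.sup_inf hP hX'.toExact hcomm
  rw [hX.inf_eq_bot hP hX' hcomm (Ne.symm hne), fix_bot] at h3
  have hqX := hX.quad hP
  obtain ⟨K0, hK0⟩ : ∃ K0, K0 = fix act X ⊓ fix act X' := ⟨_, rfl⟩
  have hsK : fix act X ⊓ fix act Y ≤ K0 := fun v hv => hK0 ▸ ⟨hv.1, hX'def ▸ (mem_fix_conj act).2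
    (by rw [hv.2 _ (Y.inv_mem hs)]; exact hv.1)⟩
  have hfix : K0 ≤ fix act X ⊓ fix act Y := by
    have q1 := card_sup_mul_inf (fix act X) (fix act X')
    rw [← h3, AddSubgroup.card_top, ← hK0] at q1
    have q2 := card_sup_mul_inf (fix act X) (fix act Y)
    have q3 : Nat.card ↥(fix act X ⊔ fix act Y) ≤ Nat.card U :=
      Nat.card_le_card_of_injective _ (AddSubgroup.subtype_injective _)
    have hfY : Nat.card (fix act X') ≤ Nat.card (fix act Y) := by
      have h1 := hY.eq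
      have h2 := hX'.eq
      rw [meas] at h1 h2
      rw [← hcX] at h2
      refine Nat.le_of_mul_le_mul_left ?_ (Nat.card_pos : 0 < Nat.card X)
      rw [h2, ← h1]
      exact Nat.mul_le_mul_right _ hcard
    refine (add_eq_of_card hsK (Nat.le_of_mul_le_mul_left ?_ (Nat.card_pos : 0 < Nat.card U))).ge
    rw [q1]
    exact (Nat.mul_le_mul_left _ hfY).trans (q2.ge.trans (Nat.mul_le_mul_right _ q3))
  obtain ⟨x, hx, hx1⟩ := (Subgroup.bot_or_exists_ne_one X).resolve_left hX.ne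
  obtain ⟨u, hu⟩ : ∃ u, act x u ≠ u := by
    by_contra hall
    push Not at hall
    exact hx1 (hP.inj (by rw [map_one]; exact AddMonoidHom.ext hall))
  obtain ⟨d, hd⟩ : ∃ d, d = act x u - u := ⟨_, rfl⟩
  have hdK : d ∈ K0 := by
    rw [hK0]
    refine ⟨hd ▸ hqX x hx u, ?_⟩
    obtain ⟨c1, hc1, c2, hc2, e⟩ := AddSubgroup.mem_sup.1 (h3 ▸ AddSubgroup.mem_top u : u ∈ fix act X ⊔ fix act X')
    have e2 : d = act x c2 - c2 := by rw [hd, ← e, map_add, hc1 x hx]; abel
    intro z hz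
    rw [e2, map_sub, hc2 z hz, ← OffSL2.act_mul, ← hcomm x hx z hz, OffSL2.act_mul, hc2 z hz]
  have hx' : s * x * s⁻¹ ∈ X' := hX'def ▸ conj_mem_cj hx
  have hd' : d = act (s * x * s⁻¹) (act s u) - act s u := by
    rw [← OffSL2.act_mul, show s * x * s⁻¹ * s = s * x by group, OffSL2.act_mul, ← map_sub, ← hd, (hfix hdK).2 s hs]
  obtain ⟨hE, hq⟩ := exact_sSup hP (S := {X, X'}) (by rintro Z (rfl | rfl) <;> assumption)
    (by
      rintro Z (rfl | rfl) Z' (rfl | rfl)
      · exact hX.el.comm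
      · exact hcomm
      · exact fun a ha b hb => (hcomm b hb a ha).symm
      · exact hX'.el.comm)
  obtain ⟨B, hB, E0, g, hsp⟩ := exists_split hP (S := {X, X'}) (by rintro Z (rfl | rfl) <;> assumption) hE hq
    ⟨X, Or.inl rfl⟩ (sSup_le (by rintro Z (rfl | rfl); exacts [hXT, hX'T]))
  rcases hB with rfl | rfl
  · have hle := hsp.atom_le hP hE hX hX' (le_sSup (Or.inr rfl)) hne
    exact hu (hsp.sep x hx hx1 u (hd ▸ hd' ▸ hsp.c0 _ (hle hx') _))
  · have hle := hsp.atom_le hP hE hX' hX (le_sSup (Or.inl rfl)) (Ne.symm hne)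
    have h5 := hsp.sep _ hx' (fun e => hx1 (conj_eq_one_iff.1 e)) (act s u) (hd' ▸ hd ▸ hsp.c0 x (hle hx) u)
    rw [← sub_eq_zero, ← hd', hd, sub_eq_zero] at h5
    exact hu h5

/-- A smaller atom in `T` centralises each pair. -/
theorem small_central {L : Subgroup P → Subgroup P} (hL : Pairs p act T M q L) (hq : 3 ≤ q) {B : Subgroup P}
    (hB : B ∈ sig p act T q) {Y : Subgroup P} (hY : Atom p act Y) (hYT : Y ≤ T) (hlt : Nat.card Y < q) :
    ∀ a ∈ Y, ∀ l ∈ L B, a * l = l * a := by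
  intro a ha
  by_cases ha1 : a = 1
  · intro l _; rw [ha1, one_mul, mul_one]
  have hnB : cj a B = B := smaller_normalizes hP hB.1.1 hY (hB.1.2 ▸ hlt.le) hB.2 hYT a ha
  have hcf : Nat.card (fix act B) < Nat.card (fix act Y) := by
    have h1 := hB.1.1.eq
    have h2 := hY.eq
    rw [meas] at h1 h2
    rw [hB.1.2] at h1
    refine lt_of_not_ge fun hge => ?_
    have h3 : Nat.card Y * Nat.card (fix act Y) < q * Nat.card (fix act B) :=
      lt_of_lt_of_le (Nat.mul_lt_mul_of_pos_right hlt Nat.card_pos) (Nat.mul_le_mul_left _ hge)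
    omega
  obtain ⟨w, hw, hwB⟩ : ∃ w ∈ fix act Y, w ∉ fix act B := by
    by_contra hall
    push Not at hall
    exact absurd (Nat.card_le_card_of_injective _ (AddSubgroup.inclusion_injective hall)) (not_le.2 hcf)
  obtain ⟨l, hl, hwl⟩ := (hL.pair B hB).cover w
  have hlB : cj l B ≠ B := fun e => hwB (e ▸ hwl)
  obtain ⟨hd, hfL⟩ := (hL.pair B hB).duo hP hB.1.1 hl hlB
  obtain ⟨m, hm, hme, hmB⟩ := hL.stable hP hq hB hnB hl hlB
  have hnB1 : cj a (cj l B) = cj l B := by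
    by_contra hne
    refine hwB ?_
    have h1 : w ∈ fix act (cj m B) := by
      rw [hme, ← hw a ha]
      exact act_fix_cj hwl
    refine fix_anti act (hL.pair B hB).le ?_
    rw [← (hL.pair B hB).eq_sSup hm hl (fun e => hne (hme.symm.trans e)), fix_sup]
    exact ⟨h1, hwl⟩
  obtain ⟨Z, hZ⟩ : ∃ Z, Z = fix act B ⊓ fix act (cj l B) := ⟨_, rfl⟩
  have hzs : ∀ {k : P} {X : Subgroup P}, cj k X = X → ∀ u ∈ fix act X, act k u ∈ fix act X := fun {k X} hk u hu => by
    have := act_fix_cj (k := k) hu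
    rwa [hk] at this
  have hcomm : ∀ b ∈ B, a * b = b * a := by
    intro b hb
    by_contra hne
    obtain ⟨e, he⟩ : ∃ e, e = a * b * a⁻¹ := ⟨_, rfl⟩
    have heB : e ∈ B := he ▸ hnB.le (conj_mem_cj hb)
    have hae : a * b = e * a := by rw [he]; group
    obtain ⟨G', hG'⟩ : ∃ G', G' = Z.comap (dif (act a)) := ⟨_, rfl⟩
    have hG'mem : ∀ u, u ∈ G' ↔ act a u - u ∈ Z := fun u => by rw [hG']; rfl
    obtain ⟨G0, hG0⟩ : ∃ G0, G0 = G' ⊓ fix act B := ⟨_, rfl⟩
    obtain ⟨G1, hG1⟩ : ∃ G1, G1 = G' ⊓ fix act (cj l B) := ⟨_, rfl⟩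
    have hZG : Z ≤ G' := fun u hu => (hG'mem u).2 (sub_mem (by
      rw [hZ] at hu ⊢; exact AddSubgroup.mem_inf.2 ⟨hzs hnB u hu.1, hzs hnB1 u hu.2⟩) hu)
    have hfull : G0 ⊔ G1 = G' := by
      refine le_antisymm (hG0 ▸ hG1 ▸ sup_le inf_le_left inf_le_left) fun u hu => ?_
      obtain ⟨x, hx, v, hv, rfl⟩ := AddSubgroup.mem_sup.1 (hd.top ▸ AddSubgroup.mem_top u)
      have h1 := (hG'mem _).1 hu
      rw [hZ, show act a (x + v) - (x + v) = (act a x - x) + (act a v - v) by rw [map_add]; abel] at h1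
      obtain ⟨h2, h3⟩ := AddSubgroup.mem_inf.1 h1
      have hx1 := sub_mem (hzs hnB x hx) hx
      have hv1 := sub_mem (hzs hnB1 v hv) hv
      refine AddSubgroup.add_mem_sup (hG0 ▸ AddSubgroup.mem_inf.2 ⟨(hG'mem x).2 ?_, hx⟩)
        (hG1 ▸ AddSubgroup.mem_inf.2 ⟨(hG'mem v).2 ?_, hv⟩)
      · rw [hZ]; exact AddSubgroup.mem_inf.2 ⟨hx1, (add_mem_cancel_right hv1).1 h3⟩
      · rw [hZ]; exact AddSubgroup.mem_inf.2 ⟨(add_mem_cancel_left hx1).1 h2, hv1⟩
    obtain ⟨I, hI⟩ : ∃ I, I = G1.map (dif (act b)) := ⟨_, rfl⟩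
    have hdisj : ∀ v ∈ G1, act b v - v ∈ G0 → v ∈ Z := by
      intro v hv hbv
      rw [hG1] at hv
      rw [hZ]
      refine ⟨?_, hv.2⟩
      by_contra hvB
      refine hne (hae.trans (congrArg (· * a) (hd.inj hP hv.2 hvB heB hb ?_)))
      obtain ⟨z, hz⟩ : ∃ z, z = act a v - v := ⟨_, rfl⟩
      have hzZ : z ∈ Z := hz ▸ (hG'mem v).1 hv.1
      rw [hG0] at hbv
      have h1 := (hG'mem _).1 hbv.1
      rw [hZ] at hzZ h1
      have e2 : act e v - act b v = (act a (act b v - v) - (act b v - v)) := by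
        rw [map_sub, ← OffSL2.act_mul act a b, hae, OffSL2.act_mul, eq_add_of_sub_eq hz.symm, map_add,
          hzZ.1 e heB]
        abel
      rw [e2]
      exact h1.2
    have hIB : I ≤ fix act B := by
      rw [hI]
      rintro _ ⟨v, -, rfl⟩
      exact hB.1.1.quad hP b hb v
    have hI0 : I ⊓ G0 = ⊥ := by
      rw [eq_bot_iff]
      rintro x ⟨hxI, hx0⟩
      rw [hI] at hxI
      obtain ⟨v, hv, rfl⟩ := hxI
      have h1 := hdisj v hv hx0
      rw [hZ] at h1
      exact AddSubgroup.mem_bot.2 (show act b v - v = 0 by rw [h1.1 b hb, sub_self])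
    have hG1I : Nat.card G1 ≤ Nat.card I * Nat.card Z := by
      let f : G1 →+ U := (dif (act b)).comp G1.subtype
      rw [AddSubgroup.card_eq_card_quotient_mul_card_addSubgroup f.ker,
        Nat.card_congr (QuotientAddGroup.quotientKerEquivRange f).toEquiv,
        show f.range = I by rw [hI, AddMonoidHom.range_comp, AddSubgroup.range_subtype]]
      refine Nat.mul_le_mul_left _ (Nat.card_le_card_of_injective (fun v : f.ker => (⟨(v : G1), ?_⟩ : Z))
        fun v v' h => Subtype.ext (Subtype.ext (congrArg Subtype.val h :)))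
      have h0 : act b ((v : G1) : U) - ((v : G1) : U) = 0 := v.2
      exact hdisj _ (v : G1).2 (by rw [h0]; exact zero_mem _)
    have p1 := card_sup_mul_inf I G0
    rw [hI0, AddSubgroup.card_bot, mul_one] at p1
    have p2 := card_sup_mul_inf G0 G1
    have hinf : G0 ⊓ G1 = Z := by
      rw [hG0, hG1, hZ]
      rw [hZ] at hZG
      exact le_antisymm (le_inf (inf_le_left.trans inf_le_right) (inf_le_right.trans inf_le_right))
        (le_inf (le_inf hZG inf_le_left) (le_inf hZG inf_le_right))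
    rw [hfull, hinf] at p2
    have h4 : Nat.card G' * Nat.card Z ≤ Nat.card (fix act B) * Nat.card Z := by
      rw [p2]
      calc Nat.card G0 * Nat.card G1 ≤ Nat.card G0 * (Nat.card I * Nat.card Z) := Nat.mul_le_mul_left _ hG1I
        _ = Nat.card ↥(I ⊔ G0) * Nat.card Z := by rw [p1]; ring
        _ ≤ _ := Nat.mul_le_mul_right _ (Nat.card_le_card_of_injective _
          (AddSubgroup.inclusion_injective (sup_le hIB (hG0 ▸ inf_le_right))))
    have h5 : fix act Y ≤ G' := fun u hu => (hG'mem u).2 (by rw [hu a ha, sub_self]; exact zero_mem _)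
    have h6 := (Nat.card_le_card_of_injective _ (AddSubgroup.inclusion_injective h5)).trans
      (Nat.le_of_mul_le_mul_right h4 Nat.card_pos)
    omega
  obtain ⟨hc1, -⟩ := hd.central hP (hY.el.isPGroup.to_le (zpowers_le.2 ha))
    (fun k hk b hb => by
      obtain ⟨n, rfl⟩ := hk
      exact (Commute.zpow_left (show Commute a b from hcomm b hb) n).eq)
    (fun k hk => cj_eq_self ((zpowers_le.2 (mem_normalizer_of_conj (cj_le.1 hnB1.le))) hk))
  intro x hx
  have hgen : B ⊔ cj l B ≤ Subgroup.centralizer {a} := sup_le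
    (fun b hb => mem_centralizer_singleton_iff.2 (hcomm b hb).symm)
    (fun b hb => mem_centralizer_singleton_iff.2 (hc1 a (mem_zpowers a) b hb).symm)
  rw [(hL.pair B hB).gen2 l hl hlB] at hgen
  exact (mem_centralizer_singleton_iff.1 (hgen hx)).symm

/-- All atoms have the same order. -/
theorem atom_card_eq {X Y : Subgroup P} (hX : Atom p act X) (hY : Atom p act Y) : Nat.card X = Nat.card Y := by
  suffices ∀ {X Y : Subgroup P}, Atom p act X → Atom p act Y → ¬ Nat.card Y < Nat.card X from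
    le_antisymm (not_lt.1 (this hX hY)) (not_lt.1 (this hY hX))
  intro X Y hX hY hlt
  have hY1 : 1 < Nat.card Y := Subgroup.one_lt_card_iff_ne_bot Y |>.2 hY.ne
  obtain ⟨q, hq⟩ : ∃ q, q = Nat.card X := ⟨_, rfl⟩
  rw [← hq] at hlt
  have hq3 : 3 ≤ q := by omega
  obtain ⟨k, hk⟩ := exists_into_T hP hX.el.isPGroup
  obtain ⟨k', hk'⟩ := exists_into_T hP hY.el.isPGroup
  have hXs : cj k X ∈ sig p act T q := ⟨⟨hX.cj k, (card_cj k X).trans hq.symm⟩, hk⟩
  obtain ⟨bl, hbl, ⟨E0, hE0⟩, -⟩ := big_blocks hP hq3 ⟨_, hXs⟩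
  obtain ⟨L, hL⟩ := exists_pairs (q := q) hP
  obtain ⟨N, hN⟩ : ∃ N, N = sSup {Z | AtQ p act q Z} := ⟨_, rfl⟩
  have hTn : T ≤ normalizer (N : Set P) := fun t ht => mem_normalizer_of_conj fun n hn => by
    have : N ≤ N.comap (MulAut.conj t).toMonoidHom := by
      conv_lhs => rw [hN]
      refine sSup_le fun Z hZ => ?_
      refine map_le_iff_le_comap.1 ?_
      rw [hN]
      exact le_sSup (show AtQ p act q (cj t Z) from hZ.cj t)
    exact this hn
  have hNT : N ⊔ T = ⊤ := eq_top_iff.2 ((hbl.sup_top hP hE0).ge.trans (sup_le_sup_right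
    (sSup_le fun E hE => (hbl.gen E hE).trans (hN ▸ sSup_le_sSup fun Z hZ => hZ.1)) T))
  refine (hY.cj k').ne (eq_bot_of_central hP hTn hNT (hY.cj k').el.isPGroup fun a ha n hn => ?_)
  have hle : N ≤ Subgroup.centralizer {a} := by
    rw [hN]
    refine sSup_le fun Z hZ z hz => mem_centralizer_singleton_iff.2 ?_
    obtain ⟨B, hB, l, hl, rfl⟩ := exists_mem_pairs hP hL hq3 hZ
    exact (small_central hP hL hq3 hB (hY.cj k') hk' (by rw [card_cj]; exact hlt) a ha z
      (cj_le_of_mem hl (hL.pair B hB).le hz)).symm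
  exact (mem_centralizer_singleton_iff.1 (hle hn)).symm

/-- Atoms of equal order that do not commute are conjugate. -/
theorem conj_of_not_commute {X Y : Subgroup P} (hX : AtQ p act q X) (hY : AtQ p act q Y)
    (hnc : ¬ ∀ a ∈ X, ∀ b ∈ Y, a * b = b * a) : ∃ g, cj g X = Y := by
  by_cases hq : 3 ≤ q
  · obtain ⟨L, hL⟩ := exists_pairs (q := q) hP
    obtain ⟨B, hB, l, hl, rfl⟩ := exists_mem_pairs hP hL hq hX
    obtain ⟨D, hD, l', hl', rfl⟩ := exists_mem_pairs hP hL hq hY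
    by_cases hDB : D = B
    · subst hDB; exact ⟨l' * l⁻¹, by rw [cj_cj, inv_mul_cancel_right]⟩
    · exact absurd (pairs_commute hP hL hq hB hD hDB hl hl') hnc
  have h1 : 1 < q := hX.2 ▸ (Subgroup.one_lt_card_iff_ne_bot X |>.2 hX.1.ne)
  have h2 : q = 2 := by omega
  subst h2
  obtain ⟨n, hn⟩ := IsPGroup.iff_card.1 hX.1.el.isPGroup
  have hp : p = 2 := by
    rw [hX.2] at hn
    rcases n with _ | n
    · simp at hn
    · exact (Nat.prime_dvd_prime_iff_eq Fact.out Nat.prime_two).1 (hn.symm ▸ dvd_pow_self p (Nat.succ_ne_zero n))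
  subst hp
  obtain ⟨b, c, φ, hb, rfl⟩ := exists_tr hP hX
  obtain ⟨d, c', φ', hd, rfl⟩ := exists_tr hP hY
  rcases zmod2_cases (φ c') with h | h
  · refine absurd ?_ hnc
    rintro _ ⟨i, rfl⟩ _ ⟨j, rfl⟩
    exact (Commute.zpow_zpow (show Commute b d from (hb.rel hP hd h).2) i j).eq
  have h3 := hd.sum hP hb ((hd.symm hP hb).trans h)
  have h4 := hb.sum hP hd h
  rw [add_comm c' c] at h3
  have h5 : b * d * b⁻¹ = d * b * d⁻¹ := h4.eq_of_centre hP h3
  refine ⟨b⁻¹ * d, ?_⟩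
  rw [show cj (b⁻¹ * d) (zpowers b) = zpowers (b⁻¹ * d * b * (b⁻¹ * d)⁻¹) from MonoidHom.map_zpowers _ _]
  congr 1
  calc b⁻¹ * d * b * (b⁻¹ * d)⁻¹ = b⁻¹ * (d * b * d⁻¹) * b := by group
    _ = d := by rw [← h5]; group

/-- A normal subgroup containing a nontrivial exact subgroup contains every atom. -/
theorem atom_le_normal {N X Y : Subgroup P} (hN : ∀ g : P, ∀ n ∈ N, g * n * g⁻¹ ∈ N) (hX : Exact p act X)
    (hne : X ≠ ⊥) (hXN : X ≤ N) (hY : Atom p act Y) : Y ≤ N := by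
  by_contra hYN
  obtain ⟨N', hN'⟩ : ∃ N', N' = sSup {Z | Atom p act Z ∧ Z ≤ N} := ⟨_, rfl⟩
  have hn' : ∀ g : P, ∀ n ∈ N', g * n * g⁻¹ ∈ N' := fun g n hn => by
    have : N' ≤ N'.comap (MulAut.conj g).toMonoidHom := by
      conv_lhs => rw [hN']
      refine sSup_le fun Z hZ => ?_
      refine map_le_iff_le_comap.1 ?_
      rw [hN']
      exact le_sSup (show PMinFF.cj g Z ∈ {Z | Atom p act Z ∧ Z ≤ N} from
        ⟨hZ.1.cj g, cj_le.2 fun a ha => hN g a (hZ.2 ha)⟩)
    exact this hn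
  have hXN' : X ≤ N' := hN' ▸ (hX.le_atoms hP).trans (sSup_le_sSup fun Z hZ => ⟨hZ.1, hZ.2.trans hXN⟩)
  have htop := normal_sup_top hP hn' hX.el.isPGroup hXN' hne
  refine hY.ne (eq_bot_of_central hP (fun t ht => mem_normalizer_of_conj (hn' t)) htop hY.el.isPGroup
    fun a ha n hn => ?_)
  have hle : N' ≤ Subgroup.centralizer {a} := by
    rw [hN']
    refine sSup_le fun Z hZ z hz => mem_centralizer_singleton_iff.2 ?_
    by_contra hne'
    obtain ⟨g, hg⟩ := conj_of_not_commute hP (q := Nat.card Y) ⟨hZ.1, atom_card_eq hP hZ.1 hY⟩ ⟨hY, rfl⟩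
      fun hall => hne' (hall z hz a ha)
    exact hYN (hg ▸ cj_le.2 fun z hz => hN g z (hZ.2 hz))
  exact (mem_centralizer_singleton_iff.1 (hle hn)).symm

end CfsgLib.LocalEven.PMinFF
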