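import Cfsg.Agent.Lib.LocalEven.PMinFF.Cent
import Cfsg.Agent.Lib.LocalEven.OffenderSL2Main

/-!
# The `SL₂`-pair of an atom inside a candidate

In a smallest candidate marked by the atom `B` of the exact group `E`, the subgroup `L = ⟨B, B^g⟩` centralises
`E ∩ O_p` and acts on `U/C(L)` as `SL₂(|B|)` on its natural module. Hence the fixed spaces of the conjugates of
`B` in `L` cover `U`, and two distinct conjugates generate `L`.
-/

set_option autoImplicit false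
set_option linter.all false

namespace CfsgLib.LocalEven.PMinFF

open Subgroup Matrix CfsgLib.LocalEven.OffSL2

section SL2

variable {F : Type*} [Field F]

/-- The action on `F²`. -/
def mv (σ : SpecialLinearGroup (Fin 2) F) (v : Fin 2 → F) : Fin 2 → F := Matrix.mulVec (σ : Matrix (Fin 2) (Fin 2) F) v

theorem mv_mul (σ τ : SpecialLinearGroup (Fin 2) F) (v : Fin 2 → F) : mv (σ * τ) v = mv σ (mv τ v) :=
  (Matrix.mulVec_mulVec v (σ : Matrix (Fin 2) (Fin 2) F) (τ : Matrix (Fin 2) (Fin 2) F)).symm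

theorem mv_one (v : Fin 2 → F) : mv (1 : SpecialLinearGroup (Fin 2) F) v = v := Matrix.one_mulVec v

theorem mv_add (σ : SpecialLinearGroup (Fin 2) F) (v w : Fin 2 → F) : mv σ (v + w) = mv σ v + mv σ w :=
  Matrix.mulVec_add _ _ _

theorem mv_smul (σ : SpecialLinearGroup (Fin 2) F) (c : F) (v : Fin 2 → F) : mv σ (c • v) = c • mv σ v :=
  Matrix.mulVec_smul _ _ _

theorem mv_apply (σ : SpecialLinearGroup (Fin 2) F) (v : Fin 2 → F) (i : Fin 2) :
    mv σ v i = (σ : Matrix (Fin 2) (Fin 2) F) i 0 * v 0 + (σ : Matrix (Fin 2) (Fin 2) F) i 1 * v 1 := by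
  simp [mv, Matrix.mulVec, dotProduct, Fin.sum_univ_two]

theorem mv_inv_zero {σ : SpecialLinearGroup (Fin 2) F} {v : Fin 2 → F} (h : mv σ v = 0) : v = 0 := by
  rw [← mv_one v, ← inv_mul_cancel σ, mv_mul, h]
  exact Matrix.mulVec_zero _

theorem sl2_exists_mulVec {w : Fin 2 → F} (hw : w ≠ 0) :
    ∃ σ : SpecialLinearGroup (Fin 2) F, mv σ ![1, 0] = w := by
  by_cases h0 : w 0 = 0
  · have h1 : w 1 ≠ 0 := fun h1 => hw (funext fun i => by fin_cases i <;> assumption)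
    refine ⟨⟨!![0, -(w 1)⁻¹; w 1, 0], by simp [Matrix.det_fin_two, h1]⟩, funext fun i => ?_⟩
    show Matrix.mulVec (!![0, -(w 1)⁻¹; w 1, 0]) ![1, 0] i = w i
    fin_cases i <;> simp [Matrix.mulVec, dotProduct, Fin.sum_univ_two, h0]
  · refine ⟨⟨!![w 0, 0; w 1, (w 0)⁻¹], by simp [Matrix.det_fin_two, h0]⟩, funext fun i => ?_⟩
    show Matrix.mulVec (!![w 0, 0; w 1, (w 0)⁻¹]) ![1, 0] i = w i
    fin_cases i <;> simp [Matrix.mulVec, dotProduct, Fin.sum_univ_two]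

theorem sl2_stab {σ : SpecialLinearGroup (Fin 2) F} {w : Fin 2 → F} (hw : w ≠ 0)
    (hσ : mv σ w = w) (u : Fin 2 → F) :
    ∃ t : F, mv σ u = u + t • w ∧ (t = 0 → σ = 1 ∨ ∃ c : F, u = c • w) := by
  obtain ⟨τ, hτ⟩ := sl2_exists_mulVec hw
  obtain ⟨ρ, hρ⟩ : ∃ ρ, ρ = τ⁻¹ * σ * τ := ⟨_, rfl⟩
  have hσρ : σ = τ * ρ * τ⁻¹ := by rw [hρ]; group
  have hfix : mv ρ ![1, 0] = ![1, 0] := by
    rw [hρ, mv_mul, hτ, mv_mul, hσ, ← hτ, ← mv_mul, inv_mul_cancel, mv_one]
  have h00 : (ρ : Matrix (Fin 2) (Fin 2) F) 0 0 = 1 := by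
    simpa [mv_apply] using congrFun hfix 0
  have h10 : (ρ : Matrix (Fin 2) (Fin 2) F) 1 0 = 0 := by
    simpa [mv_apply] using congrFun hfix 1
  have h11 : (ρ : Matrix (Fin 2) (Fin 2) F) 1 1 = 1 := by
    have := ρ.2
    rw [Matrix.det_fin_two, h00, h10] at this
    simpa using this
  obtain ⟨u', hu'⟩ : ∃ u', u' = mv (τ⁻¹ : SpecialLinearGroup (Fin 2) F) u := ⟨_, rfl⟩
  have hu : mv τ u' = u := by
    rw [hu', ← mv_mul, mul_inv_cancel, mv_one]
  have hρu : mv ρ u' = u' + ((ρ : Matrix (Fin 2) (Fin 2) F) 0 1 * u' 1) • ![1, 0] :=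
    funext fun i => by
      fin_cases i <;> simp [mv_apply, h00, h10, h11]
  refine ⟨(ρ : Matrix (Fin 2) (Fin 2) F) 0 1 * u' 1, ?_, fun ht => ?_⟩
  · rw [hσρ, mv_mul, ← hu', mv_mul, hρu, mv_add, mv_smul, hτ, hu]
  · rcases mul_eq_zero.1 ht with h | h
    · refine Or.inl ?_
      have hρ1 : ρ = 1 := by
        ext i j
        fin_cases i <;> fin_cases j <;> simp [h00, h10, h11, h]
      rw [hσρ, hρ1, mul_one, mul_inv_cancel]
    · refine Or.inr ⟨u' 0, ?_⟩
      have he : u' = u' 0 • ![1, 0] := funext fun i => by fin_cases i <;> simp [h]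
      conv_lhs => rw [← hu, he, mv_smul, hτ]

end SL2

variable {P : Type*} [Group P] [Finite P] {p : ℕ} [Fact p.Prime]
variable {U : Type*} [AddCommGroup U] [Finite U]
variable {act : P →* AddMonoid.End U} {T M : Subgroup P} {y : U}

/-- `L` is a natural `SL₂` generated by conjugates of `B`. -/
structure Pair (act : P →* AddMonoid.End U) (M B L : Subgroup P) : Prop where
  le : B ≤ L
  notM : ¬ L ≤ M
  cover : ∀ v : U, ∃ l ∈ L, v ∈ fix act (cj l B)
  gen2 : ∀ l ∈ L, cj l B ≠ B → B ⊔ cj l B = L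
  free : ∀ b ∈ B, ∀ u, act b u - u ∈ fix act L → act b u = u
  moves : ∃ l ∈ L, cj l B ≠ B
  nat : ∃ (F : Type) (_ : Field F) (_ : Fintype F) (ψ : U →+ (Fin 2 → F)) (ρ : L →* SpecialLinearGroup (Fin 2) F),
    Fintype.card F = Nat.card B ∧ Function.Bijective ρ ∧ Function.Surjective ψ ∧
      (∀ v, ψ v = 0 ↔ v ∈ fix act L) ∧ ∀ (l : L) v, ψ (act (l : P) v) = mv (ρ l) (ψ v)

theorem pair_of_natural {F : Type} [Field F] [Fintype F] {B L : Subgroup P} {y' : U} (hle : B ≤ L)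
    (hnotM : ¬ L ≤ M) (hB : Atom p act B) (ψ : U →+ (Fin 2 → F)) (ρ : L →* SpecialLinearGroup (Fin 2) F)
    (hcard : Fintype.card F = Nat.card B) (hρ : Function.Bijective ρ) (hψ : Function.Surjective ψ)
    (hker : ∀ v, ψ v = 0 ↔ v ∈ fix act L)
    (hequiv : ∀ (l : L) v, ψ (act (l : P) v) = mv (ρ l) (ψ v))
    {g : P} (hg : g ∈ L) (hgen : B ⊔ cj g B = L) (hy : y' ∈ fix act B) (hy0 : y' ∉ fix act L) :
    Pair act M B L := by
  classical
  obtain ⟨w0, hw0⟩ : ∃ w0, w0 = ψ y' := ⟨_, rfl⟩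
  have hw : w0 ≠ 0 := fun e => hy0 ((hker y').1 (hw0.symm.trans e))
  obtain ⟨R, hR⟩ : ∃ R : B → SpecialLinearGroup (Fin 2) F, ∀ b : B, R b = ρ ⟨b, hle b.2⟩ := ⟨_, fun _ => rfl⟩
  have hfix0 : ∀ b : B, mv (R b) w0 = w0 := fun b => by
    rw [hR, hw0, ← hequiv, hy _ b.2]
  have hB1 : ∀ b : B, R b = 1 → b = 1 := fun b hb => by
    rw [hR] at hb
    exact Subtype.ext (congrArg Subtype.val (hρ.1 (hb.trans (map_one ρ).symm)) :)
  -- the fixed space of `B` is the preimage of the line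
  have hfixB : ∀ v, v ∈ fix act B ↔ ∃ c : F, ψ v = c • w0 := by
    obtain ⟨ℓ, hℓ⟩ : ∃ ℓ : AddSubgroup U, ℓ = AddSubgroup.comap ψ (AddMonoidHom.mk' (fun c : F => c • w0)
        fun a b => add_smul a b w0).range := ⟨_, rfl⟩
    have hmem : ∀ v, v ∈ ℓ ↔ ∃ c : F, ψ v = c • w0 := fun v => by
      rw [hℓ]; exact ⟨fun ⟨c, hc⟩ => ⟨c, hc.symm⟩, fun ⟨c, hc⟩ => ⟨c, hc.symm⟩⟩
    have hsub : fix act B ≤ ℓ := by
      intro v hv
      rw [hmem]
      obtain ⟨b, hb, hb1⟩ := (Subgroup.bot_or_exists_ne_one B).resolve_left hB.ne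
      obtain ⟨t, ht, ht0⟩ := sl2_stab hw (hfix0 ⟨b, hb⟩) (ψ v)
      rw [hR, ← hequiv, hv b hb, eq_comm, add_eq_left, smul_eq_zero] at ht
      exact (ht0 (ht.resolve_right hw)).resolve_left fun e => hb1 (congrArg Subtype.val (hB1 _ e))
    have hℓcard : Nat.card ℓ ≤ Nat.card B * Nat.card (fix act L) := by
      obtain ⟨f, hf⟩ : ∃ f, f = ψ.comp ℓ.subtype := ⟨_, rfl⟩
      have hfv : ∀ z : ℓ, f z = ψ (z : U) := fun z => by rw [hf]; rfl
      rw [AddSubgroup.card_eq_card_quotient_mul_card_addSubgroup f.ker,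
        Nat.card_congr (QuotientAddGroup.quotientKerEquivRange f).toEquiv, ← hcard, ← Nat.card_eq_fintype_card]
      refine Nat.mul_le_mul ?_ ?_
      · have : ∀ x : f.range, ∃ c : F, (x : Fin 2 → F) = c • w0 := by
          rintro ⟨_, v, rfl⟩
          obtain ⟨c, hc⟩ := (hmem v).1 v.2
          exact ⟨c, by rw [hf]; exact hc⟩
        choose c hc using this
        exact Nat.card_le_card_of_injective c fun x x' e => Subtype.ext (by rw [hc x, hc x', e])
      · refine Nat.card_le_card_of_injective (fun v : f.ker => (⟨((v : ℓ) : U), (hker _).1 ?_⟩ : fix act L)) ?_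
        · have h2 : f (v : ℓ) = 0 := v.2
          exact (hfv _).symm.trans h2
        · exact fun v v' e => Subtype.ext (Subtype.ext (congrArg (fun x : fix act L => (x : U)) e))
    have hU : Nat.card U = Nat.card B * Nat.card B * Nat.card (fix act L) := by
      rw [AddSubgroup.card_eq_card_quotient_mul_card_addSubgroup ψ.ker,
        Nat.card_congr (QuotientAddGroup.quotientKerEquivOfSurjective ψ hψ).toEquiv,
        show ψ.ker = fix act L from AddSubgroup.ext fun v => hker v, Nat.card_eq_fintype_card,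
        Fintype.card_pi, Fin.prod_univ_two, hcard]
    have heq : fix act B = ℓ := by
      refine add_eq_of_card hsub (hℓcard.trans (le_of_eq ?_))
      have h2 := hB.eq
      rw [meas, hU, mul_assoc] at h2
      exact (Nat.eq_of_mul_eq_mul_left Nat.card_pos h2).symm
    intro v
    rw [heq, hmem]
  have hfree : ∀ b ∈ B, ∀ u, act b u - u ∈ fix act L → act b u = u := by
    intro b hb u hu
    by_cases hb1 : b = 1
    · rw [hb1, OffSL2.act_one]
    rw [← hker, map_sub, sub_eq_zero, show act b u = act ((⟨b, hle hb⟩ : L) : P) u from rfl, hequiv] at hu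
    obtain ⟨t, ht, ht0⟩ := sl2_stab hw (hfix0 ⟨b, hb⟩) (ψ u)
    rw [hR, hu, eq_comm, add_eq_left, smul_eq_zero] at ht
    obtain ⟨c, hc⟩ := (ht0 (ht.resolve_right hw)).resolve_left fun e => hb1 (congrArg Subtype.val (hB1 _ e))
    exact (hfixB u).2 ⟨c, hc⟩ b hb
  have hcjfix : ∀ (l : L) (v : U) (c : F), ψ v = c • (mv (ρ l) w0) →
      v ∈ fix act (cj (l : P) B) := by
    intro l v c hv
    refine (mem_fix_conj act).2 ((hfixB _).2 ⟨c, ?_⟩)
    rw [show act (l : P)⁻¹ v = act ((l⁻¹ : L) : P) v from rfl, hequiv, hv, mv_smul, ← mv_mul,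
      map_inv, inv_mul_cancel, mv_one]
  -- `B` is the stabiliser of the line, and it moves every other point along it
  have hsurj : ∀ u : Fin 2 → F, (∀ c : F, u ≠ c • w0) → ∀ t : F, ∃ b : B,
      mv (R b) u = u + t • w0 := by
    intro u hu
    choose τ hτ hτ0 using fun b : B => sl2_stab hw (hfix0 b) u
    have hinj : Function.Injective τ := by
      intro b b' e
      have h1 : ((R b)⁻¹ * R b' : SpecialLinearGroup (Fin 2) F) = R (b⁻¹ * b') := by
        rw [hR, hR, hR, ← map_inv, ← map_mul]; rfl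
      obtain ⟨t, ht, ht0⟩ := sl2_stab hw (hfix0 (b⁻¹ * b')) u
      rw [← h1, mv_mul, hτ b', ← e, ← hτ b, ← mv_mul, inv_mul_cancel, mv_one, eq_comm,
        add_eq_left, smul_eq_zero] at ht
      rcases ht0 (ht.resolve_right hw) with h | ⟨c, hc⟩
      · exact inv_mul_eq_one.1 (hB1 _ h)
      · exact absurd hc (hu c)
    intro t
    obtain ⟨b, hb⟩ := ((Nat.bijective_iff_injective_and_card τ).2 ⟨hinj, by rw [← hcard, Nat.card_eq_fintype_card]⟩).2 t
    exact ⟨b, by rw [hτ, hb]⟩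
  have hstab : ∀ (s : L) (c : F), c ≠ 0 → mv (ρ s) (c • w0) = c • w0 → (s : P) ∈ B := by
    intro s c hc hs
    rw [mv_smul] at hs
    have hs0 := smul_right_injective _ hc hs
    by_contra hsB
    obtain ⟨σ, hσ⟩ := sl2_exists_mulVec hw
    obtain ⟨u, hu⟩ : ∃ u, ∀ c : F, u ≠ c • w0 := by
      refine ⟨mv σ ![0, 1], fun c' e => ?_⟩
      rw [← hσ, ← mv_smul] at e
      have h2 := congrArg (fun x => mv (σ⁻¹ : SpecialLinearGroup (Fin 2) F) x) e
      simp only [← mv_mul, inv_mul_cancel, mv_one] at h2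
      simpa using congrFun h2 1
    obtain ⟨t, ht, -⟩ := sl2_stab hw hs0 u
    obtain ⟨b, hb⟩ := hsurj u hu t
    have hfixu : mv ((R b)⁻¹ * ρ s : SpecialLinearGroup (Fin 2) F) u = u := by
      rw [mv_mul, ht, ← hb, ← mv_mul, inv_mul_cancel, mv_one]
    have hfixw : mv ((R b)⁻¹ * ρ s : SpecialLinearGroup (Fin 2) F) w0 = w0 := by
      rw [mv_mul, hs0]
      conv_lhs => rw [← hfix0 b, ← mv_mul, inv_mul_cancel, mv_one]
    obtain ⟨t', ht', ht0⟩ := sl2_stab hw hfixw u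
    rw [hfixu, eq_comm, add_eq_left, smul_eq_zero] at ht'
    rcases ht0 (ht'.resolve_right hw) with h | ⟨c', hc'⟩
    · rw [inv_mul_eq_one, hR] at h
      exact hsB (congrArg Subtype.val (hρ.1 h) ▸ b.2)
    · exact hu c' hc'
  have hconj : ∀ (s : L) (c : F), c ≠ 0 → mv (ρ s) w0 = c • w0 → cj (s : P) B = B := by
    intro s c hc hs
    refine eq_of_le_of_card_ge (cj_le.2 fun b hb => ?_) (card_cj _ B).ge
    refine hstab (s * ⟨b, hle hb⟩ * s⁻¹) c hc ?_
    rw [map_mul, map_mul, map_inv, ← hR ⟨b, hb⟩, ← hs, mv_mul, ← mv_mul (ρ s)⁻¹, inv_mul_cancel, mv_one, mv_mul,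
      hfix0]
  have hgen2 : ∀ l ∈ L, cj l B ≠ B → B ⊔ cj l B = L := by
    intro l hl hne
    refine le_antisymm (sup_le hle (cj_le_of_mem hl hle)) ?_
    obtain ⟨ls, hls⟩ : ∃ ls : L, ls = ⟨l, hl⟩ := ⟨_, rfl⟩
    obtain ⟨w1, hw1⟩ : ∃ w1, w1 = mv (ρ ls) w0 := ⟨_, rfl⟩
    have hw10 : ∀ c : F, w1 ≠ c • w0 := by
      intro c e
      refine hne ((by rw [hls] : cj l B = cj (ls : P) B).trans (hconj ls c (fun hc => hw ?_) (hw1.symm.trans e)))
      rw [hc, zero_smul, hw1] at e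
      exact mv_inv_zero e
    have hspan : ∀ v : Fin 2 → F, ∃ α β : F, v = α • w0 + β • w1 := by
      let f : F × F → (Fin 2 → F) := fun x => x.1 • w0 + x.2 • w1
      have hf : Function.Injective f := by
        rintro ⟨a, b⟩ ⟨a', b'⟩ e
        have e' : (b - b') • w1 = (a' - a) • w0 := by
          simp only [f] at e
          rw [sub_smul, sub_smul, sub_eq_sub_iff_add_eq_add, add_comm (b • w1), e, add_comm]
        by_cases hb : b = b'
        · rw [hb, sub_self, zero_smul, eq_comm, smul_eq_zero, sub_eq_zero] at e'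
          rw [(e'.resolve_right hw), hb]
        · exact absurd (by rw [← smul_smul, ← e', inv_smul_smul₀ (sub_ne_zero.2 hb)]) (hw10 ((b - b')⁻¹ * (a' - a)))
      intro v
      obtain ⟨⟨α, β⟩, h⟩ := ((Fintype.bijective_iff_injective_and_card f).2 ⟨hf, by simp [pow_two]⟩).2 v
      exact ⟨α, β, h.symm⟩
    rw [← hgen]
    refine sup_le le_sup_left ?_
    obtain ⟨gs, hgs⟩ : ∃ gs : L, gs = ⟨g, hg⟩ := ⟨_, rfl⟩
    obtain ⟨α, β, hαβ⟩ := hspan (mv (ρ gs) w0)
    by_cases hβ : β = 0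
    · rw [hβ, zero_smul, add_zero] at hαβ
      refine ((by rw [hgs] : cj g B = cj (gs : P) B).trans (hconj gs α (fun hα => hw ?_) hαβ)).le.trans le_sup_left
      rw [hα, zero_smul] at hαβ
      exact mv_inv_zero hαβ
    obtain ⟨b, hb⟩ := hsurj w1 hw10 (α / β)
    obtain ⟨bs, hbs⟩ : ∃ bs : L, bs = ⟨b, hle b.2⟩ := ⟨_, rfl⟩
    rw [hR, ← hbs] at hb
    have h1 : mv (ρ (bs * ls)) (β • w0) = mv (ρ gs) w0 := by
      rw [hαβ, map_mul, mv_mul, mv_smul, ← hw1, mv_smul, hb, smul_add, smul_smul,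
        mul_div_cancel₀ _ hβ, add_comm]
    have h2 : cj ((((bs * ls)⁻¹ * gs : L)) : P) B = B := hconj _ β hβ (by
      rw [map_mul, map_inv, mv_mul, ← h1, ← mv_mul, inv_mul_cancel, mv_one])
    have h3 : cj g B = cj ((b : P) * l) B := by
      have h4 := congrArg (cj ((b : P) * l)) h2
      rw [cj_cj] at h4
      rw [← h4]
      congr 1
      simp [hgs, hbs, hls, mul_assoc]
    rw [h3, ← cj_cj]
    exact cj_le.2 fun z hz => (B ⊔ cj l B).mul_mem ((B ⊔ cj l B).mul_mem (mem_sup_left b.2) (mem_sup_right hz))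
      ((B ⊔ cj l B).inv_mem (mem_sup_left b.2))
  refine ⟨hle, hnotM, fun v => ?_, hgen2, hfree, ⟨g, hg, fun e => ?_⟩,
    ⟨F, inferInstance, inferInstance, ψ, ρ, hcard, hρ, hψ, hker, hequiv⟩⟩
  · by_cases hv : ψ v = 0
    · exact ⟨1, L.one_mem, by rw [cj_one]; exact fix_anti act hle ((hker v).1 hv)⟩
    obtain ⟨σ, hσ⟩ := sl2_exists_mulVec hv
    obtain ⟨σ0, hσ0⟩ := sl2_exists_mulVec hw
    obtain ⟨l, hl⟩ := hρ.2 (σ * σ0⁻¹)
    refine ⟨l, l.2, hcjfix l v 1 ?_⟩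
    rw [one_smul, hl, ← hσ0, ← mv_mul, inv_mul_cancel_right, hσ]
  · rw [e, sup_idem] at hgen
    exact hy0 (hgen ▸ hy)

/-- The pair of the atom marking a smallest candidate centralises the rest of `E`. -/
theorem MinC.pair (hP : PMod p act T M y) {E Bm B L : Subgroup P} (hc : MinC p T M E Bm L)
    (hE : Exact p act E) (hq : Quad act E) (hB : Atom p act B) (hBE : B ≤ E) (hBQ : ¬ B ≤ opc p L) :
    ∃ L0, L0 ≤ L ∧ Pair act M B L0 ∧ ∀ D, Atom p act D → D ≤ E → D ≠ B →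
      (∀ d ∈ D, ∀ l ∈ L0, d * l = l * d) ∧ ∀ d ∈ D, ∀ u, act d u - u ∈ fix act L0 := by
  obtain ⟨g0, hg0, hg0M⟩ := hc.exists_out
  have hs := hc.splitL hP hE hq hB hBE hBQ hg0 hg0M
  obtain ⟨W, hW⟩ : ∃ W, W = orbW act L y := ⟨_, rfl⟩
  obtain ⟨E0, hE0⟩ : ∃ E0, E0 = E ⊓ opc p L := ⟨_, rfl⟩
  obtain ⟨L0, hL0⟩ : ∃ L0, L0 = B ⊔ cj g0 B := ⟨_, rfl⟩
  have hWs : ∀ l ∈ L, ∀ u ∈ W, act l u ∈ W := fun l hl u hu => hW ▸ act_mem_orbW hl (hW ▸ hu)
  have hBL : B ≤ L := hBE.trans hc.AL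
  have hBL0 : B ≤ L0 := hL0 ▸ le_sup_left
  have hL0L : L0 ≤ L := hL0 ▸ sup_le hBL (cj_le_of_mem hg0 hBL)
  have hC0 : fix act L0 = fix act B ⊓ fix act (cj g0 B) := by rw [hL0, fix_sup]
  have hWC : ∀ u : U, ∃ w ∈ W, ∃ c ∈ fix act L0, w + c = u := fun u => by
    have h := hs.wc
    rw [← hW, ← hC0] at h
    exact AddSubgroup.mem_sup.1 (h ▸ AddSubgroup.mem_top u : u ∈ W ⊔ fix act L0)
  have hE0W : ∀ e ∈ E0, ∀ w ∈ W, act e w = w := fun e he w hw => hc.opc_fix hP (hE0 ▸ he : e ∈ E ⊓ opc p L).2 (hW ▸ hw)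
  have hext : ∀ a ∈ L0, ∀ b ∈ L0, (∀ w ∈ W, act a w = act b w) → a = b := fun a ha b hb h =>
    hP.inj (AddMonoidHom.ext fun u => by
      obtain ⟨w, hw, c, hc', e⟩ := hWC u
      show act a u = act b u
      rw [← e, map_add, map_add, h w hw, hc' a ha, hc' b hb])
  obtain ⟨b0, hb0, hb01⟩ := (Subgroup.bot_or_exists_ne_one B).resolve_left hB.ne
  obtain ⟨g, hg⟩ : ∃ g, g = g0 * b0 * g0⁻¹ := ⟨_, rfl⟩
  have hgL0 : g ∈ L0 := hg ▸ hL0 ▸ mem_sup_right (conj_mem_cj hb0)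
  have hgM : g ∉ M := by
    have := hc.not_mem hP hq (hBE hb0) (hs.notQ b0 hb0 hb01) (L.inv_mem hg0) (fun h => hg0M (by simpa using M.inv_mem h))
    rwa [inv_inv, ← hg] at this
  have hgL : g ∈ L := hL0L hgL0
  -- `L` and `L0` agree on `W`
  have hagree : ∀ x ∈ L0, x ∉ M → ∀ l ∈ L, ∃ h ∈ B ⊔ cj x B, ∀ w ∈ W, act l w = act h w := by
    intro x hx hxM
    let K : Subgroup P :=
      { carrier := {l | l ∈ L ∧ ∃ h ∈ B ⊔ cj x B, ∀ w ∈ W, act l w = act h w}
        one_mem' := ⟨L.one_mem, 1, (B ⊔ cj x B).one_mem, fun w _ => rfl⟩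
        mul_mem' := by
          rintro a b ⟨ha, h1, hh1, e1⟩ ⟨hb, h2, hh2, e2⟩
          refine ⟨L.mul_mem ha hb, h1 * h2, (B ⊔ cj x B).mul_mem hh1 hh2, fun w hw => ?_⟩
          rw [OffSL2.act_mul, OffSL2.act_mul, ← e2 w hw, e1 _ (hWs b hb w hw)]
        inv_mem' := by
          rintro a ⟨ha, h1, hh1, e1⟩
          refine ⟨L.inv_mem ha, h1⁻¹, (B ⊔ cj x B).inv_mem hh1, fun w hw => ?_⟩
          apply OffSL2.act_injective act h1
          rw [OffSL2.act_inv', ← e1 _ (hWs _ (L.inv_mem ha) w hw), OffSL2.act_inv'] }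
    have hEK : ∀ e ∈ E, e ∈ L ∧ ∃ b ∈ B, ∀ w ∈ W, act e w = act b w := by
      intro e he
      refine ⟨hc.AL he, ?_⟩
      have hn : E0 ≤ normalizer (B : Set P) := le_normalizer_iff.2 fun a ha b hb => by
        rw [hE.el.comm a (hE0 ▸ ha : a ∈ E ⊓ opc p L).1 b (hBE hb), mul_inv_cancel_right]; exact hb
      have hdm : e ∈ E0 ⊔ B := by rw [hE0, hs.gen]; exact he
      rw [← SetLike.mem_coe, coe_mul_of_left_le_normalizer_right E0 B hn] at hdm
      obtain ⟨e0, he0, b, hb, rfl⟩ := hdm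
      refine ⟨b, hb, fun w hw => ?_⟩
      show act (e0 * b) w = _
      rw [OffSL2.act_mul, hE0W e0 he0 _ (hWs b (hBL hb) w hw)]
    have hxL : x ∈ L := hL0L hx
    have hle : L ≤ K := by
      conv_lhs => rw [← hc.gen x hxL hxM]
      refine sup_le (fun e he => ?_) (cj_le.2 fun e he => ?_)
      · obtain ⟨h1, b, hb, h2⟩ := hEK e he
        exact ⟨h1, b, mem_sup_left hb, h2⟩
      · obtain ⟨h1, b, hb, h2⟩ := hEK e he
        refine ⟨L.mul_mem (L.mul_mem hxL h1) (L.inv_mem hxL), x * b * x⁻¹, mem_sup_right (conj_mem_cj hb), fun w hw => ?_⟩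
        rw [OffSL2.act_mul, OffSL2.act_mul, h2 _ (hWs _ (L.inv_mem hxL) w hw), ← OffSL2.act_mul, ← OffSL2.act_mul]
    exact fun l hl => (hle hl).2
  have hgenx : ∀ x ∈ L0, x ∉ M → B ⊔ cj x B = L0 := by
    intro x hx hxM
    refine le_antisymm (sup_le hBL0 (cj_le_of_mem hx hBL0)) fun l hl => ?_
    obtain ⟨h, hh, e⟩ := hagree x hx hxM l (hL0L hl)
    rwa [hext l hl h (sup_le hBL0 (cj_le_of_mem hx hBL0) hh) e]
  -- a Sylow subgroup of `L0`
  obtain ⟨S, hS⟩ := (hB.el.isPGroup.comap_subtype : IsPGroup p (B.subgroupOf L0)).exists_le_sylow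
  obtain ⟨k, hk, hkS⟩ := hc.maxp.exists_conj (S.2.map L0.subtype) ((map_subtype_le _).trans hL0L)
  have hkM : k ∈ M := by
    by_contra hkM
    have hk' : k⁻¹ ∉ M := fun h => hkM (by simpa using M.inv_mem h)
    refine hc.moved hP (L.inv_mem hk) hk' (hc.fix_elem hP hq (hBE hb0) (hs.notQ b0 hb0 hb01)
      (hW ▸ hWs _ (L.inv_mem hk) y (hW ▸ by simpa [OffSL2.act_one] using mem_orbW (act := act) (y := y) L.one_mem)) ?_)
    have h1 : act (k * b0 * k⁻¹) y = y :=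
      hP.hy _ (hkS (conj_mem_cj (x := k) ⟨⟨b0, hBL0 hb0⟩, hS (mem_subgroupOf.2 hb0), rfl⟩)).1
    have h2 := congrArg (act k⁻¹) h1
    rwa [← OffSL2.act_mul, show k⁻¹ * (k * b0 * k⁻¹) = b0 * k⁻¹ by group, OffSL2.act_mul] at h2
  obtain ⟨y', hy'⟩ : ∃ y', y' = act k⁻¹ y := ⟨_, rfl⟩
  have hSk : ∀ s : L0, s ∈ (S : Subgroup L0) → k * (s : P) * k⁻¹ ∈ T ⊓ L := fun s hs' =>
    hkS (conj_mem_cj (x := k) ⟨s, hs', rfl⟩)
  have hfy : ∀ s : L0, s ∈ (S : Subgroup L0) → act (s : P) y' = y' := by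
    intro s hs'
    rw [hy', ← OffSL2.act_mul, show (s : P) * k⁻¹ = k⁻¹ * (k * s * k⁻¹) by group, OffSL2.act_mul, hP.hy _ (hSk s hs').1]
  have hy'M : ∀ x : P, act x y' = y' → x ∈ M := by
    intro x hx
    have h1 : k * x * k⁻¹ ∈ M := hP.stab (show act (k * x * k⁻¹) y = y by
      rw [OffSL2.act_mul, OffSL2.act_mul, ← hy', hx, hy', OffSL2.act_inv'])
    simpa [mul_assoc] using M.mul_mem (M.mul_mem (M.inv_mem hkM) h1) hkM
  obtain ⟨act0, hact0⟩ : ∃ act0 : L0 →* AddMonoid.End U, act0 = act.comp L0.subtype := ⟨_, rfl⟩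
  have ha0 : ∀ (l : L0) (u : U), act0 l u = act (l : P) u := fun l u => by rw [hact0]; rfl
  have hfix0 : ∀ (X : Subgroup L0) (u : U), u ∈ fix act0 X ↔ u ∈ fix act (X.map L0.subtype) := fun X u => by
    constructor
    · rintro h _ ⟨l, hl, rfl⟩; exact (ha0 l u).symm.trans (h l hl)
    · intro h l hl; exact (ha0 l u).trans (h _ ⟨l, hl, rfl⟩)
  have hmapB : (B.subgroupOf L0).map L0.subtype = B := map_subgroupOf_eq_of_le hBL0
  have hfixB : ∀ u : U, u ∈ fix act0 (B.subgroupOf L0) ↔ u ∈ fix act B := fun u => by rw [hfix0, hmapB]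
  have hcB : Nat.card (B.subgroupOf L0) = Nat.card B := Nat.card_congr (subgroupOfEquivOfLe hBL0).toEquiv
  have hcF : Nat.card (fix act0 (B.subgroupOf L0)) = Nat.card (fix act B) :=
    Nat.card_congr (Equiv.subtypeEquivRight hfixB)
  have hy'top : y' ∉ fix act0 ⊤ := fun h => hgM (hy'M g ((ha0 ⟨g, hgL0⟩ y').symm.trans (h _ (mem_top _))))
  have hyp : OffSL2.Hyp act0 S (M.subgroupOf L0) (B.subgroupOf L0) y' :=
    { inj := fun l l' h => Subtype.ext (hP.inj (by rw [hact0] at h; exact h))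
      AT := hS
      TM := fun s hs' => mem_subgroupOf.2 (hy'M _ (hfy s hs'))
      Mne := fun e => hgM (subgroupOf_eq_top.1 e hgL0)
      quad := fun b hb v => (hfixB _).2 (by rw [ha0]; exact hB.quad hP _ (mem_subgroupOf.1 hb) v)
      hq := by rw [hcB, hcF]; exact hB.eq.ge
      strict := fun D hD hDne hDne' => by
        obtain ⟨d, hd, hd1⟩ := (Subgroup.bot_or_exists_ne_one D).resolve_left hDne
        have hle : fix act0 D ≤ fix act0 (B.subgroupOf L0) := fun u hu => (hfixB u).2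
          (atom_fix_elem hP hB (mem_subgroupOf.1 (hD hd)) (fun e => hd1 (Subtype.ext e)) ((ha0 d u).symm.trans (hu d hd)))
        calc _ ≤ Nat.card D * Nat.card (fix act0 (B.subgroupOf L0)) := Nat.mul_le_mul_left _ (card_le_fix act0 hle)
          _ < _ := Nat.mul_lt_mul_of_pos_right (lt_of_le_of_ne (card_le_of_le hD)
            fun e => hDne' (eq_of_le_of_card_ge hD e.ge)) Nat.card_pos
      hy := fun s hs' => (ha0 s y').trans (hfy s hs')
      hyZ := hy'top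
      gen := fun x hx => by
        apply Subgroup.map_injective L0.subtype_injective
        rw [Subgroup.map_sup, hmapB, ← MonoidHom.range_eq_map L0.subtype, range_subtype]
        conv_rhs => rw [← hgenx (x : P) x.2 fun hm => hx (mem_subgroupOf.2 hm)]
        congr 1
        ext z
        constructor
        · rintro ⟨_, ⟨b, hb, rfl⟩, rfl⟩
          exact conj_mem_cj (x := (x : P)) (mem_subgroupOf.1 hb)
        · rintro ⟨b, hb, rfl⟩
          exact ⟨x * ⟨b, hBL0 hb⟩ * x⁻¹, ⟨⟨b, hBL0 hb⟩, mem_subgroupOf.2 hb, rfl⟩, rfl⟩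
      core := fun r hr hall => by
        have hrr : k * (r : P) * k⁻¹ ∈ opc p L := by
          refine hc.core hP (hSk r hr) fun l hl => ?_
          obtain ⟨h, hh, e⟩ := hagree g hgL0 hgM (k⁻¹ * l) (L.mul_mem (L.inv_mem hk) hl)
          have hh0 : h ∈ L0 := (hgenx g hgL0 hgM).le hh
          have hn : h⁻¹ * (k⁻¹ * l) ∈ M := hP.stab (show act _ y = y by
            rw [OffSL2.act_mul, e y (hW ▸ by simpa [OffSL2.act_one] using mem_orbW (act := act) (y := y) L.one_mem),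
              OffSL2.act_inv])
          have h1 : h⁻¹ * (r : P) * h ∈ M := mem_subgroupOf.1 (hall ⟨h, hh0⟩)
          rw [show l⁻¹ * (k * (r : P) * k⁻¹) * l = (h⁻¹ * (k⁻¹ * l))⁻¹ * (h⁻¹ * r * h) * (h⁻¹ * (k⁻¹ * l)) by group]
          exact M.mul_mem (M.mul_mem (M.inv_mem hn) h1) hn
        have hr1 : r = 1 := Subtype.ext (hext _ r.2 1 L0.one_mem fun w hw => by
          rw [OffSL2.act_one]
          apply OffSL2.act_injective act k
          have := hc.opc_fix hP hrr (hW ▸ hWs k hk w hw)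
          rwa [← OffSL2.act_mul, show k * (r : P) * k⁻¹ * k = k * r by group, OffSL2.act_mul] at this)
        intro x
        rw [hr1]; simp }
  obtain ⟨-, F, iF, iFF, ψ, ρ, hcard, hρ, hψ, hker, heq⟩ := hyp.natural hP.hpU
  have htop : fix act0 ⊤ = fix act L0 := AddSubgroup.ext fun u => by
    rw [hfix0, ← MonoidHom.range_eq_map L0.subtype, range_subtype]
  have hpair : Pair act M B L0 := @pair_of_natural P _ _ p _ U _ _ act M F iF iFF B L0 y' hBL0
    (fun h => hgM (h hgL0)) hB ψ ρ (hcard.trans hcB) hρ hψ (fun v => by rw [hker, htop])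
    (fun l v => by rw [← ha0, heq]; rfl) g hgL0 (hgenx g hgL0 hgM)
    (fun b hb => hfy ⟨b, hBL0 hb⟩ (hS (mem_subgroupOf.2 hb))) (htop ▸ hy'top)
  -- the centralised part
  have hwfix : ∀ w ∈ W, w ∈ fix act B → w ∈ fix act E := fun w hw h => by
    have h2 : w ∈ orbW act L y ⊓ fix act B := ⟨hW ▸ hw, h⟩
    rw [hs.wfix] at h2
    exact h2.2
  have himg : ∀ e ∈ E0, ∀ u, act e u - u ∈ fix act L0 := by
    intro e he u
    have heE : e ∈ E ⊓ opc p L := hE0 ▸ he
    have hne : g⁻¹ * e * g ∈ E ⊓ opc p L := by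
      have := hs.norm g⁻¹ (inv_mem (hL0 ▸ hgL0)) e heE
      rwa [inv_inv] at this
    obtain ⟨d, hd⟩ : ∃ d, d = act e u - u := ⟨_, rfl⟩
    have h1 : d ∈ fix act B := hd ▸ fix_anti act hBE (hq e heE.1 u)
    have h2 : act g⁻¹ d ∈ fix act B := by
      rw [hd, map_sub, ← OffSL2.act_mul, show g⁻¹ * e = (g⁻¹ * e * g) * g⁻¹ by group, OffSL2.act_mul]
      exact fix_anti act hBE (hq _ hne.1 _)
    obtain ⟨w, hw, c, hc', e'⟩ := hWC d
    have hcB' : ∀ x ∈ L0, act x c = c := fun x hx => hc' x hx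
    have hw1 : w ∈ fix act B := by
      have h3 : d - c ∈ fix act B := sub_mem h1 (fix_anti act hBL0 hc')
      rwa [← e', add_sub_cancel_right] at h3
    have hw2 : act g⁻¹ w ∈ fix act B := by
      have h3 : act g⁻¹ d - c ∈ fix act B := sub_mem h2 (fix_anti act hBL0 hc')
      rwa [← e', map_add, hcB' _ (L0.inv_mem hgL0), add_sub_cancel_right] at h3
    rw [← hd, ← e']
    exact add_mem (fix_anti act hL0L (hc.fix_of_gen hgL hgM (hwfix w hw hw1)
      (hwfix _ (hWs _ (L.inv_mem hgL) w hw) hw2))) hc'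
  have hcomm : ∀ e ∈ E0, ∀ l ∈ L0, e * l = l * e := by
    intro e he l hl
    refine hP.inj (AddMonoidHom.ext fun u => ?_)
    show act (e * l) u = act (l * e) u
    obtain ⟨w, hw, c, hc', rfl⟩ := hWC u
    rw [OffSL2.act_mul, OffSL2.act_mul, map_add (act l), map_add (act e) w, map_add (act e), hc' l hl, map_add,
      hE0W e he _ (hWs l (hL0L hl) w hw), hE0W e he w hw]
    have := himg e he c l hl
    rw [map_sub, hc' l hl, sub_left_inj] at this
    rw [this]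
  refine ⟨L0, hL0L, hpair, fun D hD hDE hDB => ?_⟩
  have hDle : D ≤ E0 := by
    intro d hd
    by_cases hd1 : d = 1
    · rw [hd1]; exact E0.one_mem
    have hn : E0 ≤ normalizer (B : Set P) := le_normalizer_iff.2 fun a ha b hb => by
      rw [hE.el.comm a (hE0 ▸ ha : a ∈ E ⊓ opc p L).1 b (hBE hb), mul_inv_cancel_right]; exact hb
    have hdm : d ∈ E0 ⊔ B := by rw [hE0, hs.gen]; exact hDE hd
    rw [← SetLike.mem_coe, coe_mul_of_left_le_normalizer_right E0 B hn] at hdm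
    obtain ⟨e, he, b, hb, heb⟩ := hdm
    change e * b = d at heb
    by_cases hb1 : b = 1
    · rw [← heb, hb1, mul_one]; exact he
    exfalso
    have hle : fix act D ≤ fix act B := by
      intro u hu
      refine atom_fix_elem hP hB hb hb1 (hpair.free b hb u ?_)
      have h1 := hu d hd
      rw [← heb, OffSL2.act_mul] at h1
      have : act b u - u = -(act e (act b u) - act b u) := by rw [h1]; abel
      rw [this]
      exact neg_mem (himg e he _)
    obtain ⟨h1, -, -⟩ := hD.toExact.sup_inf hP hB.toExact fun a ha b hb => hE.el.comm a (hDE ha) b (hBE hb)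
    have h2 : fix act (D ⊔ B) = fix act D := by rw [fix_sup, inf_eq_left.2 hle]
    have h3 := h1.eq
    rw [meas, h2, ← hD.eq, meas] at h3
    have h4 := eq_of_le_of_card_ge (le_sup_left : D ≤ D ⊔ B) (Nat.eq_of_mul_eq_mul_right Nat.card_pos h3).le
    exact hDB ((hD.min B (h4 ▸ le_sup_right) hB.toExact).resolve_left hB.ne).symm
  exact ⟨fun d hd => hcomm d (hDle hd), fun d hd => himg d (hDle hd)⟩

end CfsgLib.LocalEven.PMinFF
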