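import Cfsg.Agent.Lib.LocalEven.PMinFF.Facts

/-!
# Exact offenders and atoms

A subgroup is exact when its measure is `|U|`; an atom is a minimal nontrivial exact subgroup. An exact
quadratic group `E` splits over each atom `B` lying outside `O_p` of a smallest candidate: `E = E₀ B`, with
`E₀` normalised by a translating element `g`, `[U, E₀] ≤ C(B) ⊓ C(B^g)` while no nontrivial `[u, b]` lies there.
Hence atoms of equal order in a common `p`-group commute.
-/

set_option autoImplicit false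
set_option linter.all false

namespace CfsgLib.LocalEven.PMinFF

open Subgroup CfsgLib.LocalEven.OffSL2

variable {P : Type*} [Group P] [Finite P] {p : ℕ} [Fact p.Prime]
variable {U : Type*} [AddCommGroup U] [Finite U]
variable {act : P →* AddMonoid.End U} {T M : Subgroup P} {y : U}

/-- An exact subgroup. -/
structure Exact (p : ℕ) (act : P →* AddMonoid.End U) (X : Subgroup P) : Prop where
  el : El p X
  eq : meas act X = Nat.card U

/-- A minimal nontrivial exact subgroup. -/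
structure Atom (p : ℕ) (act : P →* AddMonoid.End U) (X : Subgroup P) : Prop extends Exact p act X where
  ne : X ≠ ⊥
  min : ∀ D ≤ X, Exact p act D → D = ⊥ ∨ D = X

omit [Finite U] in
theorem Exact.cj {X : Subgroup P} (h : Exact p act X) (k : P) : Exact p act (cj k X) :=
  ⟨h.el.cj k, by rw [meas_cj]; exact h.eq⟩

omit [Finite U] in
theorem Atom.cj {X : Subgroup P} (h : Atom p act X) (k : P) : Atom p act (cj k X) := by
  refine ⟨h.toExact.cj k, fun e => h.ne ((map_eq_bot_iff_of_injective _ (MulAut.conj k).injective).1 e),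
    fun D hD hDe => ?_⟩
  have hle : PMinFF.cj k⁻¹ D ≤ X := (cj_mono hD).trans (by rw [cj_cj, inv_mul_cancel, cj_one])
  rcases h.min _ hle (hDe.cj k⁻¹) with e | e
  · exact Or.inl ((map_eq_bot_iff_of_injective _ (MulAut.conj k⁻¹).injective).1 e)
  · exact Or.inr (by rw [← e, cj_cj, mul_inv_cancel, cj_one])

/-- Exact subgroups of an exact `X` other than `X` itself have smaller measure. -/
theorem Atom.quad (hP : PMod p act T M y) {X : Subgroup P} (h : Atom p act X) : Quad act X := by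
  refine quad_of_min hP.hpU h.el h.eq.ge fun D hD hne hne0 => ?_
  refine lt_of_le_of_ne ((meas_le_card hP (h.el.mono hD)).trans h.eq.ge) fun e => ?_
  exact (h.min D hD ⟨h.el.mono hD, e.trans h.eq⟩).elim hne0 hne

/-- Two commuting exact subgroups. -/
theorem Exact.sup_inf (hP : PMod p act T M y) {X Y : Subgroup P} (hX : Exact p act X) (hY : Exact p act Y)
    (hc : ∀ a ∈ X, ∀ b ∈ Y, a * b = b * a) :
    Exact p act (X ⊔ Y) ∧ Exact p act (X ⊓ Y) ∧ fix act (X ⊓ Y) = fix act X ⊔ fix act Y := by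
  have hn : X ≤ normalizer (Y : Set P) := le_normalizer_iff.2 fun a ha b hb => by
    rw [hc a ha b hb, mul_inv_cancel_right]; exact hb
  have p1 := CfsgLib.PLocal.card_sup_mul_card_inf X Y hn
  have p2 := card_sup_mul_inf (fix act X) (fix act Y)
  rw [← fix_sup] at p2
  have h1 := meas_le_card hP (hX.el.sup hY.el hc)
  have h2 := meas_le_card hP (hX.el.mono (inf_le_left : X ⊓ Y ≤ X))
  have hle : fix act X ⊔ fix act Y ≤ fix act (X ⊓ Y) := sup_le (fix_anti act inf_le_left) (fix_anti act inf_le_right)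
  have h3 : Nat.card ↥(X ⊓ Y) * Nat.card ↥(fix act X ⊔ fix act Y) ≤ meas act (X ⊓ Y) :=
    Nat.mul_le_mul_left _ (card_le_fix act hle)
  have key : meas act (X ⊔ Y) * (Nat.card ↥(X ⊓ Y) * Nat.card ↥(fix act X ⊔ fix act Y)) =
      Nat.card U * Nat.card U := by
    conv_rhs => arg 1; rw [← hX.eq]
    conv_rhs => arg 2; rw [← hY.eq]
    rw [meas, meas, meas]
    calc _ = (Nat.card ↥(X ⊔ Y) * Nat.card ↥(X ⊓ Y)) *
          (Nat.card ↥(fix act X ⊔ fix act Y) * Nat.card (fix act (X ⊔ Y))) := by ring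
      _ = _ := by rw [← p1, p2]; ring
  have hpos : 0 < Nat.card U := Nat.card_pos
  have e1 : meas act (X ⊔ Y) = Nat.card U := by
    refine le_antisymm h1 (Nat.le_of_mul_le_mul_right ?_ hpos)
    rw [← key]
    exact Nat.mul_le_mul_left _ (h3.trans h2)
  rw [e1] at key
  have e2 := Nat.eq_of_mul_eq_mul_left hpos key
  refine ⟨⟨hX.el.sup hY.el hc, e1⟩, ⟨hX.el.mono inf_le_left, le_antisymm h2 (e2 ▸ h3)⟩,
    (add_eq_of_card hle (Nat.le_of_mul_le_mul_left ?_ (Nat.card_pos : 0 < Nat.card ↥(X ⊓ Y)))).symm⟩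
  rw [e2]; exact h2

/-- Distinct commuting atoms are disjoint. -/
theorem Atom.inf_eq_bot (hP : PMod p act T M y) {X Y : Subgroup P} (hX : Atom p act X) (hY : Atom p act Y)
    (hc : ∀ a ∈ X, ∀ b ∈ Y, a * b = b * a) (hne : X ≠ Y) : X ⊓ Y = ⊥ := by
  refine (hX.min _ inf_le_left (hX.toExact.sup_inf hP hY.toExact hc).2.1).resolve_right fun e => ?_
  exact hne ((hY.min X (inf_eq_left.1 e) hX.toExact).resolve_left hX.ne)

/-- An exact quadratic `E` split over the atom `B` by the element `g`. -/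
structure Split (p : ℕ) (act : P →* AddMonoid.End U) (E B E0 : Subgroup P) (g : P) : Prop where
  le : E0 ≤ E
  ex : Exact p act E0
  gen : E0 ⊔ B = E
  disj : E0 ⊓ B = ⊥
  norm : ∀ e ∈ E0, g⁻¹ * e * g ∈ E0
  cover : fix act E0 ≤ fix act E ⊔ fix act (PMinFF.cj g E)
  c0 : ∀ e ∈ E0, ∀ u, act e u - u ∈ fix act B ⊓ fix act (PMinFF.cj g B)
  sep : ∀ b ∈ B, b ≠ 1 → ∀ u, act b u - u ∈ fix act B ⊓ fix act (PMinFF.cj g B) → act b u = u

omit [Finite P] [Finite U] in
theorem act_fix_cj {k : P} {A : Subgroup P} {v : U} (hv : v ∈ fix act A) : act k v ∈ fix act (cj k A) :=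
  (mem_fix_conj act).2 (by rw [OffSL2.act_inv]; exact hv)

omit [Finite U] in
theorem Split.pull {E B E0 : Subgroup P} {g k : P} (h : Split p act (cj k E) (cj k B) E0 g) :
    Split p act E B (cj k⁻¹ E0) (k⁻¹ * g * k) := by
  have hkk : ∀ A : Subgroup P, cj k⁻¹ (cj k A) = A := fun A => by rw [cj_cj, inv_mul_cancel, cj_one]
  have hg : ∀ A : Subgroup P, cj k⁻¹ (cj g (cj k A)) = cj (k⁻¹ * g * k) A := fun A => by rw [cj_cj, cj_cj, mul_assoc]
  have hfx : ∀ {v : U} {A : Subgroup P}, act k v ∈ fix act (cj k A) → v ∈ fix act A := fun {v A} hv => by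
    have := (mem_fix_conj act).1 hv
    rwa [OffSL2.act_inv] at this
  refine ⟨?_, h.ex.cj _, ?_, ?_, fun e he => ?_, fun v hv => ?_, fun e he u => ?_, fun b hb hb1 u hu => ?_⟩
  · exact (cj_mono h.le).trans (hkk E).le
  · conv_rhs => rw [← hkk E, ← h.gen]
    rw [PMinFF.cj, PMinFF.cj, PMinFF.cj, Subgroup.map_sup]
    congr 1
    exact (hkk B).symm
  · conv_lhs => rw [← hkk B]
    rw [PMinFF.cj, PMinFF.cj, PMinFF.cj, ← map_inf _ _ _ (MulAut.conj k⁻¹).injective]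
    rw [show E0 ⊓ map (MulAut.conj k).toMonoidHom B = ⊥ from h.disj, Subgroup.map_bot]
  · rw [mem_cj] at he ⊢
    have := h.norm _ he
    simpa [mul_assoc] using this
  · have h1 : act k v ∈ fix act E0 := fun e he => by
      have h2 := hv _ (conj_mem_cj (x := k⁻¹) he)
      rw [inv_inv] at h2
      have h3 := congrArg (act k) h2
      rwa [← OffSL2.act_mul, show k * (k⁻¹ * e * k) = e * k by group, OffSL2.act_mul] at h3
    obtain ⟨a, ha, b, hb, e⟩ := AddSubgroup.mem_sup.1 (h.cover h1)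
    have e2 : v = act k⁻¹ a + act k⁻¹ b := by rw [← map_add, e, OffSL2.act_inv]
    rw [e2]
    refine AddSubgroup.add_mem_sup (hfx (by rw [OffSL2.act_inv']; exact ha)) ?_
    rw [← hg]
    exact act_fix_cj hb
  · rw [mem_cj] at he
    rw [inv_inv] at he
    obtain ⟨h2, h3⟩ := AddSubgroup.mem_inf.1 (h.c0 _ he (act k u))
    rw [← OffSL2.act_mul, show k * e * k⁻¹ * k = k * e by group, OffSL2.act_mul, ← map_sub] at h2 h3
    refine ⟨hfx h2, ?_⟩
    rw [← hg, ← OffSL2.act_inv act k (act e u - u)]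
    exact act_fix_cj h3
  · have h2 := h.sep _ (conj_mem_cj hb) (fun e => hb1 (conj_eq_one_iff.1 e)) (act k u) ?_
    · rw [← OffSL2.act_mul, show k * b * k⁻¹ * k = k * b by group, OffSL2.act_mul] at h2
      exact OffSL2.act_injective act k h2
    · rw [← OffSL2.act_mul, show k * b * k⁻¹ * k = k * b by group, OffSL2.act_mul, ← map_sub]
      refine ⟨act_fix_cj hu.1, ?_⟩
      have h5 := act_fix_cj (k := k) hu.2
      rwa [cj_cj, show k * (k⁻¹ * g * k) = g * k by group, ← cj_cj] at h5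

theorem atom_fix_elem (hP : PMod p act T M y) {X : Subgroup P} (hX : Atom p act X) {x : P} (hx : x ∈ X)
    (hx1 : x ≠ 1) {u : U} (hu : act x u = u) : u ∈ fix act X := by
  obtain ⟨k0, -, hk0⟩ := hP.syl.exists_conj hX.el.isPGroup le_top
  obtain ⟨h0, L, hc⟩ := exists_minC hP hk0 le_rfl (hX.cj k0).ne (Or.inl rfl)
  rw [cj_cj] at hc
  obtain ⟨k, hk⟩ : ∃ k, k = h0 * k0 := ⟨_, rfl⟩
  rw [← hk] at hc
  have hq := (hX.cj k).quad hP
  obtain ⟨A0, hA0⟩ : ∃ A0, A0 = cj k X ⊓ opc p L := ⟨_, rfl⟩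
  have hA0le : A0 ≤ cj k X := hA0 ▸ inf_le_left
  have h1 := hc.meas_le hP hq
  have hs := hc.sup_le_fix hP hq
  rw [(hX.cj k).eq, ← hA0] at h1
  rw [← hA0] at hs
  have h2 : meas act A0 = Nat.card U :=
    le_antisymm (meas_le_card hP ((hX.cj k).el.mono hA0le)) (h1.trans (Nat.mul_le_mul_left _ (card_le_fix act hs)))
  have hbot : A0 = ⊥ := ((hX.cj k).min A0 hA0le ⟨(hX.cj k).el.mono hA0le, h2⟩).resolve_right
    fun e => hc.BQ (inf_eq_left.1 (hA0.symm.trans e))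
  rw [hbot, Subgroup.card_bot, one_mul] at h1
  have htop := eq_top_of_card _ h1
  obtain ⟨w, hw, c, hc', e⟩ := AddSubgroup.mem_sup.1 (htop ▸ AddSubgroup.mem_top (act k u) :
    act k u ∈ orbW act L y ⊔ fix act (cj k X))
  have hxk : k * x * k⁻¹ ∈ cj k X := conj_mem_cj hx
  have hQ : k * x * k⁻¹ ∉ opc p L := fun hq' => by
    have : k * x * k⁻¹ ∈ A0 := hA0 ▸ ⟨hxk, hq'⟩
    rw [hbot, mem_bot, conj_eq_one_iff] at this
    exact hx1 this
  have hfix : act (k * x * k⁻¹) w = w := by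
    have h3 : act (k * x * k⁻¹) (act k u) = act k u := by
      rw [← OffSL2.act_mul, show k * x * k⁻¹ * k = k * x by group, OffSL2.act_mul, hu]
    rw [← e, map_add, hc' _ hxk] at h3
    exact add_right_cancel h3
  have h4 : act k u ∈ fix act (cj k X) := e ▸ add_mem (hc.fix_elem hP hq hxk hQ hw hfix) hc'
  have h5 := (mem_fix_conj act).1 h4
  rwa [OffSL2.act_inv] at h5

/-- What an exact quadratic `E` looks like in a smallest candidate marked by the atom `B`. -/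
structure SplitL (p : ℕ) (act : P →* AddMonoid.End U) (y : U) (E B L : Subgroup P) (g0 : P) : Prop where
  notQ : ∀ b ∈ B, b ≠ 1 → b ∉ opc p L
  gen : E ⊓ opc p L ⊔ B = E
  disj : E ⊓ opc p L ⊓ B = ⊥
  wfix : orbW act L y ⊓ fix act B = orbW act L y ⊓ fix act E
  top : orbW act L y ⊔ fix act B = ⊤
  wc : orbW act L y ⊔ fix act B ⊓ fix act (PMinFF.cj g0 B) = ⊤
  ex : Exact p act (E ⊓ opc p L)
  fix0 : fix act (E ⊓ opc p L) = orbW act L y ⊔ fix act E
  norm : ∀ l ∈ B ⊔ PMinFF.cj g0 B, ∀ e ∈ E ⊓ opc p L, l * e * l⁻¹ ∈ E ⊓ opc p L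

theorem MinC.splitL (hP : PMod p act T M y) {E Bm B L : Subgroup P} (hc : MinC p T M E Bm L)
    (hE : Exact p act E) (hq : Quad act E) (hB : Atom p act B) (hBE : B ≤ E) (hBQ : ¬ B ≤ opc p L)
    {g0 : P} (hg0 : g0 ∈ L) (hg0M : g0 ∉ M) : SplitL p act y E B L g0 := by
  obtain ⟨W, hW⟩ : ∃ W, W = orbW act L y := ⟨_, rfl⟩
  have hBW : ∀ b ∈ B, b ≠ 1 → b ∉ opc p L := by
    intro b hb hb1 hbQ
    refine hBQ fun b' hb' => ?_
    by_contra hb'Q
    have h1 : ∀ u ∈ W, act b' u = u := fun u hu =>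
      atom_fix_elem hP hB hb hb1 (hc.opc_fix hP hbQ (hW ▸ hu)) b' hb'
    exact hc.moved hP hg0 hg0M (hc.fix_elem hP hq (hBE hb') hb'Q (mem_orbW hg0) (h1 _ (hW ▸ mem_orbW hg0)))
  obtain ⟨b0, hb0, hb01⟩ := (Subgroup.bot_or_exists_ne_one B).resolve_left hB.ne
  obtain ⟨E0, hE0⟩ : ∃ E0, E0 = E ⊓ opc p L := ⟨_, rfl⟩
  have hE0E : E0 ≤ E := hE0 ▸ inf_le_left
  have hdisj : E0 ⊓ B = ⊥ := by
    rw [eq_bot_iff]
    intro b hb
    rw [mem_bot]
    by_contra hb1
    exact hBW b hb.2 hb1 (hE0 ▸ hb.1 : b ∈ E ⊓ opc p L).2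
  have hWfix : W ⊓ fix act B = W ⊓ fix act E := by
    refine le_antisymm (fun u hu => ⟨hu.1, ?_⟩) (inf_le_inf_left _ (fix_anti act hBE))
    exact hc.fix_elem hP hq (hBE hb0) (hBW b0 hb0 hb01) (hW ▸ hu.1) (hu.2 b0 hb0)
  have hineq := hc.card_ineq hP hq
  rw [← hE0, ← hW, ← hWfix] at hineq
  have hn : E0 ≤ normalizer (B : Set P) := le_normalizer_iff.2 fun a ha b hb => by
    rw [hE.el.comm a (hE0E ha) b (hBE hb), mul_inv_cancel_right]; exact hb
  have p1 := CfsgLib.PLocal.card_sup_mul_card_inf E0 B hn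
  rw [hdisj, Subgroup.card_bot, mul_one] at p1
  have p2 := card_sup_mul_inf W (fix act B)
  have hle : Nat.card ↥(W ⊔ fix act B) ≤ Nat.card U := Nat.card_le_card_of_injective _ (W ⊔ fix act B).subtype_injective
  have hsupE : E0 ⊔ B ≤ E := sup_le hE0E hBE
  have hposI : 0 < Nat.card ↥(W ⊓ fix act B) := Nat.card_pos
  have hBeq : Nat.card U = Nat.card B * Nat.card (fix act B) := hB.eq.symm
  have hEle : Nat.card E ≤ Nat.card E0 * Nat.card B := by
    refine Nat.le_of_mul_le_mul_right ?_ (Nat.mul_pos hposI (Nat.card_pos : 0 < Nat.card (fix act B)))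
    calc Nat.card E * (Nat.card ↥(W ⊓ fix act B) * Nat.card (fix act B))
        ≤ Nat.card E0 * Nat.card W * Nat.card (fix act B) := by
          rw [← mul_assoc]; exact Nat.mul_le_mul_right _ hineq
      _ = Nat.card E0 * (Nat.card ↥(W ⊔ fix act B) * Nat.card ↥(W ⊓ fix act B)) := by rw [p2]; ring
      _ ≤ Nat.card E0 * (Nat.card U * Nat.card ↥(W ⊓ fix act B)) :=
          Nat.mul_le_mul_left _ (Nat.mul_le_mul_right _ hle)
      _ = _ := by rw [hBeq]; ring
  have hgen : E0 ⊔ B = E := eq_of_le_of_card_ge hsupE (p1 ▸ hEle)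
  have hcardE : Nat.card E = Nat.card E0 * Nat.card B := by rw [p1, hgen]
  have hWB : Nat.card B * Nat.card ↥(W ⊓ fix act B) ≤ Nat.card W := by
    refine Nat.le_of_mul_le_mul_left ?_ (Nat.card_pos : 0 < Nat.card E0)
    rw [← mul_assoc, ← hcardE]; exact hineq
  have hWtop : W ⊔ fix act B = ⊤ := by
    refine eq_top_of_card _ (Nat.le_of_mul_le_mul_right ?_ hposI)
    rw [p2, hBeq]
    calc Nat.card B * Nat.card (fix act B) * Nat.card ↥(W ⊓ fix act B)
        = Nat.card B * Nat.card ↥(W ⊓ fix act B) * Nat.card (fix act B) := by ring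
      _ ≤ _ := Nat.mul_le_mul_right _ hWB
  -- exactness of `E0`
  have hs := hc.sup_le_fix hP hq
  have hm := hc.meas_le hP hq
  rw [hE.eq, ← hW, ← hE0] at hm
  rw [← hW, ← hE0] at hs
  have hE0eq : meas act E0 = Nat.card U :=
    le_antisymm (meas_le_card hP (hE.el.mono hE0E)) (hm.trans (Nat.mul_le_mul_left _ (card_le_fix act hs)))
  have hfixE0 : fix act E0 = W ⊔ fix act E := by
    refine (add_eq_of_card hs (Nat.le_of_mul_le_mul_left ?_ (Nat.card_pos : 0 < Nat.card E0))).symm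
    rw [← meas, hE0eq]; exact hm
  have hWs : ∀ l ∈ L, ∀ u ∈ W, act l u ∈ W := fun l hl u hu => hW ▸ act_mem_orbW hl (hW ▸ hu)
  -- the two-generated subgroup
  obtain ⟨L0, hL0⟩ : ∃ L0, L0 = B ⊔ cj g0 B := ⟨_, rfl⟩
  obtain ⟨C0, hC0⟩ : ∃ C0, C0 = fix act B ⊓ fix act (cj g0 B) := ⟨_, rfl⟩
  have hL0L : L0 ≤ L := hL0 ▸ sup_le (hBE.trans hc.AL) (cj_le_of_mem hg0 (hBE.trans hc.AL))
  have hfix0 : ∀ l ∈ L0, ∀ c ∈ C0, act l c = c := by
    intro l hl c hcc
    rw [hC0, ← fix_sup, ← hL0] at hcc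
    exact hcc l hl
  have hWC0 : W ⊓ C0 ≤ W ⊓ fix act L := by
    intro v hv
    rw [hC0] at hv
    have h1 : v ∈ W ⊓ fix act E := hWfix ▸ ⟨hv.1, hv.2.1⟩
    have h2 : act g0⁻¹ v ∈ W ⊓ fix act E :=
      hWfix ▸ ⟨hWs _ (L.inv_mem hg0) _ hv.1, (mem_fix_conj act).1 hv.2.2⟩
    exact ⟨hv.1, hc.fix_of_gen hg0 hg0M h1.2 h2.2⟩
  have hWC : W ⊔ C0 = ⊤ := by
    obtain ⟨X, hX⟩ : ∃ X, X = W ⊓ fix act (cj g0 E) := ⟨_, rfl⟩
    have hsum : W ≤ (W ⊓ fix act E) ⊔ X := fun u hu => by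
      obtain ⟨w, x, hw1, hw2, hx1, hx2, rfl⟩ := hc.decompose hP hq hg0 hg0M (hW ▸ hu)
      exact AddSubgroup.add_mem_sup ⟨hW ▸ hw1, hw2⟩ (hX ▸ ⟨hW ▸ hx1, (mem_fix_conj act).2 hx2⟩)
    have hint : W ⊓ fix act L ≤ (W ⊓ fix act E) ⊓ X := hX ▸ le_inf
      (inf_le_inf_left _ (fix_anti act hc.AL)) (inf_le_inf_left _ (fix_anti act (cj_le_of_mem hg0 hc.AL)))
    have hXC : Nat.card X = Nat.card ↥(W ⊓ fix act E) := by
      rw [hX]
      exact Nat.card_congr
        { toFun := fun v => ⟨act g0⁻¹ v, hWs _ (L.inv_mem hg0) _ v.2.1, (mem_fix_conj act).1 v.2.2⟩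
          invFun := fun v => ⟨act g0 v, hWs _ hg0 _ v.2.1, act_fix_cj v.2.2⟩
          left_inv := fun v => Subtype.ext (OffSL2.act_inv' act g0 v)
          right_inv := fun v => Subtype.ext (OffSL2.act_inv act g0 v) }
    have q1 := card_sup_mul_inf W C0
    have q2 := card_sup_mul_inf (fix act B) (fix act (cj g0 B))
    rw [← hC0, card_fix_cj] at q2
    have q3 := card_sup_mul_inf (W ⊓ fix act E) X
    rw [hXC, ← hWfix] at q3
    have a1 : Nat.card ↥(W ⊓ C0) ≤ Nat.card ↥((W ⊓ fix act B) ⊓ X) :=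
      Nat.card_le_card_of_injective _ (AddSubgroup.inclusion_injective (hWC0.trans (hWfix ▸ hint)))
    have a2 : Nat.card W ≤ Nat.card ↥((W ⊓ fix act B) ⊔ X) :=
      Nat.card_le_card_of_injective _ (AddSubgroup.inclusion_injective (hWfix ▸ hsum))
    have a3 : Nat.card ↥(fix act B ⊔ fix act (cj g0 B)) ≤ Nat.card U :=
      Nat.card_le_card_of_injective _ (AddSubgroup.subtype_injective _)
    refine eq_top_of_card _ ?_
    obtain ⟨i, hi⟩ : ∃ i, i = Nat.card ↥(W ⊓ fix act B) := ⟨_, rfl⟩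
    obtain ⟨f, hf⟩ : ∃ f, f = Nat.card (fix act B) := ⟨_, rfl⟩
    obtain ⟨q, hqB⟩ : ∃ q, q = Nat.card B := ⟨_, rfl⟩
    rw [← hi, ← hqB] at hWB
    rw [← hf] at q2
    rw [← hi] at q3
    rw [← hf, ← hqB] at hBeq
    have hipos : 0 < i := hi ▸ hposI
    have h5 : q * i * Nat.card ↥(W ⊓ C0) ≤ i * i :=
      calc _ ≤ Nat.card W * Nat.card ↥((W ⊓ fix act B) ⊓ X) := Nat.mul_le_mul hWB a1
        _ ≤ _ := (Nat.mul_le_mul_right _ a2).trans q3.le
    have h5' : q * Nat.card ↥(W ⊓ C0) ≤ i := Nat.le_of_mul_le_mul_right (by linarith) hipos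
    have h6 : f * f ≤ Nat.card U * Nat.card C0 := q2.ge.trans (Nat.mul_le_mul_right _ a3)
    have h7 : f ≤ q * Nat.card C0 :=
      Nat.le_of_mul_le_mul_left (a := f) (by rw [hBeq] at h6; linarith) (hf ▸ Nat.card_pos)
    refine Nat.le_of_mul_le_mul_right ?_ (Nat.card_pos : 0 < Nat.card ↥(W ⊓ C0))
    rw [q1]
    calc Nat.card U * Nat.card ↥(W ⊓ C0) ≤ q * (q * Nat.card C0) * Nat.card ↥(W ⊓ C0) :=
          Nat.mul_le_mul_right _ (hBeq ▸ Nat.mul_le_mul_left _ h7)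
      _ = q * (q * Nat.card ↥(W ⊓ C0)) * Nat.card C0 := by ring
      _ ≤ q * i * Nat.card C0 := Nat.mul_le_mul_right _ (Nat.mul_le_mul_left _ h5')
      _ ≤ _ := Nat.mul_le_mul_right _ hWB
  -- `L0` normalises `E0`
  have hnorm : ∀ l ∈ L0, ∀ e ∈ E0, l * e * l⁻¹ ∈ E0 := by
    intro l hl
    have hst : ∀ k ∈ L0, ∀ u ∈ fix act E0, act k u ∈ fix act E0 := by
      intro k hk u hu
      obtain ⟨w, hw, c, hc', e⟩ := AddSubgroup.mem_sup.1 (hWC ▸ AddSubgroup.mem_top u : u ∈ W ⊔ C0)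
      have hWE : W ≤ fix act E0 := hfixE0 ▸ le_sup_left
      have hcE : c ∈ fix act E0 := by
        have := sub_mem hu (hWE hw)
        rwa [← e, add_sub_cancel_left] at this
      rw [← e, map_add, hfix0 k hk c hc']
      exact add_mem (hWE (hWs k (hL0L hk) w hw)) hcE
    have hsub : fix act E0 ≤ fix act (cj l E0) := fun u hu => (mem_fix_conj act).2 (hst _ (L0.inv_mem hl) u hu)
    have him : ∀ e ∈ E0, ∀ u, act e u - u ∈ fix act E0 := fun e he u => fix_anti act hE0E (hq e (hE0E he) u)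
    have hcomm : ∀ a ∈ E0, ∀ b ∈ cj l E0, a * b = b * a := by
      rintro a ha _ ⟨b, hb, rfl⟩
      refine hP.inj (AddMonoidHom.ext fun u => ?_)
      show act (a * (l * b * l⁻¹)) u = act ((l * b * l⁻¹) * a) u
      obtain ⟨d, hd⟩ : ∃ d, d = act (l * b * l⁻¹) u - u := ⟨_, rfl⟩
      obtain ⟨d', hd'⟩ : ∃ d', d' = act a u - u := ⟨_, rfl⟩
      have hdf : d ∈ fix act E0 := by
        rw [hd, OffSL2.act_mul, OffSL2.act_mul]
        conv => arg 2; arg 2; rw [← OffSL2.act_inv' act l u]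
        rw [← map_sub]
        exact hst l hl _ (him b hb _)
      have hd'f : d' ∈ fix act (cj l E0) := hd' ▸ hsub (him a ha u)
      rw [OffSL2.act_mul act a (l * b * l⁻¹), OffSL2.act_mul act (l * b * l⁻¹) a, eq_add_of_sub_eq hd.symm,
        eq_add_of_sub_eq hd'.symm,
        map_add, map_add, hdf a ha, hd'f _ (conj_mem_cj hb), eq_add_of_sub_eq hd.symm, eq_add_of_sub_eq hd'.symm]
      abel
    have h1 := meas_le_card hP ((hE.el.mono hE0E).sup ((hE.el.mono hE0E).cj l) hcomm)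
    have h2 : fix act (E0 ⊔ cj l E0) = fix act E0 := by rw [fix_sup, inf_eq_left.2 hsub]
    rw [meas, h2, ← hE0eq, meas] at h1
    have h3 := eq_of_le_of_card_ge (le_sup_left : E0 ≤ E0 ⊔ cj l E0) (Nat.le_of_mul_le_mul_right h1 Nat.card_pos)
    intro e he
    exact h3.ge (mem_sup_right (conj_mem_cj he))
  subst hW
  subst hC0
  subst hL0
  subst hE0
  exact ⟨hBW, hgen, hdisj, hWfix, hWtop, hWC, ⟨hE.el.mono hE0E, hE0eq⟩, hfixE0, hnorm⟩

theorem MinC.split (hP : PMod p act T M y) {E Bm B L : Subgroup P} (hc : MinC p T M E Bm L)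
    (hE : Exact p act E) (hq : Quad act E) (hB : Atom p act B) (hBE : B ≤ E) (hBQ : ¬ B ≤ opc p L) :
    ∃ E0 g, Split p act E B E0 g := by
  obtain ⟨g0, hg0, hg0M⟩ := hc.exists_out
  obtain ⟨hBW, hgen, hdisj, hWfix, hWtop, hWC, hex, hfixE0, hnorm⟩ := hc.splitL hP hE hq hB hBE hBQ hg0 hg0M
  obtain ⟨W, hW⟩ : ∃ W, W = orbW act L y := ⟨_, rfl⟩
  obtain ⟨E0, hE0⟩ : ∃ E0, E0 = E ⊓ opc p L := ⟨_, rfl⟩
  rw [← hW] at hWfix hWtop hWC hfixE0
  rw [← hE0] at hgen hdisj hex hfixE0 hnorm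
  have hE0E : E0 ≤ E := hE0 ▸ inf_le_left
  obtain ⟨b0, hb0, hb01⟩ := (Subgroup.bot_or_exists_ne_one B).resolve_left hB.ne
  obtain ⟨L0, hL0⟩ : ∃ L0, L0 = B ⊔ cj g0 B := ⟨_, rfl⟩
  rw [← hL0] at hnorm
  have hL0L : L0 ≤ L := hL0 ▸ sup_le (hBE.trans hc.AL) (cj_le_of_mem hg0 (hBE.trans hc.AL))
  have hWs : ∀ l ∈ L, ∀ u ∈ W, act l u ∈ W := fun l hl u hu => hW ▸ act_mem_orbW hl (hW ▸ hu)
  -- the translating element
  obtain ⟨g, hg⟩ : ∃ g, g = g0 * b0 * g0⁻¹ := ⟨_, rfl⟩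
  have hgL0 : g ∈ L0 := hg ▸ hL0 ▸ mem_sup_right (conj_mem_cj hb0)
  have hgM : g ∉ M := by
    have := hc.not_mem hP hq (hBE hb0) (hBW b0 hb0 hb01) (L.inv_mem hg0) (fun h => hg0M (by simpa using M.inv_mem h))
    rwa [inv_inv, ← hg] at this
  have hgL : g ∈ L := hL0L hgL0
  have hnormg : ∀ e ∈ E0, g⁻¹ * e * g ∈ E0 := fun e he => by
    simpa using hnorm g⁻¹ (L0.inv_mem hgL0) e he
  refine ⟨E0, g, hE0E, hex, hgen, hdisj, hnormg, ?_, fun e he u => ?_, fun b hb hb1 u hu => ?_⟩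
  · rw [hfixE0]
    refine sup_le (fun u hu => ?_) le_sup_left
    obtain ⟨w, x, -, hw2, -, hx2, rfl⟩ := hc.decompose hP hq hgL hgM (hW ▸ hu)
    exact AddSubgroup.add_mem_sup hw2 ((mem_fix_conj act).2 hx2)
  · refine ⟨fix_anti act hBE (hq e (hE0E he) u), (mem_fix_conj act).2 ?_⟩
    rw [map_sub, ← OffSL2.act_mul, show g⁻¹ * e = (g⁻¹ * e * g) * g⁻¹ by group, OffSL2.act_mul]
    exact fix_anti act hBE (hq _ (hE0E (hnormg e he)) _)
  · obtain ⟨w, hw, c, hc', e⟩ := AddSubgroup.mem_sup.1 (hWtop ▸ AddSubgroup.mem_top u : u ∈ W ⊔ fix act B)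
    obtain ⟨d, hd⟩ : ∃ d, d = act b u - u := ⟨_, rfl⟩
    rw [← hd] at hu
    have hdw : d = act b w - w := by rw [hd, ← e, map_add, hc' b hb]; abel
    have hdW : d ∈ W := hdw ▸ W.sub_mem (hWs b (hc.AL (hBE hb)) w hw) hw
    have h1 : d ∈ W ⊓ fix act E := hWfix ▸ ⟨hdW, hu.1⟩
    have h2 : act g⁻¹ d ∈ W ⊓ fix act E := hWfix ▸ ⟨hWs _ (L.inv_mem hgL) _ hdW, (mem_fix_conj act).1 hu.2⟩
    have hdL := hc.fix_of_gen hgL hgM h1.2 h2.2
    obtain ⟨w', x, -, hw', -, hx', ew⟩ := hc.decompose hP hq hgL hgM (hW ▸ hw)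
    have hdx : d = act b x - x := by rw [hdw, ← ew, map_add, hw' b (hBE hb)]; abel
    have hxL := hc.free hP hq hgL hgM (hBE hb) (hBW b hb hb1) hx' (hdx ▸ hdL)
    rw [← sub_eq_zero, ← hd, hdx, hxL b (hc.AL (hBE hb)), sub_self]

/-- Every atom other than `B` in a split group lies in `E₀`. -/
theorem Split.atom_le (hP : PMod p act T M y) {E B E0 : Subgroup P} {g : P} (h : Split p act E B E0 g)
    (hE : Exact p act E) (hB : Atom p act B) {D : Subgroup P} (hD : Atom p act D) (hDE : D ≤ E)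
    (hne : D ≠ B) : D ≤ E0 := by
  have hBE : B ≤ E := h.gen ▸ le_sup_right
  intro d hd
  by_cases hd1 : d = 1
  · rw [hd1]; exact E0.one_mem
  have hn : E0 ≤ normalizer (B : Set P) := le_normalizer_iff.2 fun a ha b hb => by
    rw [hE.el.comm a (h.le ha) b (hBE hb), mul_inv_cancel_right]; exact hb
  have hdm : d ∈ E0 ⊔ B := h.gen ▸ hDE hd
  rw [← SetLike.mem_coe, coe_mul_of_left_le_normalizer_right E0 B hn] at hdm
  obtain ⟨e, he, b, hb, heb⟩ := hdm
  change e * b = d at heb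
  by_cases hb1 : b = 1
  · rw [← heb, hb1, mul_one]; exact he
  exfalso
  have hle : fix act D ≤ fix act B := by
    intro u hu
    refine atom_fix_elem hP hB hb hb1 (h.sep b hb hb1 u ?_)
    have h1 := hu d hd
    rw [← heb, OffSL2.act_mul] at h1
    have : act b u - u = -(act e (act b u) - act b u) := by rw [h1]; abel
    rw [this]
    exact neg_mem (h.c0 e he _)
  obtain ⟨h1, -, -⟩ := hD.toExact.sup_inf hP hB.toExact fun a ha b hb => hE.el.comm a (hDE ha) b (hBE hb)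
  have h2 : fix act (D ⊔ B) = fix act D := by rw [fix_sup, inf_eq_left.2 hle]
  have h3 := h1.eq
  rw [meas, h2, ← hD.eq, meas] at h3
  have h4 := eq_of_le_of_card_ge (le_sup_left : D ≤ D ⊔ B) (Nat.eq_of_mul_eq_mul_right Nat.card_pos h3).le
  exact hne ((hD.min B (h4 ▸ le_sup_right) hB.toExact).resolve_left hB.ne).symm

/-- A group generated by atoms splits over one of them. -/
theorem exists_split (hP : PMod p act T M y) {S : Set (Subgroup P)} (hS : ∀ X ∈ S, Atom p act X)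
    (hE : Exact p act (sSup S)) (hq : Quad act (sSup S)) (hne : S.Nonempty) (hT : sSup S ≤ T) :
    ∃ B ∈ S, ∃ E0 g, Split p act (sSup S) B E0 g := by
  obtain ⟨X, hX⟩ := hne
  have hEne : sSup S ≠ ⊥ := fun e => (hS X hX).ne (eq_bot_iff.2 (e ▸ le_sSup hX))
  obtain ⟨k, L, hc⟩ := exists_minC hP hT le_rfl hEne (Or.inl rfl)
  obtain ⟨B, hB, hBQ⟩ : ∃ B ∈ S, ¬ cj k B ≤ opc p L := by
    by_contra hall
    push Not at hall
    exact hc.BQ (map_le_iff_le_comap.2 (sSup_le fun B hB => map_le_iff_le_comap.1 (hall B hB)))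
  obtain ⟨E0, g, h⟩ := hc.split hP (hE.cj k) (hq.cj k) ((hS B hB).cj k) (cj_mono (le_sSup hB)) hBQ
  exact ⟨B, hB, _, _, h.pull⟩

/-- Commuting atoms generate an exact quadratic subgroup. -/
theorem exact_sSup (hP : PMod p act T M y) {S : Set (Subgroup P)} (hS : ∀ X ∈ S, Atom p act X)
    (hc : ∀ X ∈ S, ∀ Y ∈ S, ∀ a ∈ X, ∀ b ∈ Y, a * b = b * a) :
    Exact p act (sSup S) ∧ Quad act (sSup S) := by
  induction S, Set.toFinite S using Set.Finite.induction_on with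
  | empty =>
    rw [sSup_empty]
    exact ⟨⟨⟨fun a ha b hb => by rw [mem_bot.1 ha, mem_bot.1 hb], fun a ha => by rw [mem_bot.1 ha, one_pow]⟩,
      meas_bot act⟩, fun a ha v => by rw [mem_bot.1 ha, OffSL2.act_one, sub_self]; exact zero_mem _⟩
  | @insert X S hXS _ ih =>
    obtain ⟨hE, hq⟩ := ih (fun Y hY => hS Y (Set.mem_insert_of_mem X hY))
      (fun Y hY Z hZ => hc Y (Set.mem_insert_of_mem X hY) Z (Set.mem_insert_of_mem X hZ))
    have hX := hS X (Set.mem_insert X S)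
    rw [sSup_insert]
    have hcomm : ∀ a ∈ X, ∀ b ∈ sSup S, a * b = b * a := fun a ha b hb => by
      have : sSup S ≤ Subgroup.centralizer ({a} : Set P) := sSup_le fun Y hY z hz =>
        mem_centralizer_singleton_iff.2 (hc X (Set.mem_insert X S) Y (Set.mem_insert_of_mem X hY) a ha z hz).symm
      exact (mem_centralizer_singleton_iff.1 (this hb)).symm
    obtain ⟨h1, h2, h3⟩ := hX.toExact.sup_inf hP hE hcomm
    rcases hX.min _ inf_le_left h2 with e | e
    · refine ⟨h1, fun a ha v => ?_⟩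
      rw [e, fix_bot] at h3
      have hqX := hX.quad hP
      have hn : X ≤ normalizer ((sSup S : Subgroup P) : Set P) := le_normalizer_iff.2 fun a ha b hb => by
        rw [hcomm a ha b hb, mul_inv_cancel_right]; exact hb
      rw [← SetLike.mem_coe, coe_mul_of_left_le_normalizer_right X (sSup S) hn] at ha
      obtain ⟨x, hx, z, hz, rfl⟩ := ha
      rw [fix_sup]
      have key : ∀ {A B : Subgroup P}, Quad act A → (∀ a ∈ A, ∀ b ∈ B, a * b = b * a) →
          fix act A ⊔ fix act B = ⊤ → ∀ a ∈ A, ∀ v, act a v - v ∈ fix act A ⊓ fix act B := by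
        intro A B hA hAB htop a ha v
        refine ⟨hA a ha v, fun b hb => ?_⟩
        obtain ⟨c1, hc1, c2, hc2, rfl⟩ := AddSubgroup.mem_sup.1 (htop ▸ AddSubgroup.mem_top v :
          v ∈ fix act A ⊔ fix act B)
        have e2 : act a (c1 + c2) - (c1 + c2) = act a c2 - c2 := by rw [map_add, hc1 a ha]; abel
        rw [e2, map_sub, hc2 b hb, ← OffSL2.act_mul, ← hAB a ha b hb, OffSL2.act_mul, hc2 b hb]
      show act (x * z) v - v ∈ _
      rw [show act (x * z) v - v = (act x (act z v) - act z v) + (act z v - v) by rw [OffSL2.act_mul]; abel]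
      refine add_mem (key hqX hcomm h3.symm x hx _) ?_
      rw [inf_comm]
      exact key hq (fun a ha b hb => (hcomm b hb a ha).symm) (sup_comm (fix act X) _ ▸ h3.symm) z hz v
    · rw [sup_eq_right.2 (inf_eq_left.1 e)]
      exact ⟨hE, hq⟩

/-- Atoms of equal order in a common subgroup of `T` commute. -/
theorem atoms_commute (hP : PMod p act T M y) {X Y : Subgroup P} (hX : Atom p act X) (hY : Atom p act Y)
    (hcard : Nat.card X = Nat.card Y) (hXT : X ≤ T) (hYT : Y ≤ T) : ∀ a ∈ X, ∀ b ∈ Y, a * b = b * a := by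
  induction hn : Nat.card ↥(X ⊔ Y) using Nat.strong_induction_on generalizing X Y with
  | _ n ih =>
  have main : ∀ {X Y : Subgroup P}, Atom p act X → Atom p act Y → Nat.card X = Nat.card Y → X ≤ T → Y ≤ T →
      Nat.card ↥(X ⊔ Y) = n → ∀ s ∈ Y, cj s X = X := by
    intro X Y hX hY hcard hXT hYT hn s hs
    obtain ⟨S, hS⟩ : ∃ S, S = X ⊔ Y := ⟨_, rfl⟩
    by_cases hXS : X = S
    · have hYX : Y ≤ X := hXS ▸ hS ▸ le_sup_right
      exact cj_eq_self (le_normalizer (hYX hs))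
    have hST : S ≤ T := hS ▸ sup_le hXT hYT
    have hSp : IsPGroup p S := hP.syl.pgr.to_le hST
    haveI := hSp.isNilpotent
    have hXle : X ≤ S := hS ▸ le_sup_left
    have hsS : s ∈ S := hS ▸ mem_sup_right hs
    obtain ⟨K, hK, hXK⟩ := (eq_top_or_exists_le_coatom (X.subgroupOf S)).resolve_left fun e =>
      hXS (le_antisymm hXle (subgroupOf_eq_top.1 e))
    haveI : K.Normal := NormalizerCondition.normal_of_coatom K Group.normalizerCondition_of_isNilpotent hK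
    have hXsK : cj s X ≤ K.map S.subtype := cj_le.2 fun x hx =>
      ⟨⟨s, hsS⟩ * ⟨x, hXle hx⟩ * ⟨s, hsS⟩⁻¹, (inferInstance : K.Normal).conj_mem _ (hXK (mem_subgroupOf.2 hx)) _, rfl⟩
    have hXK' : X ≤ K.map S.subtype := fun x hx => ⟨⟨x, hXle hx⟩, hXK (mem_subgroupOf.2 hx), rfl⟩
    have hlt : Nat.card ↥(X ⊔ cj s X) < n := by
      refine lt_of_le_of_lt (card_le_of_le (sup_le hXK' hXsK)) ?_
      rw [card_map_of_injective S.subtype_injective, ← hn, ← hS]
      exact lt_of_le_of_ne K.card_le_card_group fun e => hK.1 (K.eq_top_of_card_eq e)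
    have hX' := hX.cj s
    have hcomm := ih _ hlt hX hX' (card_cj s X).symm hXT (cj_le_of_mem (hYT hs) hXT) rfl
    by_contra hne
    obtain ⟨X', hX'def⟩ : ∃ X', X' = cj s X := ⟨_, rfl⟩
    rw [← hX'def] at hne hX' hcomm
    obtain ⟨-, -, h3⟩ := hX.toExact.sup_inf hP hX'.toExact hcomm
    rw [hX.inf_eq_bot hP hX' hcomm (Ne.symm hne), fix_bot] at h3
    have hqX := hX.quad hP
    obtain ⟨K0, hK0⟩ : ∃ K0, K0 = fix act X ⊓ fix act X' := ⟨_, rfl⟩
    have hsK : fix act X ⊓ fix act Y ≤ K0 := fun v hv => hK0 ▸ ⟨hv.1, hX'def ▸ (mem_fix_conj act).2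
      (by rw [hv.2 _ (Y.inv_mem hs)]; exact hv.1)⟩
    have hfix : K0 ≤ fix act X ⊓ fix act Y := by
      have q1 := card_sup_mul_inf (fix act X) (fix act X')
      rw [← h3, AddSubgroup.card_top, ← hK0] at q1
      have q2 := card_sup_mul_inf (fix act X) (fix act Y)
      have q3 : Nat.card ↥(fix act X ⊔ fix act Y) ≤ Nat.card U :=
        Nat.card_le_card_of_injective _ (AddSubgroup.subtype_injective _)
      have hfY : Nat.card (fix act Y) = Nat.card (fix act X') := by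
        have h1 := hY.eq
        have h2 := hX'.eq
        rw [meas, ← hcard] at h1
        rw [meas, hX'def, card_cj, ← hX'def] at h2
        exact Nat.eq_of_mul_eq_mul_left Nat.card_pos (h1.trans h2.symm)
      rw [hfY, ← q1] at q2
      refine (add_eq_of_card hsK (Nat.le_of_mul_le_mul_left ?_ (Nat.card_pos : 0 < Nat.card U))).ge
      exact q2.ge.trans (Nat.mul_le_mul_right _ q3)
    obtain ⟨x, hx, hx1⟩ := (Subgroup.bot_or_exists_ne_one X).resolve_left hX.ne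
    obtain ⟨u, hu⟩ : ∃ u, act x u ≠ u := by
      by_contra hall
      push Not at hall
      exact hx1 (hP.inj (by rw [map_one]; exact AddMonoidHom.ext hall))
    obtain ⟨d, hd⟩ : ∃ d, d = act x u - u := ⟨_, rfl⟩
    have hdK : d ∈ K0 := by
      rw [hK0]
      refine ⟨hd ▸ hqX x hx u, ?_⟩
      obtain ⟨c1, hc1, c2, hc2, e⟩ := AddSubgroup.mem_sup.1 (h3 ▸ AddSubgroup.mem_top u : u ∈ fix act X ⊔ fix act X')
      have e2 : d = act x c2 - c2 := by rw [hd, ← e, map_add, hc1 x hx]; abel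
      intro z hz
      rw [e2, map_sub, hc2 z hz, ← OffSL2.act_mul, ← hcomm x hx z hz, OffSL2.act_mul, hc2 z hz]
    have hx' : s * x * s⁻¹ ∈ X' := hX'def ▸ conj_mem_cj hx
    have hd' : d = act (s * x * s⁻¹) (act s u) - act s u := by
      rw [← OffSL2.act_mul, show s * x * s⁻¹ * s = s * x by group, OffSL2.act_mul, ← map_sub, ← hd, (hfix hdK).2 s hs]
    obtain ⟨hE, hq⟩ := exact_sSup hP (S := {X, X'}) (by rintro Z (rfl | rfl) <;> assumption)
      (by
        rintro Z (rfl | rfl) Z' (rfl | rfl)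
        · exact hX.el.comm
        · exact hcomm
        · exact fun a ha b hb => (hcomm b hb a ha).symm
        · exact hX'.el.comm)
    obtain ⟨B, hB, E0, g, hsp⟩ := exists_split hP (S := {X, X'}) (by rintro Z (rfl | rfl) <;> assumption) hE hq
      ⟨X, Or.inl rfl⟩ (sSup_le (by rintro Z (rfl | rfl); exacts [hXT, hX'def ▸ cj_le_of_mem (hYT hs) hXT]))
    rcases hB with rfl | rfl
    · have hle := hsp.atom_le hP hE hX hX' (le_sSup (Or.inr rfl)) hne
      exact hu (hsp.sep x hx hx1 u (hd ▸ hd' ▸ hsp.c0 _ (hle hx') _))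
    · have hle := hsp.atom_le hP hE hX' hX (le_sSup (Or.inl rfl)) (Ne.symm hne)
      have h5 := hsp.sep _ hx' (fun e => hx1 (conj_eq_one_iff.1 e)) (act s u) (hd' ▸ hd ▸ hsp.c0 x (hle hx) u)
      rw [← sub_eq_zero, ← hd', hd, sub_eq_zero] at h5
      exact hu h5
  have h1 := main hX hY hcard hXT hYT hn
  have h2 := main hY hX hcard.symm hYT hXT (by rw [sup_comm]; exact hn)
  intro a ha b hb
  have hd : a * b * a⁻¹ * b⁻¹ ∈ X ⊓ Y := by
    refine ⟨?_, Y.mul_mem ((h2 a ha).le (conj_mem_cj hb)) (Y.inv_mem hb)⟩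
    rw [show a * b * a⁻¹ * b⁻¹ = a * (b * a⁻¹ * b⁻¹) by group]
    exact X.mul_mem ha ((h1 b hb).le (conj_mem_cj (X.inv_mem ha)))
  by_cases hd1 : a * b * a⁻¹ * b⁻¹ = 1
  · rwa [mul_inv_eq_one, mul_inv_eq_iff_eq_mul] at hd1
  have hXY : fix act X ≤ fix act Y := fun u hu => atom_fix_elem hP hY hd.2 hd1 (hu _ hd.1)
  have hYX : fix act Y ≤ fix act X := fun u hu => atom_fix_elem hP hX hd.1 hd1 (hu _ hd.2)
  refine hP.inj (AddMonoidHom.ext fun u => ?_)
  show act (a * b) u = act (b * a) u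
  obtain ⟨d1, hd1'⟩ : ∃ d1, d1 = act a u - u := ⟨_, rfl⟩
  obtain ⟨d2, hd2'⟩ : ∃ d2, d2 = act b u - u := ⟨_, rfl⟩
  rw [OffSL2.act_mul, OffSL2.act_mul, eq_add_of_sub_eq hd2'.symm, eq_add_of_sub_eq hd1'.symm, map_add, map_add,
    hYX (hd2' ▸ hY.quad hP b hb u) a ha, hXY (hd1' ▸ hX.quad hP a ha u) b hb, eq_add_of_sub_eq hd2'.symm,
    eq_add_of_sub_eq hd1'.symm]
  abel

end CfsgLib.LocalEven.PMinFF
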