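import Cfsg.Agent.Lib.LocalEven.PMinFF.Block
import Cfsg.Agent.Lib.LocalEven.PMinFF.Graph

/-!
# Atoms of order two are transvections

Two of them commute or generate a symmetric group of degree three, and centres of commuting ones are independent.
-/

set_option autoImplicit false
set_option linter.all false

namespace CfsgLib.LocalEven.PMinFF

open Subgroup CfsgLib.LocalEven.OffSL2

variable {P : Type*} [Group P] [Finite P]
variable {U : Type*} [AddCommGroup U] [Finite U]
variable {act : P →* AddMonoid.End U} {T M : Subgroup P} {y : U}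

/-- Scalars of the field with two elements. -/
def zs {V : Type*} [AddCommGroup V] (a : ZMod 2) (c : V) : V := a.val • c

theorem zs_zero {V : Type*} [AddCommGroup V] (c : V) : zs 0 c = 0 := zero_nsmul c

theorem zs_one {V : Type*} [AddCommGroup V] (c : V) : zs 1 c = c := one_nsmul c

/-- `b` is the transvection `u ↦ u + φ(u) c` and generates an atom. -/
structure Tr (act : P →* AddMonoid.End U) (b : P) (c : U) (φ : U →+ ZMod 2) : Prop where
  atom : AtQ 2 act 2 (zpowers b)
  eq : ∀ u, act b u = u + zs (φ u) c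
  ne : c ≠ 0

variable {b d : P} {c c' : U} {φ φ' : U →+ ZMod 2}

theorem zmod2_cases : ∀ a : ZMod 2, a = 0 ∨ a = 1 := by decide

omit [Finite P] [Finite U] in
theorem act_zs (g : P) (a : ZMod 2) (c : U) : act g (zs a c) = zs a (act g c) := map_nsmul (act g) _ _

theorem zs_add (hP : PMod 2 act T M y) (a a' : ZMod 2) (c : U) : zs (a + a') c = zs a c + zs a' c := by
  have h : c + c = 0 := by rw [← two_nsmul]; exact hP.hpU c
  rcases zmod2_cases a with rfl | rfl <;> rcases zmod2_cases a' with rfl | rfl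
  · rw [add_zero, zs_zero, add_zero]
  · rw [zero_add, zs_zero, zero_add]
  · rw [add_zero, zs_zero, add_zero]
  · rw [show (1 : ZMod 2) + 1 = 0 from rfl, zs_zero, zs_one, h]

theorem zs_map {V : Type*} [AddCommGroup V] (f : U →+ V) (a : ZMod 2) (c : U) : f (zs a c) = zs a (f c) :=
  map_nsmul f _ _

theorem zs_inj {V : Type*} [AddCommGroup V] {a a' : ZMod 2} {c : V} (hc : c ≠ 0) (h : zs a c = zs a' c) : a = a' := by
  rcases zmod2_cases a with rfl | rfl <;> rcases zmod2_cases a' with rfl | rfl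
  · rfl
  · rw [zs_zero, zs_one] at h; exact absurd h.symm hc
  · rw [zs_zero, zs_one] at h; exact absurd h hc
  · rfl

theorem Tr.mem_fix (h : Tr act b c φ) {u : U} : u ∈ fix act (zpowers b) ↔ φ u = 0 := by
  constructor
  · intro hu
    have h1 := hu b (mem_zpowers b)
    rw [h.eq, add_eq_left, ← zs_zero c] at h1
    exact zs_inj h.ne h1
  · intro hu x hx
    refine (zpowers_le.2 ?_ : zpowers b ≤ stabV act u) hx
    show act b u = u
    rw [h.eq, hu, zs_zero, add_zero]

theorem Tr.self (hP : PMod 2 act T M y) (h : Tr act b c φ) : φ c = 0 := by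
  obtain ⟨u, hu⟩ : ∃ u, φ u ≠ 0 := by
    by_contra hall
    push Not at hall
    have hbot : zpowers b = ⊥ := by
      rw [zpowers_eq_bot]
      refine hP.inj (AddMonoidHom.ext fun u => ?_)
      show act b u = act 1 u
      rw [h.eq, hall, zs_zero, add_zero, OffSL2.act_one]
    exact h.atom.1.ne hbot
  have h1 := h.atom.1.quad hP b (mem_zpowers b) u
  rw [h.eq, add_sub_cancel_left, show φ u = 1 from by revert hu; generalize φ u = a; revert a; decide, zs_one] at h1
  exact h.mem_fix.1 h1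

theorem Tr.surj (hP : PMod 2 act T M y) (h : Tr act b c φ) : ∃ u, φ u = 1 := by
  by_contra hall
  push Not at hall
  refine h.atom.1.ne (zpowers_eq_bot.2 (hP.inj (AddMonoidHom.ext fun u => ?_)))
  show act b u = act 1 u
  rw [h.eq, show φ u = 0 from by have := hall u; revert this; generalize φ u = a; revert a; decide, zs_zero, add_zero,
    OffSL2.act_one]

theorem exists_tr (hP : PMod 2 act T M y) {Z : Subgroup P} (hZ : AtQ 2 act 2 Z) :
    ∃ (b : P) (c : U) (φ : U →+ ZMod 2), Tr act b c φ ∧ Z = zpowers b := by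
  classical
  obtain ⟨b, hb, hb1⟩ := (Subgroup.bot_or_exists_ne_one Z).resolve_left hZ.1.ne
  have hZb : Z = zpowers b := by
    refine (eq_of_le_of_card_ge (zpowers_le.2 hb) ?_).symm
    rw [Nat.card_zpowers, hZ.2, orderOf_eq_prime (hZ.1.el.exp b hb) hb1]
  have hidx : (fix act Z).index = 2 := by
    have h4 := AddSubgroup.index_mul_card (fix act Z)
    rw [← hZ.1.eq, meas, hZ.2] at h4
    exact Nat.eq_of_mul_eq_mul_right Nat.card_pos h4
  obtain ⟨u0, hu0⟩ : ∃ u, u ∉ fix act Z := by
    by_contra hall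
    push Not at hall
    rw [AddSubgroup.index_eq_one.2 (eq_top_iff.2 fun u _ => hall u)] at hidx
    omega
  have hne : ∀ u, u ∉ fix act Z → act b u ≠ u := fun u hu e => hu (atom_fix_elem hP hZ.1 hb hb1 e)
  let φ : U →+ ZMod 2 :=
    { toFun := fun u => if u ∈ fix act Z then 0 else 1
      map_zero' := by simp
      map_add' := fun u v => by
        simp only [AddSubgroup.add_mem_iff_of_index_two hidx]
        by_cases h1 : u ∈ fix act Z <;> by_cases h2 : v ∈ fix act Z <;> simp [h1, h2]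
        decide }
  refine ⟨b, act b u0 - u0, φ, ⟨hZb ▸ hZ, fun u => ?_, sub_ne_zero.2 (hne u0 hu0)⟩, hZb⟩
  show act b u = u + zs (if u ∈ fix act Z then 0 else 1) _
  split_ifs with hu
  · rw [zs_zero, add_zero]; exact hu b hb
  · rw [zs_one]
    have h3 := ((AddSubgroup.add_mem_iff_of_index_two hidx).2 (iff_of_false hu hu0)) b hb
    rw [map_add] at h3
    have h5 : (act b u - u) + (act b u0 - u0) = 0 := by rw [← sub_eq_zero.2 h3]; abel
    have hneg : -(act b u0 - u0) = act b u0 - u0 := by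
      rw [neg_eq_iff_add_eq_zero, ← two_nsmul]; exact hP.hpU _
    rw [add_eq_zero_iff_eq_neg, hneg] at h5
    rw [← h5]; abel

theorem Tr.unique (hP : PMod 2 act T M y) (h : Tr act b c φ) {c₁ : U} {φ₁ : U →+ ZMod 2} (h' : Tr act b c₁ φ₁) :
    c = c₁ ∧ φ = φ₁ := by
  have h1 : ∀ u, φ u = φ₁ u := fun u => by
    have a := h.mem_fix (u := u)
    have a' := h'.mem_fix (u := u)
    have := a.symm.trans a'
    revert this
    generalize φ u = r
    generalize φ₁ u = r'
    revert r r'
    decide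
  obtain ⟨u, hu⟩ := h.surj hP
  have h2 := (h.eq u).symm.trans (h'.eq u)
  rw [← h1, hu, zs_one, zs_one] at h2
  exact ⟨add_left_cancel h2, AddMonoidHom.ext h1⟩

theorem Tr.conj (h : Tr act b c φ) (k : P) : Tr act (k * b * k⁻¹) (act k c) (φ.comp (act k⁻¹ : U →+ U)) := by
  refine ⟨?_, fun u => ?_, fun e => h.ne (OffSL2.act_injective act k (e.trans (map_zero _).symm))⟩
  · have h2 := h.atom.cj k
    have e : PMinFF.cj k (zpowers b) = zpowers (k * b * k⁻¹) := MonoidHom.map_zpowers _ _
    rwa [e] at h2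
  · rw [OffSL2.act_mul, OffSL2.act_mul, h.eq, map_add, OffSL2.act_inv']
    exact congrArg (u + ·) (act_zs k _ c)

/-- The centres of distinct commuting transvections do not sum to zero. -/
theorem tr_sum_ne_zero (hP : PMod 2 act T M y) {ι : Type*} (s : Finset ι) (hs : s.Nonempty) (b : ι → P) (c : ι → U)
    (φ : ι → U →+ ZMod 2) (ht : ∀ i ∈ s, Tr act (b i) (c i) (φ i)) (hinj : Set.InjOn b s)
    (hc : ∀ i ∈ s, ∀ j ∈ s, b i * b j = b j * b i) : ∑ i ∈ s, c i ≠ 0 := by
  classical
  have hcomm : ∀ i ∈ s, ∀ j ∈ s, ∀ a ∈ zpowers (b i), ∀ a' ∈ zpowers (b j), a * a' = a' * a := by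
    rintro i hi j hj _ ⟨n, rfl⟩ _ ⟨n', rfl⟩
    exact (Commute.zpow_zpow (show Commute (b i) (b j) from hc i hi j hj) n n').eq
  obtain ⟨S, hS⟩ : ∃ S : Set (Subgroup P), S = (fun i => zpowers (b i)) '' s := ⟨_, rfl⟩
  obtain ⟨hE, -⟩ := exact_sSup hP (S := S) (fun X hX => by
      rw [hS] at hX; obtain ⟨i, hi, rfl⟩ := hX; exact (ht i hi).atom.1) (fun X hX Y hY => by
      rw [hS] at hX hY
      obtain ⟨i, hi, rfl⟩ := hX; obtain ⟨j, hj, rfl⟩ := hY
      exact hcomm i hi j hj)
  obtain ⟨k, hk⟩ := exists_into_T hP hE.el.isPGroup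
  have hz : ∀ i, cj k (zpowers (b i)) = zpowers (k * b i * k⁻¹) := fun i => MonoidHom.map_zpowers _ _
  intro h0
  refine sum_ne_zero hP s hs (fun i => zpowers (k * b i * k⁻¹)) (fun i hi j hj e => hinj hi hj ?_)
    (fun i hi => ((ht i hi).conj k).atom.1) (fun i hi => ?_) (fun i hi j hj => ?_) (fun i => act k (c i))
    (fun i hi => ?_) (fun i hi => ((ht i hi).conj k).ne) (by rw [← map_sum, h0, map_zero])
  · have h1 : k * b i * k⁻¹ ∈ zpowers (k * b j * k⁻¹) := by
      rw [← show zpowers (k * b i * k⁻¹) = zpowers (k * b j * k⁻¹) from e]; exact mem_zpowers _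
    rw [← hz, mem_cj, show k⁻¹ * (k * b i * k⁻¹) * k = b i by group] at h1
    obtain ⟨n, hn⟩ := h1
    have hb2 : b j ^ (2 : ℤ) = 1 := by
      rw [zpow_ofNat]; exact (ht j hj).atom.1.el.exp _ (mem_zpowers _)
    have h2 : b i = 1 ∨ b i = b j := by
      rcases Int.even_or_odd n with ⟨r, hr⟩ | ⟨r, hr⟩
      · left; rw [← hn]; show b j ^ n = 1; rw [hr, ← two_mul, zpow_mul, hb2, one_zpow]
      · right; rw [← hn]; show b j ^ n = b j; rw [hr, zpow_add, zpow_mul, hb2, one_zpow, one_mul, zpow_one]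
    exact h2.resolve_left fun e' => (ht i hi).atom.1.ne (zpowers_eq_bot.2 e')
  · rw [← hz]; exact (cj_mono (le_sSup (hS ▸ ⟨i, hi, rfl⟩))).trans hk
  · rintro a ha a' ha'
    rw [← hz, mem_cj] at ha ha'
    simpa [mul_assoc] using congrArg (fun x => k * x * k⁻¹) (hcomm i hi j hj _ ha _ ha')
  · obtain ⟨u, hu⟩ := ((ht i hi).conj k).surj hP
    refine ⟨k * b i * k⁻¹, mem_zpowers _, u, ?_⟩
    rw [((ht i hi).conj k).eq, hu, zs_one, add_sub_cancel_left]

theorem Tr.commute_of (hP : PMod 2 act T M y) (h : Tr act b c φ) (h' : Tr act d c' φ') (h1 : φ c' = 0)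
    (h2 : φ' c = 0) : b * d = d * b := by
  refine hP.inj (AddMonoidHom.ext fun u => ?_)
  show act (b * d) u = act (d * b) u
  rw [OffSL2.act_mul, OffSL2.act_mul, h'.eq u, h.eq u, map_add, map_add, h.eq u, h'.eq u,
    act_zs, act_zs]
  rw [h.eq c', h'.eq c, h1, h2, zs_zero, zs_zero, add_zero, add_zero]
  abel

/-- The symmetry of the relation, and commuting transvections with the same centre coincide. -/
theorem Tr.rel (hP : PMod 2 act T M y) (h : Tr act b c φ) (h' : Tr act d c' φ') (h1 : φ c' = 0) :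
    φ' c = 0 ∧ b * d = d * b := by
  classical
  have hd2 : act b (act b c') = c' := by rw [h.eq c', h1, zs_zero, add_zero, h.eq, h1, zs_zero, add_zero]
  obtain ⟨e, he⟩ : ∃ e, e = b * d * b⁻¹ := ⟨_, rfl⟩
  have hce : act b c' = c' := by rw [h.eq, h1, zs_zero, add_zero]
  have het : Tr act e c' (φ'.comp (act b⁻¹ : U →+ U)) := by
    have := h'.conj b
    rwa [hce, ← he] at this
  have hce' : φ' (act b⁻¹ c') = 0 := by
    conv_lhs => rw [← hce, OffSL2.act_inv]
    exact h'.self hP
  have hde := het.commute_of hP h' hce' (h'.self hP)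
  have heq : e = d := by
    by_contra hne
    refine tr_sum_ne_zero hP (ι := Fin 2) Finset.univ Finset.univ_nonempty ![e, d] ![c', c']
      ![φ'.comp (act b⁻¹ : U →+ U), φ'] ?_ ?_ ?_ ?_
    · intro i _; fin_cases i
      exacts [het, h']
    · intro i _ j _ hij
      fin_cases i <;> fin_cases j <;> simp at hij ⊢
      exacts [hne hij, hne hij.symm]
    · intro i _ j _
      fin_cases i <;> fin_cases j <;> simp [hde]
    · rw [Fin.sum_univ_two]
      show c' + c' = 0
      rw [← two_nsmul]; exact hP.hpU c'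
  have h3 : φ' c = 0 := by
    obtain ⟨u, hu⟩ := h.surj hP
    have h4 : φ' (act b⁻¹ (act b u)) = φ' (act b u) := DFunLike.congr_fun ((heq ▸ het).unique hP h').2 (act b u)
    rw [OffSL2.act_inv, h.eq, hu, zs_one, map_add, left_eq_add] at h4
    exact h4
  exact ⟨h3, h.commute_of hP h' h1 h3⟩

theorem Tr.symm (hP : PMod 2 act T M y) (h : Tr act b c φ) (h' : Tr act d c' φ') : φ c' = φ' c := by
  have a1 := fun e => (h.rel hP h' e).1
  have a2 := fun e => (h'.rel hP h e).1
  revert a1 a2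
  generalize φ c' = r
  generalize φ' c = r'
  revert r r'
  decide

theorem Tr.eq_of_centre (hP : PMod 2 act T M y) (h : Tr act b c φ) (h' : Tr act d c φ') : b = d := by
  by_contra hne
  have hbd := (h.rel hP h' (h.self hP)).2
  refine tr_sum_ne_zero hP (ι := Fin 2) Finset.univ Finset.univ_nonempty ![b, d] ![c, c] ![φ, φ'] ?_ ?_ ?_ ?_
  · intro i _; fin_cases i
    exacts [h, h']
  · intro i _ j _ hij
    fin_cases i <;> fin_cases j <;> simp at hij ⊢
    exacts [hne hij, hne hij.symm]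
  · intro i _ j _
    fin_cases i <;> fin_cases j <;> simp [hbd]
  · rw [Fin.sum_univ_two]
    show c + c = 0
    rw [← two_nsmul]; exact hP.hpU c

theorem Tr.sum (hP : PMod 2 act T M y) (h : Tr act b c φ) (h' : Tr act d c' φ') (h1 : φ c' = 1) :
    Tr act (b * d * b⁻¹) (c + c') (φ + φ') := by
  have h2 : φ' c = 1 := (h.symm hP h').symm.trans h1
  have hc : act b c' = c + c' := by rw [h.eq, h1, zs_one, add_comm]
  have h3 := h'.conj b
  rw [hc] at h3
  have h4 : φ'.comp (act b⁻¹ : U →+ U) = φ + φ' := by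
    refine AddMonoidHom.ext fun u => ?_
    have hbb : b⁻¹ = b := inv_eq_of_mul_eq_one_right (by rw [← pow_two]; exact h.atom.1.el.exp b (mem_zpowers b))
    show φ' (act b⁻¹ u) = φ u + φ' u
    rw [hbb, h.eq, map_add, zs_map φ', h2, add_comm]
    generalize φ u = r
    generalize φ' u = r'
    revert r r'
    decide
  rwa [h4] at h3

/-- The centres. -/
def Dc (act : P →* AddMonoid.End U) : Set U := {c | ∃ b φ, Tr act b c φ}

/-- The functional of a centre. -/
noncomputable def Fc (act : P →* AddMonoid.End U) (c : U) : U →+ ZMod 2 :=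
  @dite _ (∃ b φ, Tr act b c φ) (Classical.propDecidable _) (fun h => h.choose_spec.choose) fun _ => 0

theorem Tr.fc_eq (hP : PMod 2 act T M y) (h : Tr act b c φ) : Fc act c = φ := by
  have he : ∃ b φ, Tr act b c φ := ⟨b, φ, h⟩
  rw [Fc, dif_pos he]
  have h1 := he.choose_spec.choose_spec
  have h2 := h1.eq_of_centre hP h
  obtain ⟨b', hb'⟩ : ∃ b', b' = he.choose := ⟨_, rfl⟩
  have h3 : Tr act b' c he.choose_spec.choose := hb'.symm ▸ h1
  rw [hb'.trans h2] at h3
  exact (Tr.unique hP h3 h).2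

theorem sys_trans (hP : PMod 2 act T M y) : Sys (Dc act) (Fc act) := by
  classical
  refine ⟨fun u => by rw [← two_nsmul]; exact hP.hpU u, ?_, ?_, ?_, ?_⟩
  · rintro a ⟨b, φ, h⟩; rw [h.fc_eq hP]; exact h.self hP
  · rintro a ⟨b, φ, h⟩ a' ⟨b', φ', h'⟩; rw [h.fc_eq hP, h'.fc_eq hP]; exact h.symm hP h'
  · rintro a ⟨b, φ, h⟩ a' ⟨b', φ', h'⟩ e
    rw [h.fc_eq hP] at e
    refine ⟨⟨_, _, h.sum hP h' e⟩, fun v => ?_⟩
    rw [(h.sum hP h' e).fc_eq hP, h.fc_eq hP, h'.fc_eq hP]; rfl
  · intro s hs hmem horth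
    have hch : ∀ a : U, ∃ x : P × (U →+ ZMod 2), a ∈ s → Tr act x.1 a x.2 := fun a => by
      by_cases ha : a ∈ s
      · obtain ⟨b, φ, h⟩ := hmem a ha; exact ⟨(b, φ), fun _ => h⟩
      · exact ⟨(1, 0), fun h => absurd h ha⟩
    choose x hx using hch
    refine tr_sum_ne_zero hP s hs (fun a => (x a).1) id (fun a => (x a).2) hx (fun a ha a' ha' e => ?_) fun a ha a' ha' => ?_
    · have h1 := hx a ha
      have e' : (x a).1 = (x a').1 := e
      rw [e'] at h1
      exact (h1.unique hP (hx a' ha')).1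
    · refine ((hx a ha).rel hP (hx a' ha') ?_).2
      rw [← (hx a ha).fc_eq hP]
      exact horth a ha a' ha'

end CfsgLib.LocalEven.PMinFF
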