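import Cfsg.Agent.Lib.LocalEven.PMinFF.Trans
import Cfsg.Agent.Lib.LocalEven.PMinFF.Big
import Mathlib.GroupTheory.Perm.Sign

/-!
# The blocks of transvections

Each is a symmetric group of degree `2ⁿ + 1` on the even-weight module.
-/

set_option autoImplicit false
set_option linter.all false

namespace CfsgLib.LocalEven.PMinFF

open Subgroup CfsgLib.LocalEven.OffSL2

variable {P : Type*} [Group P] [Finite P]
variable {U : Type*} [AddCommGroup U] [Finite U]
variable {act : P →* AddMonoid.End U} {T M : Subgroup P} {y : U}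

/-- The group of a star. -/
def blk (act : P →* AddMonoid.End U) {m : ℕ} (e : Fin m → U) : Subgroup P :=
  Subgroup.closure {b | ∃ i j φ, i ≠ j ∧ Tr act b (e i + e j) φ}

/-- Every centre is a pair of the star or orthogonal to it. -/
def Closd (act : P →* AddMonoid.End U) {m : ℕ} (e : Fin m → U) : Prop :=
  ∀ d ∈ Dc act, (∃ i j, i ≠ j ∧ d = e i + e j) ∨ ∀ i j, Fc act d (e i + e j) = 0

/-- The block predicate. -/
def isBlk (act : P →* AddMonoid.End U) (E : Subgroup P) : Prop :=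
  ∃ (m : ℕ) (e : Fin m → U), Star (Dc act) (Fc act) e ∧ 3 ≤ m ∧ Closd act e ∧ E = blk act e

theorem Tr.mem_blk {m : ℕ} {e : Fin m → U} {b : P} {φ : U →+ ZMod 2} {i j : Fin m} (hij : i ≠ j)
    (h : Tr act b (e i + e j) φ) : b ∈ blk act e := subset_closure ⟨i, j, φ, hij, h⟩

theorem sum_dl {m : ℕ} (i : Fin m) : ∑ k, dl i k = 1 := by
  simp [dl, Finset.sum_ite_eq]

theorem even_smul {V : Type*} [AddCommGroup V] {n : ℕ} (hn : Even n) {u : V} (hu : u + u = 0) : n • u = 0 := by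
  obtain ⟨r, rfl⟩ := hn
  rw [add_smul, ← smul_add, hu, smul_zero]

theorem odd_smul {V : Type*} [AddCommGroup V] {n : ℕ} (hn : Odd n) {u : V} (hu : u + u = 0) : n • u = u := by
  obtain ⟨r, rfl⟩ := hn
  rw [add_smul, one_smul, mul_comm, mul_smul, two_nsmul, hu, smul_zero, zero_add]

variable (hP : PMod 2 act T M y)
include hP

theorem phi_zero_of_commute {b d : P} {c c' : U} {φ φ' : U →+ ZMod 2} (h : Tr act b c φ) (h' : Tr act d c' φ')
    (hc : b * d = d * b) : φ c' = 0 := by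
  rcases zmod2_cases (φ c') with h1 | h1
  · exact h1
  have h2 := h.sum hP h' h1
  rw [hc, mul_inv_cancel_right] at h2
  exact absurd (add_eq_right.1 (h2.unique hP h').1) h.ne

theorem pairs_sub {m m' : ℕ} {e : Fin m → U} {e' : Fin m' → U} (hs : Star (Dc act) (Fc act) e)
    (hs' : Star (Dc act) (Fc act) e') (hcl : Closd act e) {i j : Fin m} {i' j' : Fin m'} (hij : i ≠ j)
    (hij' : i' ≠ j') (he : e i + e j = e' i' + e' j') :
    ∀ k' l', k' ≠ l' → ∃ k l, k ≠ l ∧ e' k' + e' l' = e k + e l := by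
  -- a pair meeting the shared one
  have hadj : ∀ k' l', k' ≠ l' → Fc act (e' k' + e' l') (e' i' + e' j') = 1 →
      ∃ k l, k ≠ l ∧ e' k' + e' l' = e k + e l := fun k' l' hkl h1 => by
    rcases hcl _ (hs'.mem k' l' hkl) with h | h
    · exact h
    · exact absurd ((he ▸ h i j : Fc act (e' k' + e' l') (e' i' + e' j') = 0).symm.trans h1) zero_ne_one
  intro k' l' hkl
  by_cases hsame : e' k' + e' l' = e' i' + e' j'
  · exact ⟨i, j, hij, hsame.trans he.symm⟩
  by_cases h1 : Fc act (e' k' + e' l') (e' i' + e' j') = 1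
  · exact hadj k' l' hkl h1
  rcases hcl _ (hs'.mem k' l' hkl) with h | h
  · exact h
  exfalso
  have h0 := (zmod2_cases _).resolve_right h1
  rw [hs'.gram k' l' hkl] at h0
  have hki : k' ≠ i' := by
    rintro rfl
    by_cases h2 : l' = j'
    · exact hsame (by rw [h2])
    · simp [dl, hkl.symm, hij', h2] at h0
  have hkj : k' ≠ j' := by
    rintro rfl
    by_cases h2 : l' = i'
    · exact hsame (by rw [h2, add_comm])
    · simp [dl, hkl.symm, hij'.symm, h2] at h0
  have hli : l' ≠ i' := by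
    rintro rfl
    simp [dl, hkl, hij', hkj] at h0
  obtain ⟨a, b, hab, hmide⟩ := hadj i' k' (Ne.symm hki) (by
    rw [hs'.gram i' k' (Ne.symm hki)]; simp [dl, hij', hki, hkj])
  have h8 := h a b
  rw [← hmide, hs'.gram k' l' hkl] at h8
  simp [dl, hki, hli, hkl.symm] at h8

theorem blk_eq_of_share {m m' : ℕ} {e : Fin m → U} {e' : Fin m' → U} (hs : Star (Dc act) (Fc act) e)
    (hs' : Star (Dc act) (Fc act) e') (hcl : Closd act e) (hcl' : Closd act e') {i j : Fin m} {i' j' : Fin m'}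
    (hij : i ≠ j) (hij' : i' ≠ j') (he : e i + e j = e' i' + e' j') : blk act e = blk act e' := by
  refine le_antisymm ((closure_le _).2 ?_) ((closure_le _).2 ?_)
  · rintro b ⟨k, l, φ, hkl, hb⟩
    obtain ⟨k', l', hkl', hk⟩ := pairs_sub hP hs' hs hcl' hij' hij he.symm k l hkl
    exact Tr.mem_blk hkl' (hk ▸ hb)
  · rintro b ⟨k, l, φ, hkl, hb⟩
    obtain ⟨k', l', hkl', hk⟩ := pairs_sub hP hs hs' hcl hij hij' he k l hkl
    exact Tr.mem_blk hkl' (hk ▸ hb)

theorem blk_commute {m m' : ℕ} {e : Fin m → U} {e' : Fin m' → U} (hs : Star (Dc act) (Fc act) e)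
    (hs' : Star (Dc act) (Fc act) e') (hcl : Closd act e) (hcl' : Closd act e') (hne : blk act e ≠ blk act e') :
    ∀ a ∈ blk act e, ∀ b ∈ blk act e', a * b = b * a := by
  have h : blk act e ≤ Subgroup.centralizer (blk act e' : Set P) := by
    refine (closure_le _).2 ?_
    rintro a ⟨i, j, φ, hij, ha⟩
    refine mem_centralizer_iff.2 fun b hb => ?_
    refine ((?_ : blk act e' ≤ Subgroup.centralizer {a}) hb |> mem_centralizer_singleton_iff.1)
    refine (closure_le _).2 ?_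
    rintro b ⟨k, l, φ', hkl, hb'⟩
    refine mem_centralizer_singleton_iff.2 ?_
    rcases hcl' _ ⟨a, φ, ha⟩ with ⟨k', l', hkl', he⟩ | horth
    · exact absurd (blk_eq_of_share hP hs hs' hcl hcl' hij hkl' he) hne
    · refine ((ha.rel hP hb' ?_).2).symm
      rw [← ha.fc_eq hP]; exact horth k l
  exact fun a ha b hb => (mem_centralizer_iff.1 (h ha) b hb).symm

theorem Star.translate {m : ℕ} {e : Fin m → U} (hs : Star (Dc act) (Fc act) e) (k : P) :
    Star (Dc act) (Fc act) (fun i => act k (e i)) ∧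
      ∀ i j, i ≠ j → ∀ u, Fc act (act k (e i + e j)) u = Fc act (e i + e j) (act k⁻¹ u) := by
  have hF : ∀ i j, i ≠ j → ∀ u, Fc act (act k (e i + e j)) u = Fc act (e i + e j) (act k⁻¹ u) := by
    intro i j hij u
    obtain ⟨b, φ, h⟩ := hs.mem i j hij
    rw [(h.conj k).fc_eq hP, h.fc_eq hP]; rfl
  refine ⟨⟨fun i j hij => ?_, fun i j hij l l' => ?_, fun i j l l' hij hll he => ?_⟩, hF⟩
  · obtain ⟨b, φ, h⟩ := hs.mem i j hij
    exact ⟨_, _, by have := h.conj k; rwa [map_add] at this⟩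
  · show Fc act (act k (e i) + act k (e j)) (act k (e l) + act k (e l')) = _
    rw [← map_add, ← map_add, hF i j hij, OffSL2.act_inv, hs.gram i j hij]
  · change act k (e i) + act k (e j) = act k (e l) + act k (e l') at he
    rw [← map_add, ← map_add] at he
    exact hs.inj i j l l' hij hll (OffSL2.act_injective act k he)

theorem Closd.translate {m : ℕ} {e : Fin m → U} (hs : Star (Dc act) (Fc act) e) (hcl : Closd act e) (k : P) :
    Closd act (fun i => act k (e i)) := by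
  rintro d ⟨b, φ, hd⟩
  rcases hcl _ ⟨_, _, hd.conj k⁻¹⟩ with ⟨i, j, hij, he⟩ | horth
  · refine Or.inl ⟨i, j, hij, ?_⟩
    show d = act k (e i) + act k (e j)
    rw [← map_add, ← he, OffSL2.act_inv']
  · refine Or.inr fun i j => ?_
    rw [hd.fc_eq hP, ← map_add]
    have h1 := horth i j
    rw [(hd.conj k⁻¹).fc_eq hP, inv_inv] at h1
    exact h1

theorem blk_translate {m : ℕ} (e : Fin m → U) (k : P) : cj k (blk act e) = blk act (fun i => act k (e i)) := by
  rw [blk, blk, PMinFF.cj, MonoidHom.map_closure]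
  congr 1
  ext b
  constructor
  · rintro ⟨b, ⟨i, j, φ, hij, hb⟩, rfl⟩
    exact ⟨i, j, _, hij, by have := hb.conj k; rwa [map_add] at this⟩
  · rintro ⟨i, j, φ, hij, hb⟩
    refine ⟨k⁻¹ * b * k, ⟨i, j, φ.comp (act k : U →+ U), hij, ?_⟩, ?_⟩
    · have h1 := hb.conj k⁻¹
      rw [inv_inv, map_add, OffSL2.act_inv, OffSL2.act_inv] at h1
      exact h1
    · show k * (k⁻¹ * b * k) * k⁻¹ = b
      group

theorem exists_blk_mem {Z : Subgroup P} (hZ : AtQ 2 act 2 Z) :
    ∃ E, isBlk act E ∧ Z ≤ E ∧ ∃ (m : ℕ) (e : Fin m → U) (b : P) (φ : U →+ ZMod 2) (i j : Fin m),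
      Star (Dc act) (Fc act) e ∧ Closd act e ∧ E = blk act e ∧ Z = zpowers b ∧ i ≠ j ∧ Tr act b (e i + e j) φ := by
  obtain ⟨b, c, φ, hb, rfl⟩ := exists_tr hP hZ
  obtain ⟨d, c', φ', hd, h1⟩ : ∃ d c' φ', Tr act d c' φ' ∧ φ c' = 1 := by
    by_contra hall
    push Not at hall
    refine no_central hP hZ fun X hX => ?_
    obtain ⟨d, c', φ', hd, rfl⟩ := exists_tr hP hX
    rintro _ ⟨n, rfl⟩ _ ⟨n', rfl⟩
    exact (Commute.zpow_zpow (show Commute b d from
      (hb.rel hP hd ((zmod2_cases _).resolve_right (hall d c' φ' hd))).2) n n').eq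
  obtain ⟨m, e, hs, hm, ⟨i, j, hij, he⟩, hcl⟩ := (sys_trans hP).exists_closed_star
    ⟨b, φ, hb⟩ ⟨d, φ', hd⟩ (by rw [hb.fc_eq hP]; exact h1)
  rw [he] at hb
  exact ⟨_, ⟨m, e, hs, hm, hcl, rfl⟩, zpowers_le.2 (Tr.mem_blk hij hb), m, e, b, φ, i, j, hs, hcl, rfl, rfl, hij, hb⟩

/-- A transvection sum over distinct atoms in `T` is moved by some atom. -/
theorem sum_moved {ι : Type*} (s : Finset ι) {i0 : ι} (hi0 : i0 ∈ s) (b : ι → P) (c : ι → U)
    (φ : ι → U →+ ZMod 2) (ht : ∀ i ∈ s, Tr act (b i) (c i) (φ i)) (hinj : Set.InjOn (fun i => zpowers (b i)) s)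
    (hT : ∀ i ∈ s, zpowers (b i) ≤ T) : ∃ X, AtQ 2 act 2 X ∧ ∑ i ∈ s, c i ∉ fix act X := by
  classical
  by_contra hall
  push Not at hall
  have hB : zpowers (b i0) ∈ sig 2 act T 2 := ⟨(ht i0 hi0).atom, hT i0 hi0⟩
  obtain ⟨L, hL, hoth⟩ := exists_pair hP hB
  obtain ⟨l, hl, hne⟩ := hL.moves
  have hfix : ∑ i ∈ s, c i ∈ fix act L := by
    rw [← hL.gen2 l hl hne, fix_sup]
    exact ⟨hall _ hB.1, hall _ (hB.1.cj l)⟩
  rw [← Finset.add_sum_erase s c hi0] at hfix
  have hrest : ∑ i ∈ s.erase i0, c i ∈ fix act L := by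
    refine AddSubgroup.sum_mem _ fun i hi => ?_
    obtain ⟨hii, his⟩ := Finset.mem_erase.1 hi
    obtain ⟨u, hu⟩ := (ht i his).surj hP
    have h1 := (hoth _ ⟨(ht i his).atom, hT i his⟩ fun e => hii (hinj his hi0 e)).2 _ (mem_zpowers _) u
    rwa [(ht i his).eq, hu, zs_one, add_sub_cancel_left] at h1
  obtain ⟨u, hu⟩ := (ht i0 hi0).surj hP
  have h2 := hL.free _ (mem_zpowers _) u (by
    rw [(ht i0 hi0).eq, hu, zs_one, add_sub_cancel_left]; exact (add_mem_cancel_right hrest).1 hfix)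
  rw [(ht i0 hi0).eq, hu, zs_one, add_eq_left] at h2
  exact (ht i0 hi0).ne h2

/-- A closed star has odd size. -/
theorem star_odd {m : ℕ} {e : Fin m → U} (hs : Star (Dc act) (Fc act) e) (hm : 3 ≤ m) (hcl : Closd act e) : Odd m := by
  classical
  haveI : NeZero m := ⟨by omega⟩
  rw [← Nat.not_even_iff_odd]
  intro hev
  obtain ⟨ω, hω⟩ : ∃ ω, ω = ∑ i, e i := ⟨_, rfl⟩
  obtain ⟨S, hsum, hSne, -, hmem, horth⟩ := hs.exists_matching (sys_trans hP) Finset.univ
    (by rwa [Finset.card_univ, Fintype.card_fin])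
  have hch : ∀ a : U, ∃ x : P × (U →+ ZMod 2), a ∈ S → Tr act x.1 a x.2 := fun a => by
    by_cases ha : a ∈ S
    · obtain ⟨i, -, j, -, hij, rfl⟩ := hmem a ha
      obtain ⟨b, φ, hb⟩ := hs.mem i j hij
      exact ⟨(b, φ), fun _ => hb⟩
    · exact ⟨(1, 0), fun h => absurd h ha⟩
  choose x hx using hch
  obtain ⟨k, hk⟩ := exists_into_T hP (exact_sSup hP (S := (fun a => zpowers (x a).1) '' S)
    (by rintro _ ⟨a, ha, rfl⟩; exact (hx a ha).atom.1) (by
      rintro _ ⟨a, ha, rfl⟩ _ ⟨a', ha', rfl⟩ _ ⟨n, rfl⟩ _ ⟨n', rfl⟩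
      exact (Commute.zpow_zpow (show Commute (x a).1 (x a').1 from
        ((hx a ha).rel hP (hx a' ha') (by rw [← (hx a ha).fc_eq hP]; exact horth a ha a' ha')).2) n n').eq)).1.el.isPGroup
  obtain ⟨a0, ha0⟩ := hSne ⟨0, Finset.mem_univ _⟩
  have hz : ∀ a, cj k (zpowers (x a).1) = zpowers (k * (x a).1 * k⁻¹) := fun a => MonoidHom.map_zpowers _ _
  have hinjS : Set.InjOn (fun a => zpowers (k * (x a).1 * k⁻¹)) (S : Set U) := by
    intro a ha a' ha' e1
    have h1 : cj k (zpowers (x a).1) = cj k (zpowers (x a').1) := by rw [hz, hz]; exact e1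
    have h2 : zpowers (x a).1 = zpowers (x a').1 := by
      have := congrArg (cj k⁻¹) h1
      rwa [cj_cj, cj_cj, inv_mul_cancel, cj_one, cj_one] at this
    have h3 := (hx a ha).atom.1.toExact.el
    have h4 : (x a').1 = (x a).1 := by
      obtain ⟨n, hn⟩ : (x a').1 ∈ zpowers (x a).1 := h2 ▸ mem_zpowers _
      rcases Int.even_or_odd n with ⟨r, hr⟩ | ⟨r, hr⟩
      · exfalso
        refine (hx a' ha').atom.1.ne (zpowers_eq_bot.2 ?_)
        rw [← hn]; show (x a).1 ^ n = 1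
        rw [hr, ← two_mul, zpow_mul, zpow_ofNat, h3.exp _ (mem_zpowers _), one_zpow]
      · rw [← hn]; show (x a).1 ^ n = _
        rw [hr, zpow_add, zpow_mul, zpow_ofNat, h3.exp _ (mem_zpowers _), one_zpow, one_mul, zpow_one]
    have h5 := hx a' ha'
    rw [h4] at h5
    exact ((hx a ha).unique hP h5).1
  obtain ⟨X, hX, hXω⟩ := sum_moved hP S ha0 (fun a => k * (x a).1 * k⁻¹) (fun a => act k a)
    (fun a => (x a).2.comp (act k⁻¹ : U →+ U)) (fun a ha => (hx a ha).conj k) hinjS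
    (fun a ha => hz a ▸ (cj_mono (le_sSup (show zpowers (x a).1 ∈ (fun a => zpowers (x a).1) '' (S : Set U) from
      ⟨a, ha, rfl⟩))).trans hk)
  apply hXω
  rw [← map_sum, hsum, ← hω]
  obtain ⟨d, cd, φd, hd, rfl⟩ := exists_tr hP hX
  have hd' := hd.conj k⁻¹
  have hval : φd (act k ω) = 0 := by
    have h0 : Fc act (act k⁻¹ cd) ω = 0 := by
      rcases hcl _ ⟨_, _, hd'⟩ with ⟨i, j, hij, he⟩ | h
      · have hω' : ω = ∑ l, (e l + e 0) := by
          rw [Finset.sum_add_distrib, hω, Finset.sum_const, Finset.card_univ, Fintype.card_fin]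
          rw [even_smul hev ((sys_trans hP).two _), add_zero]
        rw [hω', he, map_sum]
        simp only [hs.gram i j hij, Finset.sum_add_distrib, sum_dl, Finset.sum_const, Finset.card_univ,
          Fintype.card_fin]
        rw [even_smul hev (zmod2_add_self _), even_smul hev (zmod2_add_self _)]
        decide
      · rw [hω, ← hsum, map_sum]
        exact Finset.sum_eq_zero fun a ha => by
          obtain ⟨i, -, j, -, -, rfl⟩ := hmem a ha; exact h i j
    rw [hd'.fc_eq hP, inv_inv] at h0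
    exact h0
  exact hd.mem_fix.2 hval

theorem two_blocks : Blocks 2 act M 2 (isBlk act) := by
  refine ⟨fun Z hZ => ?_, ?_, ?_, ?_, ?_, ?_⟩
  · obtain ⟨E, hE, hZE, -⟩ := exists_blk_mem hP hZ; exact ⟨E, hE, hZE⟩
  · rintro _ ⟨m, e, hs, hm, hcl, rfl⟩
    refine (closure_le _).2 ?_
    rintro b ⟨i, j, φ, hij, hb⟩
    exact le_sSup (show zpowers b ∈ {Z | AtQ 2 act 2 Z ∧ Z ≤ blk act e} from
      ⟨hb.atom, zpowers_le.2 (Tr.mem_blk hij hb)⟩) (mem_zpowers b)
  · rintro _ ⟨m, e, hs, hm, hcl, rfl⟩ x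
    exact ⟨m, _, (hs.translate hP x).1, hm, hcl.translate hP hs x, blk_translate hP e x⟩
  · rintro _ _ ⟨m, e, hs, hm, hcl, rfl⟩ ⟨m', e', hs', hm', hcl', rfl⟩ hne
    exact blk_commute hP hs hs' hcl hcl' hne
  · rintro _ ⟨m, e, hs, hm, hcl, rfl⟩ hEM
    haveI : NeZero m := ⟨by omega⟩
    obtain ⟨i, j, hij⟩ : ∃ i j : Fin m, i ≠ j := ⟨⟨0, by omega⟩, ⟨1, by omega⟩, by simp⟩
    obtain ⟨b, φ, hb⟩ := hs.mem i j hij
    have hbM : zpowers b ≤ M := zpowers_le.2 (hEM (Tr.mem_blk hij hb))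
    obtain ⟨k, hk, hkT⟩ := (hP.syl.mono (L' := M) hP.TM le_top).exists_conj hb.atom.1.el.isPGroup hbM
    have hB : cj k (zpowers b) ∈ sig 2 act T 2 := ⟨hb.atom.cj k, hkT⟩
    obtain ⟨L, hL, -⟩ := exists_pair hP hB
    obtain ⟨l, hl, hne⟩ := hL.moves
    have hB' : cj k (zpowers b) ≤ cj k (blk act e) := cj_mono (zpowers_le.2 (Tr.mem_blk hij hb))
    obtain ⟨E', ⟨m', e', hs', hm', hcl', rfl⟩, hlE, -⟩ := exists_blk_mem hP (hB.1.cj l)
    have hsame : cj k (blk act e) = blk act e' := by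
      by_contra hne'
      rw [blk_translate hP] at hne' hB'
      exact hne (hL.eq_of_commute hB.1.1.el hl fun a ha b' hb' =>
        (blk_commute hP (hs.translate hP k).1 hs' (hcl.translate hP hs k) hcl' hne' b' (hB' hb') a (hlE ha)).symm)
    refine hL.notM ?_
    rw [← hL.gen2 l hl hne]
    exact (sup_le hB' (hsame ▸ hlE)).trans (cj_le.2 fun a ha => M.mul_mem (M.mul_mem hk (hEM ha)) (M.inv_mem hk))
  · rintro _ ⟨m, e, hs, hm, hcl, rfl⟩ v
    classical
    haveI : NeZero m := ⟨by omega⟩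
    have hodd : Odd m := star_odd hP hs hm hcl
    obtain ⟨f, hf⟩ : ∃ f : Fin m → ZMod 2, f = fun i => Fc act (e i + e 0) v := ⟨_, rfl⟩
    obtain ⟨g, hg, hgsum⟩ : ∃ g : Fin m → ZMod 2, (∀ i j, g i + g j = f i + f j) ∧ ∑ i, g i = 0 :=
      ⟨fun i => f i + ∑ k, f k, fun i j => by
        rw [show f i + ∑ k, f k + (f j + ∑ k, f k) = f i + f j + (∑ k, f k + ∑ k, f k) by abel, zmod2_add_self, add_zero],
        by
        rw [Finset.sum_add_distrib, Finset.sum_const, Finset.card_univ, Fintype.card_fin]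
        rw [odd_smul hodd (zmod2_add_self _), zmod2_add_self]⟩
    obtain ⟨I, hI⟩ : ∃ I : Finset (Fin m), I = Finset.univ.filter fun i => g i = 1 := ⟨_, rfl⟩
    have hgI : ∀ i, g i = if i ∈ I then 1 else 0 := fun i => by
      rw [hI]; rcases zmod2_cases (g i) with h | h <;> simp [h]
    have hIeven : Even I.card := by
      have h1 : ((I.card : ℕ) : ZMod 2) = 0 := by
        rw [← hgsum, Finset.sum_congr rfl fun i _ => hgI i, Finset.sum_boole]
        congr 2
        ext; simp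
      exact even_iff_two_dvd.2 ((ZMod.natCast_eq_zero_iff_even).1 h1 |>.two_dvd)
    obtain ⟨S, hsum, -, -, hmem, -⟩ := hs.exists_matching (sys_trans hP) I hIeven
    obtain ⟨w, hw⟩ : ∃ w, w = ∑ i ∈ I, e i := ⟨_, rfl⟩
    refine ⟨w, ?_, ?_⟩
    · rw [hw, ← hsum]
      refine AddSubgroup.sum_mem _ fun a ha => ?_
      obtain ⟨i, -, j, -, hij, rfl⟩ := hmem a ha
      obtain ⟨b, φ, hb⟩ := hs.mem i j hij
      obtain ⟨u, hu⟩ := hb.surj hP
      have h1 := mem_img (act := act) (Tr.mem_blk hij hb) u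
      rwa [hb.eq, hu, zs_one, add_sub_cancel_left] at h1
    intro x hx
    refine (?_ : blk act e ≤ stabV act (v - w)) hx
    refine (closure_le _).2 ?_
    rintro b ⟨i, j, φ, hij, hb⟩
    show act b (v - w) = v - w
    refine hb.mem_fix.2 ?_ b (mem_zpowers b)
    have h1 : φ v = g i + g j := by
      rw [hg, hf, ← hb.fc_eq hP]
      show Fc act (e i + e j) v = Fc act (e i + e 0) v + Fc act (e j + e 0) v
      by_cases hi0 : i = 0
      · subst hi0
        obtain ⟨b', φ', hb'⟩ := hs.mem j 0 hij.symm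
        rw [(sys_trans hP).two, add_comm (e 0) (e j)]
        have hF0 : Fc act (0 : U) v = 0 := by
          rw [Fc, dif_neg]
          · rfl
          · rintro ⟨b'', φ'', h''⟩; exact h''.ne rfl
        rw [hF0, zero_add]
      by_cases hj0 : j = 0
      · subst hj0
        rw [(sys_trans hP).two]
        have hF0 : Fc act (0 : U) v = 0 := by
          rw [Fc, dif_neg]
          · rfl
          · rintro ⟨b'', φ'', h''⟩; exact h''.ne rfl
        rw [hF0, add_zero]
      rw [hs.lin (sys_trans hP) hij hi0 (Ne.symm hj0) v, add_comm (e 0) (e j)]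
    have h2 : φ w = g i + g j := by
      have hwe : w = ∑ k ∈ I, (e k + e 0) := by
        rw [Finset.sum_add_distrib, hw, Finset.sum_const]
        obtain ⟨r, hr⟩ := hIeven
        rw [hr, add_smul, (sys_trans hP).two, add_zero]
      rw [hwe, map_sum, Finset.sum_congr rfl fun k _ => by rw [← hb.fc_eq hP, hs.gram i j hij],
        Finset.sum_add_distrib, Finset.sum_add_distrib, Finset.sum_add_distrib, hgI i, hgI j]
      simp only [dl, Finset.sum_ite_eq, Finset.sum_const]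
      obtain ⟨r, hr⟩ := hIeven
      rw [hr, add_smul, add_smul, zmod2_add_self, zmod2_add_self, add_zero, add_zero]
    rw [map_sub, h1, h2, sub_self]

end CfsgLib.LocalEven.PMinFF
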