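import Cfsg.Agent.Lib.LocalEven.PMinFF.Two
import Mathlib.GroupTheory.Perm.Closure

/-!
# The degree of a transvection block and its natural module
-/

set_option autoImplicit false
set_option linter.all false

namespace CfsgLib.LocalEven.PMinFF

open Subgroup CfsgLib.LocalEven.OffSL2

variable {P : Type*} [Group P] [Finite P]
variable {U : Type*} [AddCommGroup U] [Finite U]
variable {act : P →* AddMonoid.End U} {T M : Subgroup P} {y : U}
variable (hP : PMod 2 act T M y)
include hP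

omit hP in
theorem Tr.gen_eq {b d : P} {c c' : U} {φ φ' : U →+ ZMod 2} (h : Tr act b c φ) (h' : Tr act d c' φ')
    (e : zpowers b = zpowers d) : b = d := by
  obtain ⟨n, hn⟩ : d ∈ zpowers b := e ▸ mem_zpowers d
  have h3 := h.atom.1.toExact.el
  rcases Int.even_or_odd n with ⟨r, hr⟩ | ⟨r, hr⟩
  · exfalso
    refine h'.atom.1.ne (zpowers_eq_bot.2 ?_)
    rw [← hn]; show b ^ n = 1
    rw [hr, ← two_mul, zpow_mul, zpow_ofNat, h3.exp _ (mem_zpowers _), one_zpow]
  · rw [← hn]; show b = b ^ n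
    rw [hr, zpow_add, zpow_mul, zpow_ofNat, h3.exp _ (mem_zpowers _), one_zpow, one_mul, zpow_one]

theorem centre_pair {m : ℕ} {e : Fin m → U} (hs : Star (Dc act) (Fc act) e) (hm : 3 ≤ m) (hcl : Closd act e) {b : P} {c : U}
    {φ : U →+ ZMod 2} (hb : Tr act b c φ) (hbe : b ∈ blk act e) : ∃ i j, i ≠ j ∧ c = e i + e j := by
  rcases hcl c ⟨b, φ, hb⟩ with h | horth
  · exact h
  exfalso
  refine no_central hP hb.atom fun X hX => ?_
  obtain ⟨E, hE, hXE⟩ := (two_blocks hP).mem X hX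
  intro a ha x hx
  by_cases he : blk act e = E
  · have hle : blk act e ≤ Subgroup.centralizer {b} := by
      refine (closure_le _).2 ?_
      rintro d ⟨i, j, φ', hij, hd⟩
      refine mem_centralizer_singleton_iff.2 ((hb.rel hP hd ?_).2).symm
      rw [← hb.fc_eq hP]; exact horth i j
    have h1 : Commute b x := (mem_centralizer_singleton_iff.1 (hle (he ▸ hXE hx))).symm
    obtain ⟨n, rfl⟩ := ha
    exact (h1.zpow_left n).eq
  · exact (two_blocks hP).comm _ E ⟨m, e, hs, hm, hcl, rfl⟩ hE he a ((zpowers_le.2 hbe) ha) x (hXE hx)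

theorem star_pow_aux {m : ℕ} {e : Fin m → U} (hs : Star (Dc act) (Fc act) e) (hm : 3 ≤ m) (hcl : Closd act e)
    {B0 : Subgroup P} (hB0 : B0 ∈ sig 2 act T 2) (hB0e : B0 ≤ blk act e) : ∃ n : ℕ, 1 ≤ n ∧ m = 2 ^ n + 1 := by
  classical
  obtain ⟨N, hN⟩ : ∃ N : Set (Subgroup P), N = {X | X ∈ sig 2 act T 2 ∧ X ≤ blk act e} := ⟨_, rfl⟩
  have hNmem : ∀ X, X ∈ N ↔ X ∈ sig 2 act T 2 ∧ X ≤ blk act e := fun X => by rw [hN]; rfl
  have hch : ∀ X : Subgroup P, ∃ x : P × U × (U →+ ZMod 2), AtQ 2 act 2 X → Tr act x.1 x.2.1 x.2.2 ∧ X = zpowers x.1 := by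
    intro X
    by_cases hX : AtQ 2 act 2 X
    · obtain ⟨b, c, φ, h1, h2⟩ := exists_tr hP hX; exact ⟨(b, c, φ), fun _ => ⟨h1, h2⟩⟩
    · exact ⟨(1, 0, 0), fun h => absurd h hX⟩
  choose d hd using hch
  have hbl : ∀ X ∈ N, (d X).1 ∈ blk act e := fun X hX => by
    obtain ⟨-, h2⟩ := hd X ((hNmem X).1 hX).1.1
    exact ((hNmem X).1 hX).2 (h2.ge (mem_zpowers _))
  choose I J hIJ using fun X : N => centre_pair hP hs hm hcl (hd X.1 ((hNmem X.1).1 X.2).1.1).1 (hbl X.1 X.2)
  have hcommX : ∀ X Y : N, Fc act (e (I X) + e (J X)) (e (I Y) + e (J Y)) = 0 := by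
    intro X Y
    obtain ⟨hX1, hX2⟩ := hd X.1 ((hNmem X.1).1 X.2).1.1
    obtain ⟨hY1, hY2⟩ := hd Y.1 ((hNmem Y.1).1 Y.2).1.1
    rw [← (hIJ X).2, ← (hIJ Y).2, hX1.fc_eq hP]
    refine phi_zero_of_commute hP hX1 hY1 ?_
    exact sig_comm hP _ ((hNmem X.1).1 X.2).1 _ ((hNmem Y.1).1 Y.2).1 _ (hX2.ge (mem_zpowers _)) _
      (hY2.ge (mem_zpowers _))
  have hsamec : ∀ X Y : N, e (I X) + e (J X) = e (I Y) + e (J Y) → X = Y := by
    intro X Y he
    obtain ⟨hX1, hX2⟩ := hd X.1 ((hNmem X.1).1 X.2).1.1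
    obtain ⟨hY1, hY2⟩ := hd Y.1 ((hNmem Y.1).1 Y.2).1.1
    rw [← (hIJ X).2, ← (hIJ Y).2] at he
    refine Subtype.ext ?_
    rw [hX2, hY2, hX1.eq_of_centre hP (he.symm ▸ hY1)]
  have hdisj : ∀ X Y : N, X ≠ Y → I X ≠ I Y ∧ I X ≠ J Y ∧ J X ≠ I Y ∧ J X ≠ J Y := by
    intro X Y hXY
    have h0 := hcommX X Y
    rw [hs.gram _ _ (hIJ X).1] at h0
    have hne : ¬ ((I X = I Y ∧ J X = J Y) ∨ (I X = J Y ∧ J X = I Y)) := by
      rintro (⟨e1, e2⟩ | ⟨e1, e2⟩) <;> refine hXY (hsamec X Y ?_) <;> rw [e1, e2]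
      rw [add_comm]
    have a1 := (hIJ X).1
    have a2 := (hIJ Y).1
    refine ⟨fun e1 => hne ?_, fun e1 => hne ?_, fun e1 => hne ?_, fun e1 => hne ?_⟩
    · by_cases e2 : J X = J Y
      · exact Or.inl ⟨e1, e2⟩
      · simp [dl, e1, e2, a2, show J X ≠ I Y from fun h => a1 (e1.trans h.symm)] at h0
    · by_cases e2 : J X = I Y
      · exact Or.inr ⟨e1, e2⟩
      · simp [dl, e1, e2, a2.symm, show J X ≠ J Y from fun h => a1 (e1.trans h.symm)] at h0
    · by_cases e2 : I X = J Y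
      · exact Or.inr ⟨e2, e1⟩
      · simp [dl, e1, e2, a2, show I X ≠ I Y from fun h => a1 (h.trans e1.symm)] at h0
    · by_cases e2 : I X = I Y
      · exact Or.inl ⟨e2, e1⟩
      · simp [dl, e1, e2, a2.symm, show I X ≠ J Y from fun h => a1 (h.trans e1.symm)] at h0
  obtain ⟨G, hG⟩ : ∃ G : N × Bool → Fin m, G = fun x => cond x.2 (I x.1) (J x.1) := ⟨_, rfl⟩
  have hGinj : Function.Injective G := by
    rintro ⟨X, bX⟩ ⟨Y, bY⟩ h
    rw [hG] at h
    by_cases hXY : X = Y
    · subst hXY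
      cases bX <;> cases bY <;> first | rfl | exact absurd h (hIJ X).1 | exact absurd h (hIJ X).1.symm
    · obtain ⟨h1, h2, h3, h4⟩ := hdisj X Y hXY
      cases bX <;> cases bY <;>
        first | exact absurd h h1 | exact absurd h h2 | exact absurd h h3 | exact absurd h h4
  have hcov : ∀ a b : Fin m, a ∉ Set.range G → b ∉ Set.range G → a = b := by
    intro a b ha hb
    by_contra hab
    obtain ⟨b0, φ0, hb0⟩ := hs.mem a b hab
    have hmem : zpowers b0 ∈ sig 2 act T 2 := by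
      refine mem_sig_of_commute hP hb0.atom fun X hX => ?_
      obtain ⟨hX1, hX2⟩ := hd X hX.1
      have h0 : φ0 (d X).2.1 = 0 := by
        rw [hb0.symm hP hX1, ← hX1.fc_eq hP]
        rcases hcl _ ⟨_, _, hX1⟩ with ⟨i, j, hij, he⟩ | horth
        · have hXe : X ≤ blk act e := hX2 ▸ zpowers_le.2 (Tr.mem_blk hij (he ▸ hX1))
          obtain ⟨h1, h2⟩ := hIJ ⟨X, (hNmem X).2 ⟨hX, hXe⟩⟩
          rw [h2, hs.gram _ _ h1]
          have q1 : ∀ v, (v = a ∨ v = b) → I ⟨X, (hNmem X).2 ⟨hX, hXe⟩⟩ ≠ v ∧ J ⟨X, (hNmem X).2 ⟨hX, hXe⟩⟩ ≠ v := by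
            intro v hv
            refine ⟨fun h => ?_, fun h => ?_⟩
            · have : v ∈ Set.range G := ⟨(⟨X, (hNmem X).2 ⟨hX, hXe⟩⟩, true), by rw [hG]; exact h⟩
              rcases hv with rfl | rfl <;> contradiction
            · have : v ∈ Set.range G := ⟨(⟨X, (hNmem X).2 ⟨hX, hXe⟩⟩, false), by rw [hG]; exact h⟩
              rcases hv with rfl | rfl <;> contradiction
          simp [dl, q1 a (Or.inl rfl), q1 b (Or.inr rfl)]
        · exact horth a b
      rintro _ ⟨n, rfl⟩ x hx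
      rw [hX2] at hx
      obtain ⟨n', rfl⟩ := hx
      exact (Commute.zpow_zpow (show Commute b0 (d X).1 from (hb0.rel hP hX1 h0).2) n n').eq
    obtain ⟨h1, h2⟩ := hIJ ⟨zpowers b0, (hNmem _).2 ⟨hmem, zpowers_le.2 (Tr.mem_blk hab hb0)⟩⟩
    obtain ⟨hd1, hd2⟩ := hd (zpowers b0) hmem.1
    have hc : e a + e b = (d (zpowers b0)).2.1 := by
      have h3 := hd1
      rw [← hb0.gen_eq hd1 hd2] at h3
      exact (hb0.unique hP h3).1
    rw [h2] at hc
    refine ha ?_
    rcases hs.inj _ _ _ _ hab h1 hc with ⟨e1, -⟩ | ⟨e1, -⟩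
    · exact ⟨(⟨zpowers b0, (hNmem _).2 ⟨hmem, zpowers_le.2 (Tr.mem_blk hab hb0)⟩⟩, true), by rw [hG]; exact e1.symm⟩
    · exact ⟨(⟨zpowers b0, (hNmem _).2 ⟨hmem, zpowers_le.2 (Tr.mem_blk hab hb0)⟩⟩, false), by rw [hG]; exact e1.symm⟩
  have hodd := star_odd hP hs hm hcl
  have hcard : m = 2 * Nat.card N + 1 := by
    have h1 := Nat.card_le_card_of_injective G hGinj
    rw [Nat.card_prod, show Nat.card Bool = 2 by simp, Nat.card_fin] at h1
    have h2 : (Set.range G)ᶜ.ncard ≤ 1 := (Set.ncard_le_one_iff (Set.toFinite _)).2 fun {a b} ha hb => hcov a b ha hb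
    have h3 := Set.ncard_add_ncard_compl (Set.range G)
    rw [← Set.image_univ, Set.ncard_image_of_injective _ hGinj, Set.ncard_univ, Nat.card_prod,
      show Nat.card Bool = 2 by simp, Nat.card_fin] at h3
    rw [← Set.image_univ] at h2
    obtain ⟨r, hr⟩ := hodd
    omega
  obtain ⟨inf, hinf⟩ : ∃ a, a ∉ Set.range G := by
    by_contra hall
    push Not at hall
    have := Nat.card_le_card_of_surjective G hall
    rw [Nat.card_prod, show Nat.card Bool = 2 by simp, Nat.card_fin] at this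
    omega
  have hbl2 := two_blocks hP
  have hEb : isBlk act (blk act e) := ⟨m, e, hs, hm, hcl, rfl⟩
  by_cases hsingle : ∀ X ∈ N, ∃ t ∈ T, cj t B0 = X
  · obtain ⟨T1, hT1⟩ : ∃ T1, T1 = T ⊓ Subgroup.normalizer (blk act e : Set P) := ⟨_, rfl⟩
    letI : MulAction T1 (Subgroup P) :=
      { smul := fun t X => cj (t : P) X
        one_smul := fun X => cj_one X
        mul_smul := fun t s X => (cj_cj (t : P) s X).symm }
    have horb : MulAction.orbit T1 B0 = N := by
      ext X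
      constructor
      · rintro ⟨⟨t, ht⟩, rfl⟩
        rw [hT1] at ht
        refine (hNmem _).2 ⟨⟨hB0.1.cj t, cj_le_of_mem ht.1 hB0.2⟩, ?_⟩
        exact (cj_mono hB0e).trans (cj_eq_self ht.2).le
      · intro hX
        obtain ⟨t, ht, hte⟩ := hsingle X hX
        refine ⟨⟨t, hT1 ▸ ⟨ht, mem_normalizer_of_conj (cj_le.1 ?_)⟩⟩, hte⟩
        refine le_of_eq (hbl2.atom_unique hP (hB0.1.cj t) (hbl2.conj _ hEb t) hEb (cj_mono hB0e) ?_)
        rw [hte]; exact ((hNmem X).1 hX).2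
    obtain ⟨n, hn⟩ := (hP.syl.pgr.to_le (hT1 ▸ inf_le_left) : IsPGroup 2 T1).card_orbit B0
    rw [horb] at hn
    refine ⟨n + 1, by omega, ?_⟩
    rw [hcard, hn, pow_succ']
  exfalso
  push Not at hsingle
  obtain ⟨D1, hD1, hD1ne⟩ := hsingle
  have hB0N : B0 ∈ N := (hNmem _).2 ⟨hB0, hB0e⟩
  -- the stabiliser of an orbit sum
  have horbit : ∀ X0 ∈ sig 2 act T 2, ∀ a : Fin m, a ≠ inf →
      (∀ X : N, (∃ t ∈ T, cj t X0 = X) → a ≠ I X ∧ a ≠ J X) →
      ∀ b φ, Tr act b (e a + e inf) φ → b ∈ M := by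
    intro X0 hX0 a hainf havoid b φ hb
    obtain ⟨O, hO⟩ : ∃ O : Finset (Subgroup P), ∀ X, X ∈ O ↔ ∃ t ∈ T, cj t X0 = X :=
      ⟨(Set.toFinite ((fun t => cj t X0) '' (T : Set P))).toFinset, fun X => by
        rw [Set.Finite.mem_toFinset]; exact Iff.rfl⟩
    have hOs : ∀ X ∈ O, X ∈ sig 2 act T 2 := fun X hX => by
      obtain ⟨t, ht, rfl⟩ := (hO X).1 hX
      exact ⟨hX0.1.cj t, cj_le_of_mem ht hX0.2⟩
    obtain ⟨y1, hy1⟩ : ∃ y1, y1 = ∑ X ∈ O, (d X).2.1 := ⟨_, rfl⟩
    have hTy : T ≤ stabV act y1 := by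
      intro t ht
      show act t y1 = y1
      rw [hy1, map_sum]
      refine Finset.sum_nbij (fun X => cj t X) (fun X hX => ?_) (fun X _ X' _ e' => ?_) (fun X hX => ?_) (fun X hX => ?_)
      · obtain ⟨s, hs', rfl⟩ := (hO X).1 hX
        exact (hO _).2 ⟨t * s, T.mul_mem ht hs', (cj_cj t s X0).symm⟩
      · have := congrArg (cj t⁻¹) e'
        rwa [cj_cj, cj_cj, inv_mul_cancel, cj_one, cj_one] at this
      · obtain ⟨s, hs', rfl⟩ := (hO X).1 (by simpa using hX)
        exact ⟨cj (t⁻¹ * s) X0, by simpa using (hO _).2 ⟨t⁻¹ * s, T.mul_mem (T.inv_mem ht) hs', rfl⟩,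
          by show cj t (cj _ X0) = _; rw [cj_cj, mul_inv_cancel_left]⟩
      · obtain ⟨h1, h2⟩ := hd X (hOs X hX).1
        obtain ⟨h3, h4⟩ := hd (cj t X) ((hOs X hX).1.cj t)
        have h5 := h1.conj t
        have hb2 : t * (d X).1 * t⁻¹ = (d (cj t X)).1 := h5.gen_eq h3 (by
          rw [← h4]
          conv_rhs => rw [h2]
          exact (MonoidHom.map_zpowers (MulAut.conj t).toMonoidHom (d X).1).symm)
        rw [hb2] at h5
        exact (h5.unique hP h3).1
    obtain ⟨Z, hZ, hZy⟩ := sum_moved hP O ((hO X0).2 ⟨1, T.one_mem, cj_one X0⟩) (fun X => (d X).1)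
      (fun X => (d X).2.1) (fun X => (d X).2.2) (fun X hX => (hd X (hOs X hX).1).1)
      (fun X hX X' hX' e' => ((hd X (hOs X hX).1).2.trans e').trans (hd X' (hOs X' hX').1).2.symm)
      (fun X hX => (hd X (hOs X hX).1).2 ▸ (hOs X hX).2)
    have hle : stabV act y1 ≤ M := hP.pmin _ hTy fun e' => hZy fun z hz => by
      rw [← hy1]; exact e'.ge (mem_top z)
    refine hle (show act b y1 = y1 from hb.mem_fix.2 ?_ b (mem_zpowers b))
    rw [hy1, map_sum]
    refine Finset.sum_eq_zero fun X hX => ?_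
    obtain ⟨hX1, hX2⟩ := hd X (hOs X hX).1
    rw [hb.symm hP hX1, ← hX1.fc_eq hP]
    rcases hcl _ ⟨_, _, hX1⟩ with ⟨i, j, hij, he⟩ | horth
    · have hXe : X ≤ blk act e := hX2 ▸ zpowers_le.2 (Tr.mem_blk hij (he ▸ hX1))
      obtain ⟨XN, hXN⟩ : ∃ XN : N, (XN : Subgroup P) = X := ⟨⟨X, (hNmem X).2 ⟨hOs X hX, hXe⟩⟩, rfl⟩
      obtain ⟨h1, h2⟩ := hIJ XN
      rw [hXN] at h2
      obtain ⟨q1, q2⟩ := havoid XN (hXN ▸ (hO X).1 hX)
      rw [h2, hs.gram _ _ h1]
      have q3 : I XN ≠ inf := fun h => hinf ⟨(XN, true), by rw [hG]; exact h⟩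
      have q4 : J XN ≠ inf := fun h => hinf ⟨(XN, false), by rw [hG]; exact h⟩
      simp [dl, q1.symm, q2.symm, q3, q4]
    · exact horth a inf
  have hall : ∀ a, a ≠ inf → ∀ b φ, Tr act b (e a + e inf) φ → b ∈ M := by
    intro a ha
    by_cases hav : ∀ X : N, (∃ t ∈ T, cj t B0 = X) → a ≠ I X ∧ a ≠ J X
    · exact horbit B0 hB0 a ha hav
    refine horbit D1 ((hNmem D1).1 hD1).1 a ha fun X hX => ?_
    push Not at hav
    obtain ⟨Y, ⟨t, ht, htY⟩, hY⟩ := hav
    have hXY : X ≠ Y := by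
      rintro rfl
      obtain ⟨t', ht', htX⟩ := hX
      refine hD1ne (t'⁻¹ * t) (T.mul_mem (T.inv_mem ht') ht) ?_
      rw [← cj_cj, htY, ← htX, cj_cj, inv_mul_cancel, cj_one]
    obtain ⟨h1, h2, h3, h4⟩ := hdisj X Y hXY
    by_cases haI : a = I Y
    · subst haI; exact ⟨h1.symm, h3.symm⟩
    · have haJ := hY haI
      subst haJ; exact ⟨h2.symm, h4.symm⟩
  refine hbl2.notM _ hEb ((closure_le _).2 ?_)
  rintro b ⟨i, j, φ, hij, hb⟩
  by_cases hi : i = inf
  · subst hi
    exact hall j hij.symm b φ (by rwa [add_comm] at hb)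
  by_cases hj : j = inf
  · subst hj
    exact hall i hi b φ hb
  obtain ⟨b1, φ1, h1⟩ := hs.mem i inf hi
  obtain ⟨b2, φ2, h2⟩ := hs.mem j inf hj
  have h12 : φ1 (e j + e inf) = 1 := by
    rw [← h1.fc_eq hP, hs.gram i inf hi]; simp [dl, hij, hi, Ne.symm hj]
  have h3 := h1.sum hP h2 h12
  have he : e i + e inf + (e j + e inf) = e i + e j := by
    rw [show e i + e inf + (e j + e inf) = e i + e j + (e inf + e inf) by abel, (sys_trans hP).two, add_zero]
  rw [he] at h3
  rw [hb.eq_of_centre hP h3]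
  exact M.mul_mem (M.mul_mem (hall i hi b1 φ1 h1) (hall j hj b2 φ2 h2)) (M.inv_mem (hall i hi b1 φ1 h1))

/-- The degree of a closed star is one more than a power of two. -/
theorem star_pow {m : ℕ} {e : Fin m → U} (hs : Star (Dc act) (Fc act) e) (hm : 3 ≤ m) (hcl : Closd act e) :
    ∃ n : ℕ, 1 ≤ n ∧ m = 2 ^ n + 1 := by
  have h01 : (⟨0, by omega⟩ : Fin m) ≠ ⟨1, by omega⟩ := by simp
  obtain ⟨b, φ, hb⟩ := hs.mem _ _ h01
  obtain ⟨k, hk⟩ := exists_into_T hP hb.atom.1.el.isPGroup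
  refine star_pow_aux hP (hs.translate hP k).1 hm (hcl.translate hP hs k) (B0 := cj k (zpowers b))
    ⟨hb.atom.cj k, hk⟩ ?_
  rw [← blk_translate hP]
  exact cj_mono (zpowers_le.2 (Tr.mem_blk h01 hb))

/-- A block is the symmetric group on the even-weight module. -/
theorem blk_nat {E : Subgroup P} (hE : isBlk act E) :
    ∃ (n : ℕ) (ρ : E →* Equiv.Perm (Fin (2 ^ n + 1))) (ψ : U →+ (Fin (2 ^ n + 1) → ZMod 2)),
      1 ≤ n ∧ Function.Bijective ρ ∧ (∀ v, ∑ i, ψ v i = 0) ∧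
        (∀ g : Fin (2 ^ n + 1) → ZMod 2, ∑ i, g i = 0 → ∃ v, ψ v = g) ∧ (∀ v, ψ v = 0 ↔ v ∈ fix act E) ∧
        ∀ (x : E) v i, ψ (act (x : P) v) i = ψ v ((ρ x)⁻¹ i) := by
  classical
  obtain ⟨m, e, hs, hm, hcl, rfl⟩ := hE
  have hE : isBlk act (blk act e) := ⟨m, e, hs, hm, hcl, rfl⟩
  obtain ⟨n, hn, rfl⟩ := star_pow hP hs hm hcl
  have hS := sys_trans hP
  have hodd := star_odd hP hs hm hcl
  obtain ⟨z, -⟩ : ∃ z : Fin (2 ^ n + 1), z = 0 := ⟨0, rfl⟩
  obtain ⟨F, hF⟩ : ∃ F : Fin (2 ^ n + 1) → U →+ ZMod 2, ∀ i, F i = Fc act (e i + e z) := ⟨_, fun _ => rfl⟩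
  have hzero : Fc act (0 : U) = 0 := by
    rw [Fc, dif_neg]
    rintro ⟨b, φ, h⟩; exact h.ne rfl
  have hlin : ∀ i j, i ≠ j → ∀ v, Fc act (e i + e j) v = F i v + F j v := by
    intro i j hij v
    rw [hF, hF]
    by_cases hi : i = z
    · subst hi
      rw [hS.two, hzero, AddMonoidHom.zero_apply, zero_add, add_comm (e j) (e i)]
    by_cases hj : j = z
    · subst hj
      rw [hS.two, hzero, AddMonoidHom.zero_apply, add_zero]
    rw [hs.lin hS hij hi (Ne.symm hj) v, add_comm (e z) (e j)]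
  let ψ : U →+ (Fin (2 ^ n + 1) → ZMod 2) :=
    { toFun := fun v i => F i v + ∑ k, F k v
      map_zero' := funext fun i => by simp
      map_add' := fun v w => funext fun i => by
        simp only [map_add, Pi.add_apply, Finset.sum_add_distrib]; abel }
  have hψ : ∀ v i, ψ v i = F i v + ∑ k, F k v := fun v i => rfl
  have hsum0 : ∀ v, ∑ i, ψ v i = 0 := by
    intro v
    rw [Finset.sum_congr rfl fun i _ => hψ v i, Finset.sum_add_distrib, Finset.sum_const, Finset.card_univ,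
      Fintype.card_fin, odd_smul hodd (zmod2_add_self _), zmod2_add_self]
  have hdiff : ∀ i j, i ≠ j → ∀ v, ψ v i + ψ v j = Fc act (e i + e j) v := by
    intro i j hij v
    rw [hlin i j hij, hψ, hψ, show F i v + ∑ k, F k v + (F j v + ∑ k, F k v) =
      F i v + F j v + (∑ k, F k v + ∑ k, F k v) by abel, zmod2_add_self, add_zero]
  have huniq : ∀ v (g : Fin (2 ^ n + 1) → ZMod 2), ∑ i, g i = 0 →
      (∀ i j, i ≠ j → Fc act (e i + e j) v = g i + g j) → ψ v = g := by
    intro v g hg hv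
    funext i
    have hc : ∀ k, ψ v k + g k = ψ v i + g i := fun k => by
      by_cases hki : k = i
      · rw [hki]
      have h1 := hdiff k i hki v
      rw [hv k i hki] at h1
      exact (show ∀ a b c d : ZMod 2, a + b = c + d → a + c = b + d by decide) _ _ _ _ h1
    have h2 : ∑ k, (ψ v k + g k) = ψ v i + g i := by
      rw [Finset.sum_congr rfl fun k _ => hc k, Finset.sum_const, Finset.card_univ, Fintype.card_fin,
        odd_smul hodd (zmod2_add_self _)]
    rw [Finset.sum_add_distrib, hsum0, hg, add_zero] at h2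
    have := congrArg (· + g i) h2
    simpa [add_assoc, zmod2_add_self] using this.symm
  have hker : ∀ v, ψ v = 0 ↔ v ∈ fix act (blk act e) := by
    intro v
    constructor
    · intro h0 x hx
      refine (?_ : blk act e ≤ stabV act v) hx
      refine (closure_le _).2 ?_
      rintro b ⟨i, j, φ, hij, hb⟩
      refine hb.mem_fix.2 ?_ b (mem_zpowers b)
      rw [← hb.fc_eq hP, ← hdiff i j hij, h0]
      simp
    · intro hv
      refine huniq v 0 (by simp) fun i j hij => ?_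
      obtain ⟨b, φ, hb⟩ := hs.mem i j hij
      rw [hb.fc_eq hP, hb.mem_fix.1 fun x hx => hv x (zpowers_le.2 (Tr.mem_blk hij hb) hx)]
      simp
  have hpairψ : ∀ i j, i ≠ j → ψ (e i + e j) = fun k => dl i k + dl j k := by
    intro i j hij
    refine huniq _ _ (by rw [Finset.sum_add_distrib, sum_dl, sum_dl, zmod2_add_self]) fun k l hkl => ?_
    rw [hs.gram k l hkl]
    simp only [dl, eq_comm (a := i), eq_comm (a := j)]
    abel
  have hsurj : ∀ g : Fin (2 ^ n + 1) → ZMod 2, ∑ i, g i = 0 → ∃ v, ψ v = g := by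
    intro g hg
    obtain ⟨I, hI⟩ : ∃ I : Finset (Fin (2 ^ n + 1)), I = Finset.univ.filter fun i => g i = 1 := ⟨_, rfl⟩
    have hgI : ∀ i, g i = if i ∈ I then 1 else 0 := fun i => by
      rw [hI]; rcases zmod2_cases (g i) with h | h <;> simp [h]
    have hIeven : Even I.card := by
      have h1 : ((I.card : ℕ) : ZMod 2) = 0 := by
        rw [← hg, Finset.sum_congr rfl fun i _ => hgI i, Finset.sum_boole]
        congr 2
        ext; simp
      exact even_iff_two_dvd.2 ((ZMod.natCast_eq_zero_iff_even).1 h1 |>.two_dvd)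
    refine ⟨∑ k ∈ I, (e k + e z), ?_⟩
    rw [map_sum]
    funext i
    have h2 : ∀ k ∈ I, ψ (e k + e z) i = dl k i + dl z i := fun k _ => by
      by_cases hk : k = z
      · rw [hk, hS.two, map_zero, zmod2_add_self]; rfl
      · exact congrFun (hpairψ k z hk) i
    rw [Finset.sum_apply, Finset.sum_congr rfl h2, Finset.sum_add_distrib, Finset.sum_const,
      even_smul hIeven (zmod2_add_self _), add_zero, hgI]
    simp [dl]
  -- the representation
  obtain ⟨R, hR⟩ : ∃ R : P → Equiv.Perm (Fin (2 ^ n + 1)) → Prop,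
      R = fun x σ => ∀ v i, ψ (act x v) i = ψ v (σ⁻¹ i) := ⟨_, rfl⟩
  have hgen : ∀ b i j φ, i ≠ j → Tr act b (e i + e j) φ → R b (Equiv.swap i j) := by
    intro b i j φ hij hb
    rw [hR]
    intro v k
    rw [hb.eq, map_add, zs, map_nsmul, hpairψ i j hij, Pi.add_apply, Pi.smul_apply, Equiv.swap_inv,
      show φ v = ψ v i + ψ v j by rw [hdiff i j hij, hb.fc_eq hP]]
    show ψ v k + zs (ψ v i + ψ v j) (dl i k + dl j k) = _
    by_cases hki : k = i
    · subst hki
      rw [Equiv.swap_apply_left]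
      simp only [dl, if_pos rfl, if_neg hij.symm, add_zero]
      generalize ψ v k = r; generalize ψ v j = r'; revert r r'; unfold zs; decide
    · by_cases hkj : k = j
      · subst hkj
        rw [Equiv.swap_apply_right]
        simp only [dl, if_pos rfl, if_neg hij, zero_add]
        generalize ψ v k = r; generalize ψ v i = r'; revert r r'; unfold zs; decide
      · rw [Equiv.swap_apply_of_ne_of_ne hki hkj]
        simp [dl, zs, Ne.symm hki, Ne.symm hkj]
  have hex : ∀ x ∈ blk act e, ∃ σ, R x σ := by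
    intro x hx
    induction hx using Subgroup.closure_induction with
    | mem b hb => obtain ⟨i, j, φ, hij, hb⟩ := hb; exact ⟨_, hgen b i j φ hij hb⟩
    | one => exact ⟨1, by rw [hR]; intro v i; rw [OffSL2.act_one]; simp⟩
    | mul a b _ _ iha ihb =>
      obtain ⟨σ, hσ⟩ := iha; obtain ⟨τ, hτ⟩ := ihb
      refine ⟨σ * τ, ?_⟩
      rw [hR] at hσ hτ ⊢
      intro v i
      rw [OffSL2.act_mul, hσ, hτ, mul_inv_rev]; rfl
    | inv a _ iha =>
      obtain ⟨σ, hσ⟩ := iha
      refine ⟨σ⁻¹, ?_⟩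
      rw [hR] at hσ ⊢
      intro v i
      have h1 := hσ (act a⁻¹ v) (σ i)
      rw [OffSL2.act_inv', Equiv.Perm.inv_def, Equiv.symm_apply_apply] at h1
      rw [← h1, inv_inv]
  have hfaith : ∀ σ τ : Equiv.Perm (Fin (2 ^ n + 1)), (∀ v i, ψ v (σ⁻¹ i) = ψ v (τ⁻¹ i)) → σ = τ := by
    intro σ τ h
    refine inv_injective (Equiv.ext fun i => ?_)
    by_contra hne
    obtain ⟨k, hk⟩ : ∃ k, k ∉ ({σ⁻¹ i, τ⁻¹ i} : Finset (Fin (2 ^ n + 1))) := by
      obtain ⟨k, -, hk⟩ := Finset.exists_mem_notMem_of_card_lt_card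
        (s := ({σ⁻¹ i, τ⁻¹ i} : Finset (Fin (2 ^ n + 1)))) (t := Finset.univ) (by
          rw [Finset.card_univ, Fintype.card_fin]
          exact lt_of_le_of_lt Finset.card_le_two (by omega))
      exact ⟨k, hk⟩
    simp only [Finset.mem_insert, Finset.mem_singleton, not_or] at hk
    obtain ⟨v, hv⟩ := hsurj (fun l => dl (σ⁻¹ i) l + dl k l) (by
      rw [Finset.sum_add_distrib, sum_dl, sum_dl, zmod2_add_self])
    have h1 := h v i
    rw [hv] at h1
    simp only [dl, if_pos rfl, if_neg hk.1, if_neg hne, if_neg hk.2, add_zero] at h1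
    exact one_ne_zero h1
  choose ρf hρf using fun x : blk act e => hex x x.2
  have hρv : ∀ (x : blk act e) v i, ψ (act (x : P) v) i = ψ v ((ρf x)⁻¹ i) := fun x v i => by
    have := hρf x; rw [hR] at this; exact this v i
  let ρ : blk act e →* Equiv.Perm (Fin (2 ^ n + 1)) := MonoidHom.mk' ρf fun a b => hfaith _ _ fun v i => by
    rw [← hρv, mul_inv_rev, Equiv.Perm.mul_apply, ← hρv, ← hρv, Subgroup.coe_mul, OffSL2.act_mul]
  refine ⟨n, ρ, ψ, hn, ⟨?_, ?_⟩, hsum0, hsurj, hker, hρv⟩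
  · rw [← MonoidHom.ker_eq_bot_iff, eq_bot_iff]
    intro x hx
    rw [MonoidHom.mem_ker] at hx
    have hψx : ∀ v, ψ (act (x : P) v) = ψ v := fun v => funext fun i => by
      rw [hρv]
      have : ρf x = 1 := hx
      simp [this]
    rw [Subgroup.mem_bot]
    refine Subtype.ext (hP.inj (AddMonoidHom.ext fun v => ?_))
    show act (x : P) v = act ((1 : blk act e) : P) v
    rw [OneMemClass.coe_one, OffSL2.act_one]
    obtain ⟨w, hw, hvw⟩ := (two_blocks hP).cover _ hE v
    have hcen : ∀ i j, i ≠ j → act (x : P) (e i + e j) = e i + e j := by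
      intro i j hij
      obtain ⟨b, φ, hb⟩ := hs.mem i j hij
      rcases hcl _ ⟨_, _, hb.conj (x : P)⟩ with ⟨k, l, hkl, he⟩ | horth
      · rw [he]
        have h1 := hψx (e i + e j)
        rw [he, hpairψ k l hkl, hpairψ i j hij] at h1
        have h2 := congrFun h1 i
        have h3 := congrFun h1 j
        simp only [dl, if_pos rfl, if_neg hij, if_neg hij.symm, add_zero, zero_add] at h2 h3
        by_cases hki : k = i
        · subst hki
          by_cases hlj : l = j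
          · rw [hlj]
          · simp [hlj, hij] at h3
        · by_cases hli : l = i
          · subst hli
            by_cases hkj : k = j
            · rw [hkj, add_comm]
            · simp [hkj, hij] at h3
          · simp [hki, hli] at h2
      · exfalso
        obtain ⟨u, hu⟩ : ∃ u, ψ (e i + e j) u = 1 := ⟨i, by rw [hpairψ i j hij]; simp [dl, hij.symm]⟩
        have h2 : ψ (act (x : P) (e i + e j)) = 0 := huniq _ 0 (by simp) fun k l hkl => by
          rw [hS.symm _ (hs.mem k l hkl) _ ⟨_, _, hb.conj (x : P)⟩, horth]; simp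
        rw [hψx] at h2
        rw [h2] at hu
        exact zero_ne_one hu
    have hw' : act (x : P) w = w := by
      have : img act (blk act e) ≤ fix act (zpowers (x : P)) := by
        refine (AddSubgroup.closure_le _).2 ?_
        rintro _ ⟨g, hg, u, rfl⟩ z' hz'
        refine (zpowers_le.2 ?_ : zpowers (x : P) ≤ stabV act (act g u - u)) hz'
        show act (x : P) (act g u - u) = act g u - u
        revert u
        induction hg using Subgroup.closure_induction with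
        | mem b hb =>
          intro u
          obtain ⟨i, j, φ, hij, hb⟩ := hb
          rw [hb.eq, add_sub_cancel_left, act_zs, hcen i j hij]
        | one => intro u; rw [OffSL2.act_one, sub_self, map_zero]
        | mul a b _ _ iha ihb =>
          intro u
          rw [OffSL2.act_mul, show act a (act b u) - u = (act a (act b u) - act b u) + (act b u - u) by abel,
            map_add, iha, ihb]
        | inv a _ iha =>
          intro u
          have h1 := iha (act a⁻¹ u)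
          rw [OffSL2.act_inv'] at h1
          rw [show act a⁻¹ u - u = -(u - act a⁻¹ u) by abel, map_neg, h1]
      exact this hw _ (mem_zpowers _)
    have h3 : act (x : P) (v - w) = v - w := hvw x x.2
    rw [map_sub, hw', sub_left_inj] at h3
    exact h3
  · rw [← MonoidHom.range_eq_top, eq_top_iff, ← Equiv.Perm.closure_isSwap, closure_le]
    rintro _ ⟨i, j, hij, rfl⟩
    obtain ⟨b, φ, hb⟩ := hs.mem i j hij
    refine ⟨⟨b, Tr.mem_blk hij hb⟩, hfaith _ _ fun v k => ?_⟩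
    show ψ v ((ρf ⟨b, Tr.mem_blk hij hb⟩)⁻¹ k) = _
    have h1 := hgen b i j φ hij hb
    rw [hR] at h1
    rw [← hρv, h1]

end CfsgLib.LocalEven.PMinFF
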