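import Cfsg.Agent.Lib.LocalEven.PMinFF.Pair

/-!
# The atoms of a given order in `T`

They commute, generate a weakly closed subgroup `E` and every one of them has a pair centralising the others.
A sum of nonzero commutators, one from each of them, has stabiliser inside `M`.
-/

set_option autoImplicit false
set_option linter.all false

namespace CfsgLib.LocalEven.PMinFF

open Subgroup CfsgLib.LocalEven.OffSL2

variable {P : Type*} [Group P] [Finite P] {p : ℕ} [Fact p.Prime]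
variable {U : Type*} [AddCommGroup U] [Finite U]
variable {act : P →* AddMonoid.End U} {T M : Subgroup P} {y : U}

/-- An atom of order `q`. -/
def AtQ (p : ℕ) (act : P →* AddMonoid.End U) (q : ℕ) (Z : Subgroup P) : Prop := Atom p act Z ∧ Nat.card Z = q

/-- The atoms of order `q` in `T`. -/
def sig (p : ℕ) (act : P →* AddMonoid.End U) (T : Subgroup P) (q : ℕ) : Set (Subgroup P) :=
  {Z | AtQ p act q Z ∧ Z ≤ T}

omit [Finite U] in
theorem AtQ.cj {q : ℕ} {Z : Subgroup P} (h : AtQ p act q Z) (x : P) : AtQ p act q (cj x Z) :=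
  ⟨h.1.cj x, (card_cj x Z).trans h.2⟩

variable (hP : PMod p act T M y) {q : ℕ}
include hP

theorem exists_into_T {Z : Subgroup P} (hZ : IsPGroup p Z) : ∃ k : P, cj k Z ≤ T := by
  obtain ⟨k, -, hk⟩ := hP.syl.exists_conj hZ le_top
  exact ⟨k, hk⟩

theorem commute_in_pgroup {X Y : Subgroup P} (hX : AtQ p act q X) (hY : AtQ p act q Y)
    (hp : IsPGroup p ↥(X ⊔ Y)) : ∀ a ∈ X, ∀ b ∈ Y, a * b = b * a := by
  obtain ⟨k, hk⟩ := exists_into_T hP hp
  intro a ha b hb
  have h := atoms_commute hP (hX.1.cj k) (hY.1.cj k) (by rw [card_cj, card_cj, hX.2, hY.2])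
    ((cj_mono le_sup_left).trans hk) ((cj_mono le_sup_right).trans hk) _ (conj_mem_cj ha) _ (conj_mem_cj hb)
  simpa [mul_assoc] using congrArg (fun z => k⁻¹ * z * k) h

theorem sig_comm : ∀ X ∈ sig p act T q, ∀ Y ∈ sig p act T q, ∀ a ∈ X, ∀ b ∈ Y, a * b = b * a :=
  fun X hX Y hY => atoms_commute hP hX.1.1 hY.1.1 (hX.1.2.trans hY.1.2.symm) hX.2 hY.2

theorem sig_exact : Exact p act (sSup (sig p act T q)) ∧ Quad act (sSup (sig p act T q)) :=
  exact_sSup hP (fun X hX => hX.1.1) (sig_comm hP)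

omit hP in
theorem sSup_sig_le : sSup (sig p act T q) ≤ T := sSup_le fun X hX => hX.2

omit hP in
theorem cj_sig_eq {g : P} (h : cj g (sSup (sig p act T q)) ≤ T) : cj g '' sig p act T q = sig p act T q := by
  refine Set.eq_of_subset_of_ncard_le ?_ ?_ (Set.toFinite _)
  · rintro _ ⟨X, hX, rfl⟩
    exact ⟨hX.1.cj g, (cj_mono (le_sSup hX)).trans h⟩
  · rw [Set.ncard_image_of_injective]
    intro X Y e
    have := congrArg (cj g⁻¹) e
    rwa [cj_cj, cj_cj, inv_mul_cancel, cj_one, cj_one] at this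

omit hP in
theorem cj_sSup_sig {g : P} (h : cj g (sSup (sig p act T q)) ≤ T) :
    cj g (sSup (sig p act T q)) = sSup (sig p act T q) := by
  refine eq_of_le_of_card_ge ?_ (card_cj g _).ge
  refine map_le_iff_le_comap.2 (sSup_le fun X hX => ?_)
  rw [← map_le_iff_le_comap]
  exact le_sSup ((cj_sig_eq h).le ⟨X, hX, rfl⟩)

theorem mem_M_of_cj_le (hne : (sig p act T q).Nonempty) {g : P} (h : cj g (sSup (sig p act T q)) ≤ T) : g ∈ M := by
  obtain ⟨E, hE⟩ : ∃ E, E = sSup (sig p act T q) := ⟨_, rfl⟩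
  have hN : Subgroup.normalizer (E : Set P) ≤ M := by
    refine hP.pmin _ (fun t ht => mem_normalizer_of_conj (cj_le.1 ?_)) fun htop => ?_
    · rw [hE]; exact (cj_sSup_sig (cj_le_of_mem ht sSup_sig_le)).le
    · obtain ⟨X, hX⟩ := hne
      have := hP.nop E (hE ▸ hP.syl.pgr.to_le sSup_sig_le) fun g n hn =>
        (mem_normalizer_iff.1 (htop.ge (mem_top g)) n).1 hn
      exact hX.1.1.ne (le_bot_iff.1 (this ▸ hE ▸ le_sSup hX))
  refine hN (mem_normalizer_of_conj (cj_le.1 ?_))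
  rw [hE]; exact (cj_sSup_sig h).le

theorem commset_card_le {S : Set (Subgroup P)} (hS : ∀ X ∈ S, AtQ p act q X)
    (hc : ∀ X ∈ S, ∀ Y ∈ S, ∀ a ∈ X, ∀ b ∈ Y, a * b = b * a) : S.ncard ≤ (sig p act T q).ncard := by
  obtain ⟨k, hk⟩ := exists_into_T hP (exact_sSup hP (fun X hX => (hS X hX).1) hc).1.el.isPGroup
  refine Set.ncard_le_ncard_of_injOn (cj k) (fun X hX => ⟨(hS X hX).cj k, (cj_mono (le_sSup hX)).trans hk⟩)
    (fun X _ Y _ e => ?_) (Set.toFinite _)
  have := congrArg (cj k⁻¹) e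
  rwa [cj_cj, cj_cj, inv_mul_cancel, cj_one, cj_one] at this

theorem mem_sig_of_commute {Z : Subgroup P} (hZ : AtQ p act q Z)
    (hc : ∀ X ∈ sig p act T q, ∀ a ∈ Z, ∀ b ∈ X, a * b = b * a) : Z ∈ sig p act T q := by
  by_contra hn
  have h := commset_card_le hP (q := q) (S := insert Z (sig p act T q)) ?_ ?_
  · rw [Set.ncard_insert_of_notMem hn (Set.toFinite _)] at h
    omega
  · rintro X (rfl | hX)
    exacts [hZ, hX.1]
  · rintro X (rfl | hX) Y (rfl | hY)
    exacts [hZ.1.el.comm, hc Y hY, fun a ha b hb => (hc X hX b hb a ha).symm, sig_comm hP X hX Y hY]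

omit hP [Finite P] [Fact p.Prime] [Finite U] in
theorem Pair.conj {B L : Subgroup P} (h : Pair act M B L) {k : P} (hk : k ∈ M) :
    Pair act M (cj k B) (cj k L) := by
  have hmem : ∀ l, l ∈ PMinFF.cj k L → k⁻¹ * l * k ∈ L := fun l hl => mem_cj.1 hl
  have hback : ∀ l, PMinFF.cj l (PMinFF.cj k B) = PMinFF.cj k (PMinFF.cj (k⁻¹ * l * k) B) := fun l => by
    rw [cj_cj, cj_cj]; congr 1; group
  refine ⟨cj_mono h.le, fun hle => h.notM fun l hl => ?_, fun v => ?_, fun l hl hne => ?_, fun b hb u hu => ?_, ?_, ?_⟩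
  · have := M.mul_mem (M.mul_mem (M.inv_mem hk) (hle (conj_mem_cj hl))) hk
    simpa [mul_assoc] using this
  · obtain ⟨l, hl, hv⟩ := h.cover (act k⁻¹ v)
    refine ⟨k * l * k⁻¹, conj_mem_cj hl, ?_⟩
    rw [cj_cj, show k * l * k⁻¹ * k = k * l by group, ← cj_cj]
    exact (mem_fix_conj act).2 hv
  · rw [hback] at hne ⊢
    rw [PMinFF.cj, PMinFF.cj, PMinFF.cj, ← Subgroup.map_sup]
    exact congrArg _ (h.gen2 _ (hmem l hl) fun e => hne (by rw [e]))
  · obtain ⟨b0, hb0, rfl⟩ := hb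
    have hu' : act k⁻¹ (act (k * b0 * k⁻¹) u - u) ∈ fix act L := (mem_fix_conj act).1 hu
    rw [map_sub, ← OffSL2.act_mul, show k⁻¹ * (k * b0 * k⁻¹) = b0 * k⁻¹ by group, OffSL2.act_mul] at hu'
    show act (k * b0 * k⁻¹) u = u
    rw [OffSL2.act_mul, OffSL2.act_mul, h.free b0 hb0 _ hu', OffSL2.act_inv']
  · obtain ⟨l, hl, hne⟩ := h.moves
    refine ⟨k * l * k⁻¹, conj_mem_cj hl, fun e => hne ?_⟩
    rw [hback, show k⁻¹ * (k * l * k⁻¹) * k = l by group] at e
    have := congrArg (PMinFF.cj k⁻¹) e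
    rwa [cj_cj, inv_mul_cancel, cj_one, cj_cj, inv_mul_cancel, cj_one] at this
  · obtain ⟨F, iF, iFF, ψ, ρ, hc, hρ, hψ, hker, heq⟩ := h.nat
    refine ⟨F, iF, iFF, ψ.comp (act k⁻¹ : U →+ U),
      ρ.comp ((L.equivMapOfInjective (MulAut.conj k).toMonoidHom (MulAut.conj k).injective).symm.toMonoidHom),
      hc.trans (card_cj k B).symm, hρ.comp (MulEquiv.bijective _), ?_, fun v => ?_, fun l v => ?_⟩
    · exact hψ.comp fun v => ⟨act k v, OffSL2.act_inv act k v⟩
    · exact (hker _).trans (mem_fix_conj act).symm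
    · obtain ⟨l0, hl0⟩ := (L.equivMapOfInjective (MulAut.conj k).toMonoidHom (MulAut.conj k).injective).surjective l
      subst hl0
      have he : ((L.equivMapOfInjective (MulAut.conj k).toMonoidHom (MulAut.conj k).injective l0 : _) : P) =
          k * l0 * k⁻¹ := rfl
      show ψ (act k⁻¹ (act _ v)) = mv _ (ψ (act k⁻¹ v))
      rw [he, ← OffSL2.act_mul, show k⁻¹ * (k * (l0 : P) * k⁻¹) = l0 * k⁻¹ by group, OffSL2.act_mul, heq]
      refine congrArg (fun z => mv (ρ z) (ψ (act k⁻¹ v))) ?_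
      exact ((L.equivMapOfInjective (MulAut.conj k).toMonoidHom (MulAut.conj k).injective).symm_apply_apply l0).symm

theorem stable_sig {B : Subgroup P} (hB : B ∈ sig p act T q) : Stable T (sSup (sig p act T q)) B :=
  Or.inr fun x z hx hz a ha b hb => by
    rw [cj_sSup_sig hx] at ha
    exact (sig_exact hP).1.el.comm a ha b (le_sSup (show cj z B ∈ sig p act T q from ⟨hB.1.cj z, hz⟩) hb)

/-- Every atom in `T` has a pair centralising the others. -/
theorem exists_pair {B : Subgroup P} (hB : B ∈ sig p act T q) :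
    ∃ L, Pair act M B L ∧ ∀ D ∈ sig p act T q, D ≠ B →
      (∀ d ∈ D, ∀ l ∈ L, d * l = l * d) ∧ ∀ d ∈ D, ∀ u, act d u - u ∈ fix act L := by
  obtain ⟨h0, L, hc⟩ := exists_minC hP sSup_sig_le (le_sSup hB) hB.1.1.ne (stable_sig hP hB)
  have hle : cj h0 (sSup (sig p act T q)) ≤ T := hc.AT.trans inf_le_left
  have h0M := mem_M_of_cj_le hP ⟨B, hB⟩ hle
  obtain ⟨L0, -, hpair, hoth⟩ := hc.pair hP ((sig_exact hP).1.cj h0) ((sig_exact hP).2.cj h0) (hB.1.1.cj h0)
    (cj_mono (le_sSup hB)) hc.BQ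
  have h1 := hpair.conj (M.inv_mem h0M)
  rw [cj_cj, inv_mul_cancel, cj_one] at h1
  refine ⟨cj h0⁻¹ L0, h1, fun D hD hne => ?_⟩
  obtain ⟨h2, h3⟩ := hoth (cj h0 D) (hD.1.1.cj h0) (cj_mono (le_sSup hD)) fun e => hne <| by
    have := congrArg (cj h0⁻¹) e
    rwa [cj_cj, cj_cj, inv_mul_cancel, cj_one, cj_one] at this
  refine ⟨fun d hd l hl => ?_, fun d hd u => (mem_fix_conj act).2 ?_⟩
  · have h4 := h2 _ (conj_mem_cj hd) _ (mem_cj.1 hl)
    rw [inv_inv] at h4
    simpa [mul_assoc] using congrArg (fun z => h0⁻¹ * z * h0) h4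
  · have h4 := h3 _ (conj_mem_cj hd) (act h0 u)
    rw [← OffSL2.act_mul, show h0 * d * h0⁻¹ * h0 = h0 * d by group, OffSL2.act_mul, ← map_sub] at h4
    rwa [inv_inv]

omit hP in
/-- A nonzero commutator of `D`. -/
def CVal (act : P →* AddMonoid.End U) (D : Subgroup P) (v : U) : Prop := (∃ b ∈ D, ∃ u, v = act b u - u) ∧ v ≠ 0

/-- A sum of nonzero commutators, one from each atom in `T`, has stabiliser in `M`. -/
theorem stab_sum_le {s : Finset (Subgroup P)} (hs : ∀ X, X ∈ s ↔ X ∈ sig p act T q) (hne : (sig p act T q).Nonempty)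
    (c : Subgroup P → U) (hc : ∀ X ∈ s, CVal act X (c X)) : stabV act (∑ X ∈ s, c X) ≤ M := by
  classical
  obtain ⟨E, hE⟩ : ∃ E, E = sSup (sig p act T q) := ⟨_, rfl⟩
  have hEx : Exact p act E := hE ▸ (sig_exact hP).1
  have hEq : Quad act E := hE ▸ (sig_exact hP).2
  obtain ⟨v, hv⟩ : ∃ v, v = ∑ X ∈ s, c X := ⟨_, rfl⟩
  obtain ⟨H, hH⟩ : ∃ H, H = stabV act v := ⟨_, rfl⟩
  rw [← hv, ← hH]
  have hEH : E ≤ H := fun e he => hH ▸ show act e v = v by
    rw [hv, map_sum]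
    refine Finset.sum_congr rfl fun X hX => ?_
    obtain ⟨⟨b, hb, u, hu⟩, -⟩ := hc X hX
    rw [hu]
    exact hEq b (hE ▸ le_sSup ((hs X).1 hX) hb) u e he
  by_contra hHM
  obtain ⟨S, hES, hS⟩ := exists_maxP hEx.el.isPGroup hEH
  obtain ⟨k, hk⟩ := exists_into_T hP hS.pgr
  have hkE : cj k E ≤ T := (cj_mono hES).trans hk
  have hkM : k ∈ M := mem_M_of_cj_le hP hne (hE ▸ hkE)
  have hkE' : cj k E = E := by rw [hE]; exact cj_sSup_sig (hE ▸ hkE)
  obtain ⟨H', hH'⟩ : ∃ H', H' = cj k H := ⟨_, rfl⟩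
  have hH'M : ¬ H' ≤ M := fun hle => hHM fun h hh => by
    have := M.mul_mem (M.mul_mem (M.inv_mem hkM) (hle (hH' ▸ conj_mem_cj (x := k) hh))) hkM
    simpa [mul_assoc] using this
  have hmax : MaxP p (T ⊓ H') H' := by
    have hle : cj k S ≤ T ⊓ H' := le_inf hk (hH' ▸ cj_mono hS.le)
    refine ⟨inf_le_right, hP.syl.pgr.to_le inf_le_left, fun X h1 h2 h3 => ?_⟩
    have h4 : cj k⁻¹ X ≤ H := (cj_mono h2).trans (by rw [hH', cj_cj, inv_mul_cancel, cj_one])
    have h5 := hS.max _ (show S ≤ cj k⁻¹ X from le_trans (by rw [cj_cj, inv_mul_cancel, cj_one])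
      (cj_mono (hle.trans h1))) h4 (isPGroup_cj h3)
    have h6 : X = cj k S := by rw [← h5, cj_cj, mul_inv_cancel, cj_one]
    exact le_antisymm (h6 ▸ hle) h1
  obtain ⟨R, ⟨hR1, hR2, hR3⟩, hRmin⟩ := Set.exists_min_image {R | R ≤ H' ∧ T ⊓ H' ≤ R ∧ ¬ R ≤ M}
    (fun R => Nat.card R) (Set.toFinite _) ⟨H', le_rfl, inf_le_right, hH'M⟩
  have hTR : T ⊓ R = T ⊓ H' := le_antisymm (inf_le_inf_left _ hR1) (le_inf inf_le_left hR2)
  have hET : E ≤ T ⊓ R := by
    rw [hTR]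
    exact le_inf (hE ▸ sSup_sig_le) (hH' ▸ hkE' ▸ cj_mono hEH)
  have hRmax : MaxP p (T ⊓ R) R := by
    rw [hTR]; exact hmax.mono hR2 hR1
  obtain ⟨D, hD, hDQ⟩ : ∃ D ∈ sig p act T q, ¬ D ≤ opc p R := by
    by_contra hall
    push Not at hall
    refine hR3 fun x hx => mem_M_of_cj_le hP hne ?_
    refine cj_le.2 fun e he => ((opc_le_maxP hRmax).trans inf_le_left) (opc_conj hx ((sSup_le hall) he))
  have hcand : IsCand p T M E D R := ⟨hR3, hRmax, fun X h1 h2 h3 => by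
      by_contra hXM
      exact h3 (eq_of_le_of_card_ge h2 (hRmin X ⟨h2.trans hR1, hTR ▸ h1, hXM⟩)),
    1, by rw [cj_one]; exact hET, by rw [cj_one]; exact hDQ⟩
  obtain ⟨h0, L, hLR, hmc⟩ := exists_minC_le hP (hE ▸ le_sSup hD) (hE ▸ stable_sig hP hD) hcand
  have hle : cj h0 E ≤ T := hmc.AT.trans inf_le_left
  have h0E : cj h0 E = E := by rw [hE]; exact cj_sSup_sig (hE ▸ hle)
  rw [h0E] at hmc
  have hB : cj h0 D ∈ sig p act T q := ⟨hD.1.cj h0, (cj_mono (hE ▸ le_sSup hD)).trans hle⟩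
  obtain ⟨L0, hL0, hpair, hoth⟩ := hmc.pair hP hEx hEq hB.1.1 (hE ▸ le_sSup hB) hmc.BQ
  have hkT : cj k (sSup (sig p act T q)) ≤ T := hE ▸ hkE
  obtain ⟨D0, hD0, hD0e⟩ := (cj_sig_eq hkT).ge hB
  have hfix : act k v ∈ fix act L0 := by
    intro l hl
    have h1 : l ∈ cj k H := hH' ▸ hR1 (hLR (hL0 hl))
    rw [mem_cj, hH] at h1
    have h2 : act (k⁻¹ * l * k) v = v := h1
    have h3 := congrArg (act k) h2
    rwa [← OffSL2.act_mul, show k * (k⁻¹ * l * k) = l * k by group, OffSL2.act_mul] at h3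
  have hD0s : D0 ∈ s := (hs D0).2 hD0
  rw [hv, map_sum, ← Finset.add_sum_erase s (fun X => act k (c X)) hD0s] at hfix
  have hrest : ∑ X ∈ s.erase D0, act k (c X) ∈ fix act L0 := by
    refine AddSubgroup.sum_mem _ fun X hX => ?_
    obtain ⟨hne', hXs⟩ := Finset.mem_erase.1 hX
    obtain ⟨⟨b, hb, u, hu⟩, -⟩ := hc X hXs
    have hXsig := (hs X).1 hXs
    have h1 := (hoth (cj k X) (hXsig.1.1.cj k) (hE ▸ le_sSup ((cj_sig_eq hkT).le ⟨X, hXsig, rfl⟩)) fun e => hne' (by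
      have := congrArg (cj k⁻¹) (e.trans hD0e.symm)
      rwa [cj_cj, cj_cj, inv_mul_cancel, cj_one, cj_one] at this)).2 _ (conj_mem_cj hb) (act k u)
    rwa [← OffSL2.act_mul, show k * b * k⁻¹ * k = k * b by group, OffSL2.act_mul, ← map_sub, ← hu] at h1
  obtain ⟨⟨b, hb, u, hu⟩, hc0⟩ := hc D0 hD0s
  have h1 : act k (c D0) ∈ fix act L0 := (add_mem_cancel_right hrest).1 hfix
  have h2 := hpair.free (k * b * k⁻¹) (hD0e ▸ conj_mem_cj hb) (act k u) (by
    rw [← OffSL2.act_mul, show k * b * k⁻¹ * k = k * b by group, OffSL2.act_mul, ← map_sub, ← hu]; exact h1)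
  rw [← OffSL2.act_mul, show k * b * k⁻¹ * k = k * b by group, OffSL2.act_mul] at h2
  exact hc0 (by rw [hu, OffSL2.act_injective act k h2, sub_self])

/-- An element whose commutators lie in `fix B` normalises `B`. -/
theorem normalizes_of_img {B : Subgroup P} (hB : Atom p act B) {x : P} (hx : ∀ u, act x u - u ∈ fix act B) :
    x ∈ normalizer (B : Set P) := by
  obtain ⟨C, hC⟩ : ∃ C, C = fix act B := ⟨_, rfl⟩
  let K : Subgroup P :=
    { carrier := {g | (∀ v ∈ C, act g v = v) ∧ ∀ u, act g u - u ∈ C}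
      one_mem' := ⟨fun v _ => OffSL2.act_one act v, fun u => by rw [OffSL2.act_one, sub_self]; exact C.zero_mem⟩
      mul_mem' := by
        rintro g h ⟨g1, g2⟩ ⟨h1, h2⟩
        refine ⟨fun v hv => by rw [OffSL2.act_mul, h1 v hv, g1 v hv], fun u => ?_⟩
        rw [OffSL2.act_mul, show act g (act h u) - u = (act g (act h u) - act h u) + (act h u - u) by abel]
        exact C.add_mem (g2 _) (h2 _)
      inv_mem' := by
        rintro g ⟨g1, g2⟩
        refine ⟨fun v hv => by conv_lhs => rw [← g1 v hv, OffSL2.act_inv], fun u => ?_⟩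
        have := C.neg_mem (g2 (act g⁻¹ u))
        rwa [OffSL2.act_inv', neg_sub] at this }
  have hK : El p K := by
    constructor
    · rintro g ⟨g1, g2⟩ h ⟨h1, h2⟩
      refine hP.inj (AddMonoidHom.ext fun u => ?_)
      show act (g * h) u = act (h * g) u
      obtain ⟨d, hd⟩ : ∃ d, d = act g u - u := ⟨_, rfl⟩
      obtain ⟨e, he⟩ : ∃ e, e = act h u - u := ⟨_, rfl⟩
      rw [OffSL2.act_mul, OffSL2.act_mul, eq_add_of_sub_eq hd.symm, eq_add_of_sub_eq he.symm, map_add, map_add,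
        g1 e (he ▸ h2 u), h1 d (hd ▸ g2 u), eq_add_of_sub_eq hd.symm, eq_add_of_sub_eq he.symm]
      abel
    · rintro g ⟨g1, g2⟩
      refine hP.inj (AddMonoidHom.ext fun u => ?_)
      have hstep : ∀ n : ℕ, act (g ^ n) u = u + n • (act g u - u) := by
        intro n
        induction n with
        | zero => rw [pow_zero, OffSL2.act_one, zero_smul, add_zero]
        | succ n ih => rw [pow_succ', OffSL2.act_mul, ih, map_add, map_nsmul, g1 _ (g2 u), succ_nsmul]; abel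
      show act (g ^ p) u = act 1 u
      rw [hstep, hP.hpU, add_zero, OffSL2.act_one]
  have hBK : B ≤ K := fun b hb => ⟨fun v hv => (hC ▸ hv : v ∈ fix act B) b hb, fun u => hC ▸ hB.quad hP b hb u⟩
  have hfK : C ≤ fix act K := fun v hv g hg => hg.1 v hv
  have hKB : K = B := by
    refine (eq_of_le_of_card_ge hBK (Nat.le_of_mul_le_mul_right ?_ (Nat.card_pos : 0 < Nat.card C))).symm
    calc Nat.card K * Nat.card C ≤ meas act K := Nat.mul_le_mul_left _ (card_le_fix act hfK)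
      _ ≤ Nat.card U := meas_le_card hP hK
      _ = _ := by rw [hC]; exact hB.eq.symm
  have hxC : ∀ v ∈ C, act x v ∈ C := fun v hv => by
    have h := C.add_mem (hC ▸ hx v) hv
    rwa [sub_add_cancel] at h
  have hxC' : ∀ v ∈ C, act x⁻¹ v ∈ C := fun v hv => by
    have h := C.add_mem (C.neg_mem (hC ▸ hx (act x⁻¹ v))) hv
    rwa [OffSL2.act_inv', neg_sub, sub_add_cancel] at h
  refine mem_normalizer_of_conj fun b hb => hKB.le ⟨fun v hv => ?_, fun u => ?_⟩
  · rw [OffSL2.act_mul, OffSL2.act_mul, (hBK hb).1 _ (hxC' v hv), OffSL2.act_inv']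
  · have : act (x * b * x⁻¹) u - u = act x (act b (act x⁻¹ u) - act x⁻¹ u) := by
      rw [map_sub, OffSL2.act_inv', OffSL2.act_mul, OffSL2.act_mul]
    rw [this]
    exact hxC _ ((hBK hb).2 _)

end CfsgLib.LocalEven.PMinFF
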